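import Cfsg.Agent.Lib.H9Gross
import Cfsg.Agent.Lib.GOA.Fpf2
import Cfsg.Agent.Lib.GOB.Full
import Cfsg.Agent.Lib.CO.A0a

/-! Fixed-point-free coprime elements of odd prime power order on solvable groups. -/

set_option autoImplicit false

namespace CfsgLib.CP

open Subgroup Cfsg CfsgLib.FT CfsgLib.FT.BGN CfsgLib.GW CfsgLib.Wal
open scoped commutatorElement

universe u

variable {X : Type u} [Group X] [Finite X]

/-- Shult, Gross: `[H, Ω₁⟨a⟩]` is nilpotent. -/
theorem shult {H : Subgroup X} {a : X} {p n : ℕ} (hp : p.Prime) (h2 : p ≠ 2)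
    (hs : Group.IsSolvable H) (hd : ¬ p ∣ Nat.card H) (ha : a ∈ 𝐍(H)) (hx : a ^ p ^ (n + 1) = 1)
    (hf : H ⊓ 𝐂[a] = ⊥) : Group.IsNilpotent ↥⁅H, zpowers (a ^ p ^ n)⁆ := by
  have h1 : H ≤ H ⊔ zpowers a := le_sup_left
  have h3 : a ∈ H ⊔ zpowers a := mem_sup_right (mem_zpowers a)
  have e := subgroupOfEquivOfLe h1
  haveI : (H.subgroupOf (H ⊔ zpowers a)).Normal :=
    normal_subgroupOf_of_le_normalizer (sup_le le_normalizer (zpowers_le.2 ha))
  have key := H9.step_one hp (n := n) (fun e => absurd e h2) ↥(H ⊔ zpowers a)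
    (H.subgroupOf (H ⊔ zpowers a)) ⟨a, h3⟩
    (solvable_of_solvable_injective (f := e.toMonoidHom) e.injective)
    (by rw [Nat.card_congr e.toEquiv]; exact (hp.coprime_iff_not_dvd.2 hd).symm)
    (map_injective (H ⊔ zpowers a).subtype_injective (by
        rw [Subgroup.map_sup, subgroupOf_map_subtype, inf_eq_left.2 h1, MonoidHom.map_zpowers,
          ← MonoidHom.range_eq_map, range_subtype]
        rfl)) (Subtype.ext hx) (by
      refine eq_bot_iff.2 fun x hx' => mem_bot.2 (Subtype.ext (mem_bot.1 (hf ▸ ⟨hx'.1, ?_⟩)))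
      exact mem_centralizer_singleton_iff.2
        (congrArg Subtype.val (hx'.2 _ (mem_zpowers _))).symm)
  have k2 := congrArg (map (H ⊔ zpowers a).subtype) key
  rw [H9.map_lfs, Subgroup.map_bot, map_commutator, subgroupOf_map_subtype, inf_eq_left.2 h1,
    MonoidHom.map_zpowers] at k2
  exact H9.res_eq_bot_iff.1 k2

/-- The case of groups of order prime to `3`. -/
theorem solvable_of_not_three {G : Subgroup X} {a : X} {p k : ℕ} (hp : p.Prime)
    (hx : a ^ p ^ k = 1) (ha : a ∈ 𝐍(G)) (hd : ¬ p ∣ Nat.card G) (hf : G ⊓ 𝐂[a] = ⊥)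
    (h3 : GO.S3F G) : Group.IsSolvable G := by
  haveI := Fact.mk hp
  refine h3.kg_full.solvable_of_fpf (A := zpowers a)
    (G.normalizerMonoidHom.comp (inclusion (zpowers_le.2 ha))) (fun g hg => ?_) fun q hq hq' => ?_
  · have := congrArg Subtype.val (hg ⟨a, mem_zpowers a⟩)
    refine Subtype.ext (mem_bot.1 (hf ▸ ⟨g.2, mem_centralizer_singleton_iff.2 ?_⟩))
    have h4 : a * g * a⁻¹ = g := this
    rw [mul_inv_eq_iff_eq_mul] at h4
    exact h4.symm
  · haveI := Fact.mk hq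
    exact PCompl.hnpc_of_isMulCommutative

end CfsgLib.CP
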