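import Cfsg.Agent.Lib.CP.Defs
import Cfsg.Agent.Lib.CP.Shult
import Cfsg.Agent.Lib.FP.Cam

set_option autoImplicit false

namespace CfsgLib.CP

open Subgroup Cfsg CfsgLib.FT CfsgLib.FT.BGN CfsgLib.GW CfsgLib.Wal

universe u

attribute [local instance] Cit.factTwo

/-- No minimal counterexample in universe `u`. -/
def NoCP0 : Prop := ∀ (X : Type u) [Group X] [Finite X] (G T : Subgroup X) (a : X) (p : ℕ),
  CP0 G T a p → False

/-- The theorem for groups of order `n`. -/
def FPFn (n : ℕ) : Prop :=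
  ∀ (X : Type u) [Group X] [Finite X] (G : Subgroup X) (a : X) (p k : ℕ), Nat.card G = n →
    p.Prime → a ^ p ^ k = 1 → a ∈ 𝐍(G) → ¬ p ∣ Nat.card G → G ⊓ 𝐂[a] = ⊥ → Group.IsSolvable G

section

variable {X : Type u} [Group X] [Finite X] {G : Subgroup X} {a : X} {p k : ℕ}

theorem a0_step (h : NoCP0.{u}) (ih : ∀ m < Nat.card G, FPFn.{u} m) (hr : p.Prime)
    (ha : a ^ p ^ k = 1) (hn : a ∈ 𝐍(G)) (hd : ¬ p ∣ Nat.card G) (hf : G ⊓ 𝐂[a] = ⊥)
    (hs : G ⊔ zpowers a = ⊤) (hfa : 𝐂(G) ⊓ zpowers a = ⊥) : Group.IsSolvable G := by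
  by_contra hns
  haveI := Fact.mk hr
  haveI hG : G.Normal :=
    normalizer_eq_top_iff.1 (eq_top_iff.2 (hs ▸ sup_le le_normalizer (zpowers_le.2 hn)))
  have hev : ¬ Odd (Nat.card G) := fun e => hns (solvable_of_odd e)
  have h2 : p ≠ 2 := by
    rintro rfl
    exact hd (Nat.not_odd_iff_even.1 hev).two_dvd
  have h3 : p ≠ 3 := by
    rintro rfl
    exact hns (solvable_of_not_three hr ha hn hd hf (GO.s3f_of_not_three_dvd hd))
  have h5 : 5 ≤ p := hr.five_le_of_ne_two_of_ne_three h2 h3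
  have ho : Nat.card (zpowers a) ∣ p ^ k := by
    rw [Nat.card_zpowers]; exact orderOf_dvd_of_pow_eq_one ha
  have hA : IsPGroup p (zpowers a) := by
    obtain ⟨j, -, hj⟩ := (Nat.dvd_prime_pow hr).1 ho
    exact IsPGroup.of_card hj
  have hi : G.index ∣ p ^ k := by
    rw [← relIndex_top_right, ← hs, sup_comm, relIndex_sup_right]
    exact (relIndex_dvd_card _ _).trans ho
  have hi2 : ¬ 2 ∣ G.index := fun e =>
    h2 ((Nat.prime_dvd_prime_iff_eq Nat.prime_two hr).1
      (Nat.prime_two.dvd_of_dvd_pow (e.trans hi))).symm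
  have hf' : ∀ z ∈ G, Commute z a → z = 1 := fun z hz e =>
    mem_bot.1 (hf ▸ ⟨hz, mem_centralizer_singleton_iff.2 e⟩)
  have sol : ∀ H : Subgroup X, H < G → a ∈ 𝐍(H) → Group.IsSolvable H := fun H h3 h4 =>
    ih _ (card_lt_card_of_lt h3) X H a p k rfl hr ha h4
      (fun e => hd (e.trans (card_dvd_of_le h3.le)))
      (eq_bot_iff.2 ((inf_le_inf_right _ h3.le).trans hf.le))
  have mn : ∀ N ≤ G, N.Normal → N ≠ ⊥ → N = G := by
    intro N h3 h4 h5
    by_contra h6
    have h7 := sol N (lt_of_le_of_ne h3 h6) (IG.mem_norm_of_normal h4 a)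
    let f := QuotientGroup.mk' N
    have hk : f.ker = N := QuotientGroup.ker_mk' N
    have h8 : Nat.card (G.map f) * Nat.card N = Nat.card G := by
      rw [← relIndex_ker, hk, ← Nat.card_congr (subgroupOfEquivOfLe h3).toEquiv, mul_comm]
      exact card_mul_index _
    have h9 : Group.IsSolvable (G.map f) := by
      refine ih _ ?_ _ (G.map f) (f a) p k rfl hr (by rw [← map_pow, ha, map_one])
        (le_normalizer_map f ⟨a, hn, rfl⟩) (fun e => hd (h8 ▸ e.mul_right _)) (eq_bot_iff.2 ?_)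
      · rw [← h8]
        exact lt_mul_of_one_lt_right Nat.card_pos (one_lt_card_iff_ne_bot N |>.2 h5)
      · rintro _ ⟨⟨z, hz, rfl⟩, h11⟩
        obtain ⟨c, hc, e⟩ := H5.centralizer_map_le_of_coprime f (QuotientGroup.mk'_surjective N)
          (p := p) (by
            rw [hk]
            exact (hr.coprime_iff_not_dvd.2 fun e => hd (e.trans (card_dvd_of_le h3))).symm) hA
          (x := f z) (by
            rw [MonoidHom.map_zpowers, U4.cent_zpowers]
            exact h11)
        have hcG : c ∈ G := by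
          have : c * z⁻¹ ∈ G := h3 (hk ▸ (by
            rw [MonoidHom.mem_ker, map_mul, map_inv, e, mul_inv_cancel] : c * z⁻¹ ∈ f.ker))
          simpa using mul_mem this hz
        rw [← e, hf' c hcG (hc a (mem_zpowers a)).symm, map_one]
        exact one_mem _
    refine hns (solvable_of_ker_le_range (inclusion h3) (f.subgroupMap G) fun x hx => ?_)
    exact ⟨⟨x, hk ▸ (congrArg Subtype.val hx : f x = 1)⟩, rfl⟩
  have two : ∀ A : Subgroup X, IsPGroup 2 A → A ≤ G := fun A h3 x hx => by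
    obtain ⟨k, hk⟩ := IsPGroup.iff_orderOf.1 h3 ⟨x, hx⟩
    have h4 : orderOf ((x : X ⧸ G)) = 1 := Nat.eq_one_of_dvd_coprimes
      ((Nat.prime_two.coprime_iff_not_dvd.2 hi2).pow_left k)
      (by rw [← hk, ← orderOf_coe]; exact orderOf_map_dvd (QuotientGroup.mk' G) x)
      (orderOf_dvd_natCard _)
    exact (QuotientGroup.eq_one_iff x).1 (orderOf_eq_one_iff.1 h4)
  have key : ∀ L ≤ G, G ≤ 𝐍(L) → HasNormalPComplement 2 L → L = ⊥ := fun L h3 h4 =>
    IG.eq_bot_of_hnpc (K := G) (fun A b1 b2 b3 => by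
        by_contra b4
        exact hev (mn A b1 b2 b4 ▸ b3))
      (fun A b1 b2 => by
        by_contra b4
        have := (mn A (two A b2) b1 b4 ▸ b2 : IsPGroup 2 G).isNilpotent
        exact hns inferInstance) le_rfl h3 h4
  have hG0 : G ≠ ⊥ := fun e => hev (by simp [e])
  have hsim : ∀ L ≤ G, G ≤ 𝐍(L) → L ≠ ⊥ → L = G := by
    intro L₀ a1 a2 a3
    obtain ⟨L, ⟨b1, b2, b3⟩, hL⟩ := (wellFounded_lt (α := Subgroup X)).has_min
      {L | L ≤ L₀ ∧ G ≤ 𝐍(L) ∧ L ≠ ⊥} ⟨L₀, le_rfl, a2, a3⟩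
    have b4 := b1.trans a1
    have mL : ∀ Y ≤ L, G ≤ 𝐍(Y) → Y ≠ ⊥ → Y = L := fun Y c1 c2 c3 =>
      eq_of_le_of_not_lt c1 (hL _ ⟨c1.trans b1, c2, c3⟩)
    suffices a ∈ 𝐍(L) from le_antisymm a1 ((mn L b4 (normalizer_eq_top_iff.1
      (eq_top_iff.2 (hs ▸ sup_le b2 (zpowers_le.2 this)))) b3).ge.trans b1)
    by_contra hg
    have hab : ¬ L ≤ 𝐂(L) := fun d4 => by
      have : IsMulCommutative L := ⟨⟨fun x y => Subtype.ext (d4 y.2 x x.2)⟩⟩
      exact b3 (key L b4 b2 PCompl.hnpc_of_isMulCommutative)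
    have hex : ∃ m, 0 < m ∧ a ^ m ∈ 𝐍(L) := ⟨p ^ k, pow_pos hr.pos _, ha ▸ one_mem _⟩
    classical
    obtain ⟨m0, m1⟩ := Nat.find_spec hex
    have m2 : ∀ j, 0 < j → j < Nat.find hex → a ^ j ∉ 𝐍(L) := fun j j1 j2 e =>
      Nat.find_min hex j2 ⟨j1, e⟩
    generalize Nat.find hex = m at m0 m1 m2
    have c0 : ∀ t ∈ L, ∀ j, 0 < j → j < m → a ^ j * t * (a ^ j)⁻¹ ∈ 𝐂(L) := by
      intro t ht j j1 j2
      have hj := m2 j j1 j2
      generalize a ^ j = g at hj
      have hgN : g •ᶜ G = G := Cit.cj_eq (IG.mem_norm_of_normal hG g)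
      have c1 : g •ᶜ L ≤ G := hgN ▸ map_mono b4
      have c2 : G ≤ 𝐍(g •ᶜ L) := by
        rw [Cit.norm_cj, ← hgN]
        exact map_mono b2
      have c3 : L ⊓ g •ᶜ L = ⊥ := by
        by_contra c4
        refine hj (Cit.mem_norm (eq_of_le_of_card_ge (inf_eq_left.1
          (mL _ inf_le_left (H1.le_normalizer_inf b2 c2) c4)) ?_).symm)
        rw [card_map_of_injective (MulAut.conj g).injective]
      have hv : g * t * g⁻¹ ∈ g •ᶜ L := Cit.cj_mem ht
      generalize g * t * g⁻¹ = v at hv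
      intro x hx
      have c5 : x * v * x⁻¹ * v⁻¹ ∈ L ⊓ g •ᶜ L :=
        ⟨by simpa [mul_assoc] using mul_mem hx (Cit.cmem (b2 (c1 hv)) (inv_mem hx)),
          (g •ᶜ L).mul_mem (Cit.cmem (c2 (b4 hx)) hv) (inv_mem hv)⟩
      rw [c3, mem_bot, mul_inv_eq_one, mul_inv_eq_iff_eq_mul] at c5
      exact c5
    have d5 : L ⊓ 𝐂(L) = ⊥ := by
      by_contra e'
      exact hab (inf_eq_left.1 (mL (L ⊓ 𝐂(L)) inf_le_left (H1.le_normalizer_inf b2
        (b2.trans (FrobNPC.normalizer_le_normalizer_centralizer L))) e'))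
    have d6 : Group.IsSolvable L := by
      refine ih _ (card_lt_card_of_lt (lt_of_le_of_ne b4 fun e => hg (e ▸ hn))) X L (a ^ m) p k rfl
        hr (by rw [← pow_mul, mul_comm, pow_mul, ha, one_pow]) m1
        (fun e => hd (e.trans (card_dvd_of_le b4))) (eq_bot_iff.2 fun t ht => ?_)
      obtain ⟨c, hc, e⟩ := CO.a0_prod (b4 ht.1) (c0 t ht.1) (m - 1) (Nat.sub_one_lt m0.ne')
      rw [Nat.sub_add_cancel m0] at e
      have d1 : Commute t c := hc.1 t ht.1
      have d0 : Commute t (a ^ m) := mem_centralizer_singleton_iff.1 ht.2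
      have d2 : Commute (t * c) a := by
        have d7 : Commute (t * c) (t * a) := by
          have := ((Commute.refl (t * a)).pow_left m).mul_left
            (d0.symm.mul_right ((Commute.refl a).pow_left m)).inv_left
          rwa [e, mul_inv_cancel_right] at this
        have := ((Commute.refl t).mul_left d1.symm).inv_right.mul_right d7
        rwa [inv_mul_cancel_left] at this
      have d3 := hf' _ (mul_mem (b4 ht.1) hc.2) d2
      rw [mul_eq_one_iff_eq_inv] at d3
      exact d5.le ⟨ht.1, d3 ▸ (𝐂(L)).inv_mem hc.1⟩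
    have : Nontrivial L := (nontrivial_iff_ne_bot L).2 b3
    have hlt : ⁅L, L⁆ < L := by
      rw [← L.range_subtype, MonoidHom.range_eq_map, ← map_commutator, map_subtype_lt_map_subtype]
      exact Group.IsSolvable.commutator_lt_top_of_nontrivial L
    refine hab (commutator_eq_bot_iff_le_centralizer.1 ?_)
    by_contra e'
    exact hlt.ne (mL _ hlt.le (Cop.le_normalizer_commutator b2 b2) e')
  obtain ⟨T, hT, hTa⟩ := FT.exists_inv_sylow 2 (zpowers_le.2 hn)
    (((hr.coprime_iff_not_dvd.2 hd).pow_left k).coprime_dvd_left ho) (Or.inl inferInstance)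
  have := (nontrivial_iff_ne_bot G).2 hG0
  refine h X G T a p ⟨hr, h5, ⟨k, ha⟩, hG, ⟨fun H hH => or_iff_not_imp_left.2 fun h0 => ?_⟩,
    fun hc => hG0 (key G le_rfl le_normalizer PCompl.hnpc_of_isMulCommutative), hs, hd,
    ⟨le_top, hT.isPGroup, fun e => ?_⟩, hT.le, hTa (mem_zpowers a), hf, hfa, sol⟩
  · have := hsim _ (map_subtype_le H) (fun g hg => le_normalizer_map G.subtype
      ⟨⟨g, hg⟩, IG.mem_norm_of_normal hH _, rfl⟩)
      (by rwa [Ne, map_eq_bot_iff_of_injective _ G.subtype_injective])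
    exact map_injective G.subtype_injective (this.trans (by simp [← MonoidHom.range_eq_map]))
  · rw [relIndex_top_right, ← relIndex_mul_index hT.le] at e
    exact (Nat.prime_two.dvd_mul.1 e).elim hT.not_dvd hi2

end

theorem fpfp_of_noCP0 (h : NoCP0.{u}) : FP.FPFp.{u} := by
  have key : ∀ n, FPFn.{u} n := by
    intro n
    induction n using Nat.strong_induction_on with
    | _ n ih =>
    intro X _ _ G a p k hc hr ha hn hd hf
    let α : MulAut G := G.normalizerMonoidHom ⟨a, hn⟩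
    let φ : zpowers α →* MulAut G := (zpowers α).subtype
    have := CopAut.finite_semidirect (φ := φ)
    let b : zpowers α := ⟨α, mem_zpowers α⟩
    have hb : b ^ p ^ k = 1 := Subtype.ext (by
      change α ^ p ^ k = 1
      rw [← map_pow, show (⟨a, hn⟩ : 𝐍(G)) ^ p ^ k = 1 from Subtype.ext ha, map_one])
    have hR : zpowers (SemidirectProduct.inr b : G ⋊[φ] zpowers α) = CopAut.R φ ⊤ := by
      refine le_antisymm (zpowers_le.2 (mem_map_of_mem _ trivial)) ?_
      rintro _ ⟨⟨x, i, rfl⟩, -, rfl⟩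
      exact ⟨i, (map_zpow (SemidirectProduct.inr : _ →* G ⋊[φ] zpowers α) b i).symm⟩
    have := a0_step (G := CopAut.L φ ⊤) (a := SemidirectProduct.inr b) h
      (by rwa [CopAut.card_L_top, hc]) hr (by rw [← map_pow, hb, map_one])
      (CopAut.R_top_le_normalizer_iff.2 CopAut.inv_top (mem_map_of_mem _ trivial))
      (by rwa [CopAut.card_L_top]) (eq_bot_iff.2 (by
        rintro _ ⟨⟨g, -, rfl⟩, e⟩
        have h4 : a * g * a⁻¹ = g := congrArg Subtype.val (CopAut.inl_mem_centralizer_inr_iff.1 e)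
        rw [mul_inv_eq_iff_eq_mul] at h4
        rw [show g = 1 from Subtype.ext (mem_bot.1
          (hf ▸ ⟨g.2, mem_centralizer_singleton_iff.2 h4.symm⟩)), map_one]
        exact one_mem _))
      (by
        rw [hR]
        refine eq_top_iff.2 fun x _ => ?_
        rw [← SemidirectProduct.inl_left_mul_inr_right x]
        exact mul_mem (mem_sup_left (mem_map_of_mem _ trivial))
          (mem_sup_right (mem_map_of_mem _ trivial)))
      (by
        rw [hR]
        refine eq_bot_iff.2 ?_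
        rintro _ ⟨e, c, -, rfl⟩
        rw [show c = 1 from Subtype.ext (MulEquiv.ext fun g => CopAut.inl_mem_centralizer_inr_iff.1
          (mem_centralizer_singleton_iff.2 (e _ (mem_map_of_mem _ trivial)))), map_one]
        exact one_mem _)
    exact solvable_of_solvable_injective (f := (SemidirectProduct.inl : G →* G ⋊[φ] _).codRestrict
      (CopAut.L φ ⊤) fun g => mem_map_of_mem _ trivial) fun _ _ e =>
        SemidirectProduct.inl_injective (congrArg Subtype.val e)
  exact fun X _ _ G a p k => key _ X G a p k rfl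

end CfsgLib.CP
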