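import Cfsg.Agent.Lib.CP.VB
import Cfsg.Agent.Lib.CP.Shult
import Cfsg.Agent.Lib.ClassCount
import Cfsg.Agent.Lib.H5NilpotentMaximal

set_option autoImplicit false
set_option linter.unusedSectionVars false

namespace CfsgLib.CP

open Subgroup Cfsg CfsgLib.FT CfsgLib.FT.BGN CfsgLib.GW CfsgLib.Wal
open CfsgLib.FT.U4 (mem_cent1 mem_cent1' mem_cent mem_cent1_comm cent1_conj conj_mem_conj_iff
  orderOf_conj)
open scoped commutatorElement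

variable {X : Type*} [Group X] [Finite X] {G T : Subgroup X} {a : X} {p : ℕ}

theorem a1_Om_ne_bot {D : Subgroup X} (hD : IsPGroup 2 D) (h0 : D ≠ ⊥) : Om D ≠ ⊥ := by
  obtain ⟨c, hc, hc1, hc2⟩ := U4.inf_cent_ne_bot_iff.1 (inf_centralizer_ne_bot_of_isNilpotent
    hD.isNilpotent le_rfl le_normalizer h0)
  obtain ⟨m, hm⟩ := hD ⟨c, hc⟩
  obtain ⟨k, h1, h2⟩ := exists_last hc1 (m := m) (by simpa using congrArg Subtype.val hm)
  exact U4.ne_bot_of_mem (x := c ^ 2 ^ k) ⟨pow_mem hc _, pow_mem hc2 _, by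
    rw [← pow_add, ← h2]; congr 1; ring⟩ h1

namespace CP0

variable (h : CP0 G T a p)
include h

theorem a1_eq_of_norm {N : Subgroup X} (h1 : N ≤ G) (h2 : G ≤ 𝐍(N)) : N = ⊥ ∨ N = G := by
  have := h.simple
  rcases ((normal_subgroupOf_iff_le_normalizer h1).2 h2).eq_bot_or_eq_top with e | e
  · exact Or.inl (le_bot_iff.1 (((subgroupOf_eq_bot).1 e).le_bot.trans' (le_inf le_rfl h1)))
  · exact Or.inr (le_antisymm h1 (subgroupOf_eq_top.1 e))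

theorem a1_not_solv : ¬ Group.IsSolvable G := fun hs =>
  haveI := h.simple
  h.nonab ⟨⟨IsSimpleGroup.comm_iff_isSolvable.2 hs⟩⟩

theorem a1_lt {D : Subgroup X} (h1 : D ≤ T) (h0 : D ≠ ⊥) : G ⊓ 𝐍(D) < G :=
  lt_of_le_of_ne inf_le_left fun e =>
    (h.a1_eq_of_norm (h1.trans h.le) (e.ge.trans inf_le_right)).elim h0 fun e =>
      h.a1_not_solv (e ▸ isSolvable_of_isPGroup (h.syl.isPGroup.to_le h1))

theorem a1_two_le {D : Subgroup X} (hD : IsPGroup 2 D) : D ≤ G := by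
  have := h.normal
  obtain ⟨x, -, hx⟩ := h.syl.exists_conj_le hD le_top
  intro d hd
  have h1 := this.conj_mem _ (h.le (hx ⟨d, hd, rfl⟩)) x⁻¹
  simpa [mul_assoc] using h1

theorem a1_ndvd {H : Subgroup X} (hH : H ≤ G) : ¬ p ∣ Nat.card H := fun e =>
  h.cop (e.trans (card_dvd_of_le hH))

theorem a1_coprime {A H : Subgroup X} (hA : A ≤ zpowers a) (hH : H ≤ G) :
    (Nat.card A).Coprime (Nat.card H) := by
  obtain ⟨k, hk⟩ := h.ord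
  have h1 : Nat.card A ∣ p ^ k :=
    (card_dvd_of_le hA).trans (by rw [Nat.card_zpowers]; exact orderOf_dvd_of_pow_eq_one hk)
  exact Nat.Coprime.coprime_dvd_left h1
    (Nat.Coprime.pow_left k ((Nat.Prime.coprime_iff_not_dvd h.prime).2 (h.a1_ndvd hH)))

theorem a1_dec (x : X) : ∃ g ∈ G, ∃ c ∈ zpowers a, g * c = x := by
  have := h.normal
  exact mem_sup_norm le_normalizer_of_normal (h.sup.ge (mem_top x))

theorem a1_anorm {D : Subgroup X} (ha : a ∈ 𝐍(D)) : a ∈ 𝐍(G ⊓ 𝐍(D)) := by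
  have := h.normal
  exact le_normalizer_inf le_normalizer_of_normal le_normalizer ha

theorem a1_nil {H : Subgroup X} (hH : H < G) (ha : a ∈ 𝐍(H)) {b : X} (hb : b ∈ zpowers a)
    (hb1 : orderOf b = p) : Group.IsNilpotent ↥⁅H, zpowers b⁆ := by
  obtain ⟨k, hk⟩ := h.ord
  obtain ⟨j, -, hj⟩ := (Nat.dvd_prime_pow h.prime).1 (orderOf_dvd_of_pow_eq_one hk)
  obtain ⟨i, hi⟩ := mem_powers_iff_mem_zpowers.2 hb
  obtain rfl : a ^ i = b := hi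
  rcases j with _ | n
  · rw [pow_zero, orderOf_eq_one_iff] at hj
    rw [hj, one_pow, orderOf_one] at hb1
    exact absurd hb1.symm h.prime.one_lt.ne'
  have h5 := h.five
  have h1 := shult h.prime (by omega) (h.sol H hH ha) (h.a1_ndvd hH.le) ha (n := n)
    (by rw [← hj, pow_orderOf_eq_one])
    (le_bot_iff.1 ((inf_le_inf_right _ hH.le).trans h.fpf.le))
  have h2 : p ^ n ∣ i := by
    have h3 : (a ^ i) ^ p = 1 := by rw [← hb1, pow_orderOf_eq_one]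
    rw [← pow_mul] at h3
    have h4 := orderOf_dvd_of_pow_eq_one h3
    rw [hj, pow_succ] at h4
    exact Nat.dvd_of_mul_dvd_mul_right h.prime.pos h4
  obtain ⟨m, rfl⟩ := h2
  have h3 : ⁅H, zpowers (a ^ (p ^ n * m))⁆ ≤ ⁅H, zpowers (a ^ p ^ n)⁆ :=
    commutator_mono le_rfl (zpowers_le.2 (by rw [pow_mul]; exact pow_mem (mem_zpowers _) m))
  exact Group.nilpotent_of_mulEquiv (subgroupOfEquivOfLe h3)

theorem a1_le_norm {H : Subgroup X} (hH : H < G) (ha : a ∈ 𝐍(H)) (hT : T ≤ H) {b : X}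
    (hb : b ∈ zpowers a) (hb1 : orderOf b = p) : H ≤ 𝐍(⁅T, zpowers b⁆) := by
  have := Fact.mk Nat.prime_two
  have hB : zpowers b ≤ zpowers a := zpowers_le.2 hb
  have hBH : zpowers b ≤ 𝐍(H) := hB.trans (zpowers_le.2 ha)
  have hBT : zpowers b ≤ 𝐍(T) := hB.trans (zpowers_le.2 h.anorm)
  have hnil := h.a1_nil hH ha hb hb1
  have hKH : ⁅H, zpowers b⁆ ≤ H := Cop.commutator_le_left_of_le_normalizer hBH
  have hHK : H ≤ 𝐍(⁅H, zpowers b⁆) := normalizer_commutator_ge_left _ _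
  have hR : IsSylowIn 2 (T ⊓ ⁅H, zpowers b⁆) ⁅H, zpowers b⁆ :=
    (h.syl.mono hT le_top).inf_of_le_normalizer hKH (hT.trans hHK)
  have hDT : ⁅T, zpowers b⁆ ≤ T := Cop.commutator_le_left_of_le_normalizer hBT
  have hDR : ⁅T, zpowers b⁆ ≤ T ⊓ ⁅H, zpowers b⁆ := le_inf hDT (commutator_mono hT le_rfl)
  rw [← Cop.commutator_sup_centralizer hBH (h.a1_coprime hB hH.le) (Or.inr (h.sol H hH ha))]
  refine sup_le (H5.le_normalizer_of_isNilpotent hR hnil hDR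
    (inf_le_left.trans (normalizer_commutator_ge_left _ _))) fun c hc => mem_norm_of_cj_le ?_
  have h1 : c •ᶜ ⁅T, zpowers b⁆ ≤ T ⊓ ⁅H, zpowers b⁆ :=
    H5.le_of_isSylowIn_of_isNilpotent hR hnil ((h.syl.isPGroup.to_le hDT).map _)
      (cj_le_of_norm (hDR.trans inf_le_right) (hHK hc.1))
  rw [← Cop.commutator_commutator_eq hBT (h.a1_coprime hB h.le), cj_commutator,
    cj_eq_of_mem_cent hc.2, Cop.commutator_commutator_eq hBT (h.a1_coprime hB h.le)]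
  exact commutator_mono (h1.trans inf_le_left) le_rfl

theorem a1_anormD {b : X} (hb : b ∈ zpowers a) : zpowers a ≤ 𝐍(⁅T, zpowers b⁆) :=
  Cop.le_normalizer_commutator (zpowers_le.2 h.anorm)
    ((cent_le_norm _).trans' fun x hx => mem_cent.2 fun y hy => by
      obtain ⟨i, rfl⟩ := hx
      obtain ⟨j, rfl⟩ := (zpowers_le.2 hb) hy
      exact zpow_mul_comm a j i)

theorem a1_loc {b : X} (hb : b ∈ zpowers a) (hb1 : orderOf b = p) {D : Subgroup X} (h1 : D ≤ T)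
    (h0 : D ≠ ⊥) (h2 : T ≤ 𝐍(D)) (h3 : a ∈ 𝐍(D)) : 𝐍(D) ≤ 𝐍(⁅T, zpowers b⁆) := fun x hx => by
  obtain ⟨g, hg, c, hc, rfl⟩ := h.a1_dec x
  have h4 : g ∈ 𝐍(D) := (mul_mem_cancel_right (zpowers_le.2 h3 hc)).1 hx
  exact mul_mem (h.a1_le_norm (h.a1_lt h1 h0) (h.a1_anorm h3) (le_inf h.le h2) hb hb1 ⟨hg, h4⟩)
    (h.a1_anormD hb hc)

/-- Shult's theorem for the action on `Y`. -/
theorem a1_hh {Y K : Subgroup X} (hY : El Y) (hYT : Y ≤ T) (ha : a ∈ 𝐍(Y)) (hK : K ≤ G ⊓ 𝐍(Y))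
    (haK : a ∈ 𝐍(K)) (ho : ¬ 2 ∣ Nat.card K) {n : ℕ} (hn : a ^ p ^ (n + 1) ∈ 𝐂(Y)) {g : X}
    (hg : g ∈ K) : ⁅g, a ^ p ^ n⁆ ∈ 𝐂(Y) := by
  have := Fact.mk Nat.prime_two
  by_contra hc
  rw [mem_cent] at hc
  push Not at hc
  obtain ⟨y, hy, hc⟩ := hc
  have hpos : 0 < p ^ (n + 1) := pow_pos h.prime.pos _
  obtain ⟨q, d, j, m, hq, hd, -, hm, he, -, Q, hQK, hQ, hQc⟩ := H9.hh_sec 2 (M := Y) (N := ⊥)
    (K := K) bot_le (commutator_eq_bot_iff_le_centralizer.2 hY.le_cent).le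
    (fun x hx => by rw [sq, hY x hx]; exact one_mem _) (hK.trans inf_le_right)
    le_normalizer_of_normal ha (le_normalizer_of_normal (mem_top a)) haK
    ((Nat.prime_two.coprime_iff_not_dvd.2 ho).symm) h.prime
    ((h.prime.coprime_iff_not_dvd.2 (h.a1_ndvd (hK.trans inf_le_left))).symm) (n := n)
    (fun x hx => mem_bot.2 (commutatorElement_eq_one_iff_mul_comm.2 (mem_cent.1 hn x hx).symm))
    ⟨g, hg, y, hy, fun e => hc (commutatorElement_eq_one_iff_mul_comm.1 (mem_bot.1 e)).symm⟩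
    (s := p ^ (n + 1) - 1) (by omega) (Or.inr ⟨rfl, Or.inr fun x hx e => h.fpf.le
      ⟨h.le (hYT hx), mem_cent1'.2 (commutatorElement_eq_one_iff_mul_comm.1 (mem_bot.1 e))⟩⟩)
  have := Fact.mk hq
  have hq2 : q ≠ 2 := by
    rintro rfl
    obtain ⟨k, hk⟩ := hQ.exists_card_eq
    rcases k with _ | k
    · rw [pow_zero, card_eq_one] at hk
      subst hk
      exact hQc inferInstance
    · exact ho ((hk ▸ dvd_pow_self 2 (Nat.succ_ne_zero k)).trans (card_dvd_of_le hQK))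
  have h5 := h.five
  have o1 : Odd (q ^ d) := (hq.odd_of_ne_two hq2).pow
  have o2 : Odd (p ^ m) := (h.prime.odd_of_ne_two (by omega)).pow
  rw [← he] at o2
  exact (Nat.not_even_iff_odd.2 o2) o1.add_one

end CP0

theorem CP0.exists_PD (h : CP0 G T a p) {b : X} (hb : b ∈ zpowers a) (hb1 : orderOf b = p)
    (hT : ¬ T ≤ 𝐂[b]) : ∃ _ : PD T, CP1 G T a := by
  have := Fact.mk Nat.prime_two
  have hGn := h.normal
  obtain ⟨D, hD⟩ : ∃ D, D = ⁅T, zpowers b⁆ := ⟨_, rfl⟩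
  have hDT : D ≤ T := hD ▸
    Cop.commutator_le_left_of_le_normalizer ((zpowers_le.2 hb).trans (zpowers_le.2 h.anorm))
  have hD0 : D ≠ ⊥ := fun e => hT fun t ht => by
    have : ⁅t, b⁆ ∈ D := hD ▸ commutator_mem_commutator ht (mem_zpowers b)
    rw [e] at this
    exact mem_cent1.2 (commutatorElement_eq_one_iff_mul_comm.1 this)
  have hTD : T ≤ 𝐍(D) := hD ▸ normalizer_commutator_ge_left _ _
  have haD : zpowers a ≤ 𝐍(D) := hD ▸ h.a1_anormD hb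
  have hloc : ∀ D' : Subgroup X, D' ≤ T → D' ≠ ⊥ → T ≤ 𝐍(D') → a ∈ 𝐍(D') → 𝐍(D') ≤ 𝐍(D) :=
    fun D' h1 h2 h3 h4 => hD ▸ h.a1_loc hb hb1 h1 h2 h3 h4
  obtain ⟨Y, ⟨hYO, hY0, hDY⟩, hmin⟩ := Set.exists_min_image
    {Y : Subgroup X | Y ≤ Om D ∧ Y ≠ ⊥ ∧ 𝐍(D) ≤ 𝐍(Y)} (fun Y => Nat.card Y) (Set.toFinite _)
    ⟨Om D, le_rfl, a1_Om_ne_bot (h.syl.isPGroup.to_le hDT) hD0, norm_le_norm_Om D⟩
  have hY : El Y := (Om_el D).mono hYO
  have hYT : Y ≤ T := hYO.trans ((Om_le D).trans hDT)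
  have hTY : T ≤ 𝐍(Y) := hTD.trans hDY
  have haY : zpowers a ≤ 𝐍(Y) := haD.trans hDY
  have hmin' : ∀ U : Subgroup X, U ≤ Y → U ≠ ⊥ → 𝐍(Y) ≤ 𝐍(U) → Y ≤ U := fun U h1 h2 h3 =>
    (eq_of_le_of_card_ge h1 (hmin U ⟨h1.trans hYO, h2, hDY.trans h3⟩)).ge
  classical
  have hex : ∃ j : ℕ, a ^ p ^ j ∈ 𝐂(Y) := by
    obtain ⟨k, hk⟩ := h.ord
    exact ⟨k, hk ▸ one_mem _⟩
  obtain ⟨n, hn⟩ : ∃ n, Nat.find hex = n + 1 := Nat.exists_eq_succ_of_ne_zero fun e => hY0 (by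
    have h1 := Nat.find_spec hex
    rw [e, pow_zero, pow_one] at h1
    exact le_bot_iff.1 fun y hy => h.fpf.le ⟨h.le (hYT hy), mem_cent1.2 (mem_cent.1 h1 y hy)⟩)
  have hn1 : a ^ p ^ (n + 1) ∈ 𝐂(Y) := hn ▸ Nat.find_spec hex
  have hn2 : a ^ p ^ n ∉ 𝐂(Y) := Nat.find_min hex (by omega)
  obtain ⟨β, hβ⟩ : ∃ β, β = a ^ p ^ n := ⟨_, rfl⟩
  have hβa : β ∈ zpowers a := hβ ▸ pow_mem (mem_zpowers a) _
  have hβT : β ∈ 𝐍(T) := zpowers_le.2 h.anorm hβa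
  have hcβ : ∀ c ∈ zpowers a, c * β = β * c := fun c hc => by
    obtain ⟨i, rfl⟩ := hc
    obtain ⟨j, rfl⟩ := hβa
    exact zpow_mul_comm a i j
  have hM := h.a1_lt hYT hY0
  have haM := h.a1_anorm (haY (mem_zpowers a))
  obtain ⟨K, hK, haK⟩ := Cop.exists_invariant_hallOf ({2}ᶜ : Set ℕ) (zpowers_le.2 haM)
    (h.a1_coprime le_rfl inf_le_left) (h.sol _ hM haM)
  have hKo : ¬ 2 ∣ Nat.card K := fun e => hK.2.1 2 Nat.prime_two e rfl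
  have hTM : T ≤ G ⊓ 𝐍(Y) := le_inf h.le hTY
  have hprod : ∀ m ∈ G ⊓ 𝐍(Y), ∃ t ∈ T, ∃ k ∈ K, m = t * k := fun m hm => by
    obtain ⟨t, ht, k, hk, e⟩ := ClassCount.exists_mul_of_coprime_index (K := T.subgroupOf (G ⊓ 𝐍(Y)))
      (H := K.subgroupOf (G ⊓ 𝐍(Y))) (Nat.coprime_of_dvd fun q hq h1 h2 => by
        by_cases hq2 : q = 2
        · subst hq2
          exact (h.syl.mono hTM le_top).2.2 h1
        · exact hK.2.2 q hq hq2 h2) ⟨m, hm⟩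
    exact ⟨t, ht, k, hk, congrArg Subtype.val e⟩
  have hdec : ∀ m ∈ 𝐍(Y), ∃ g ∈ G ⊓ 𝐍(Y), ∃ c ∈ zpowers a, g * c = m := fun m hm => by
    obtain ⟨g, hg, c, hc, rfl⟩ := h.a1_dec m
    exact ⟨g, ⟨hg, (mul_mem_cancel_right (haY hc)).1 hm⟩, c, hc, rfl⟩
  have hZ0 : Y ⊓ 𝐂(T) ≠ ⊥ :=
    inf_centralizer_ne_bot_of_isNilpotent h.syl.isPGroup.isNilpotent hYT hTY hY0
  have hkey : ∀ m ∈ G ⊓ 𝐍(Y), ⁅m, β⁆ ∈ 𝐂(Y) := by
    have h0 : Y ⊓ 𝐂(T) ≤ Y ⊓ centralizer {s | ∃ m ∈ G ⊓ 𝐍(Y), s = ⁅m, β⁆} := fun y hy => by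
      refine ⟨hy.1, ?_⟩
      rintro _ ⟨m, hm, rfl⟩
      obtain ⟨t, ht, k, hk, rfl⟩ := hprod m hm
      have k1 : ⁅k, β⁆ ∈ 𝐂[y] := U4.cent_le_cent1 hy.1 (hβ ▸ h.a1_hh hY hYT
        (haY (mem_zpowers a)) hK.1 (haK (mem_zpowers a)) hKo hn1 hk)
      have k2 : T ≤ 𝐂[y] := fun s hs => mem_cent1.2 (mem_cent.1 hy.2 s hs)
      have k3 : ⁅t * k, β⁆ = t * ⁅k, β⁆ * (β * t⁻¹ * β⁻¹) := by
        simp only [commutatorElement_def]; group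
      rw [k3]
      exact mem_cent1.1 (mul_mem (mul_mem (k2 ht) k1) (k2 (norm_mem hβT (inv_mem ht))))
    have h1 := hmin' (Y ⊓ centralizer {s | ∃ m ∈ G ⊓ 𝐍(Y), s = ⁅m, β⁆}) inf_le_left
      (fun e => hZ0 (le_bot_iff.1 (h0.trans e.le))) fun x hx =>
        mem_normalizer_of_conj_mem fun y hy => ⟨norm_mem hx hy.1, ?_⟩
    · exact fun m hm => mem_cent.2 fun y hy => ((h1 hy).2 _ ⟨m, hm, rfl⟩).symm
    · rintro _ ⟨m, hm, rfl⟩
      obtain ⟨g, hg, c, hc, rfl⟩ := hdec x hx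
      have hcM : ∀ w ∈ G ⊓ 𝐍(Y), c⁻¹ * w * c ∈ G ⊓ 𝐍(Y) := fun w hw =>
        conj_mem_of_mem_normalizer' (zpowers_le.2 haM hc) hw
      have k1 : ⁅c⁻¹ * (g⁻¹ * m) * c, β⁆ ∈ 𝐂[y] :=
        mem_cent1.2 (hy.2 _ ⟨_, hcM _ (mul_mem (inv_mem hg) hm), rfl⟩)
      have k2 : ⁅c⁻¹ * g⁻¹ * c, β⁆ ∈ 𝐂[y] := mem_cent1.2 (hy.2 _ ⟨_, hcM _ (inv_mem hg), rfl⟩)
      have k0 : c * β * c⁻¹ = β := by rw [hcβ c hc]; group
      have k3 : ⁅m, β⁆ = (g * c) * (⁅c⁻¹ * (g⁻¹ * m) * c, β⁆ * ⁅c⁻¹ * g⁻¹ * c, β⁆⁻¹) * (g * c)⁻¹ := by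
        calc ⁅m, β⁆ = m * (c * β * c⁻¹) * m⁻¹ * (c * β * c⁻¹)⁻¹ := by
              rw [k0, commutatorElement_def]
          _ = _ := by simp only [commutatorElement_def]; group
      have k4 := cj_mem (g := g * c) (mul_mem k1 (inv_mem k2))
      rw [← k3, ← cent1_conj] at k4
      exact mem_cent1.1 k4
  have hcomm : ∀ m ∈ 𝐍(Y), ∀ y ∈ Y, β * (m * y * m⁻¹) * β⁻¹ = m * (β * y * β⁻¹) * m⁻¹ := by
    intro m hm y hy
    obtain ⟨g, hg, c, hc, rfl⟩ := hdec m hm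
    have k0 : c * β * c⁻¹ = β := by rw [hcβ c hc]; group
    have k1 := mem_cent.1 (hkey _ (inv_mem hg)) _ (norm_mem (haY hβa) (norm_mem (haY hc) hy))
    calc β * (g * c * y * (g * c)⁻¹) * β⁻¹
        = g * (⁅g⁻¹, β⁆ * (β * (c * y * c⁻¹) * β⁻¹)) * ⁅g⁻¹, β⁆⁻¹ * g⁻¹ := by
          simp only [commutatorElement_def]; group
      _ = g * ((c * β * c⁻¹) * (c * y * c⁻¹) * (c * β * c⁻¹)⁻¹) * g⁻¹ := by rw [← k1, k0]; group
      _ = _ := by group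
  have hfpf : ∀ y ∈ Y, β * y * β⁻¹ = y → y = 1 := fun y hy e => by
    by_contra h1
    have h2 := hmin' (Y ⊓ 𝐂[β]) inf_le_left
      (U4.ne_bot_of_mem (x := y) ⟨hy, mem_cent1_comm.1 (U4.mem_cent1_of_conj_eq e)⟩ h1)
      fun m hm => mem_normalizer_of_conj_mem fun w hw => ⟨norm_mem hm hw.1,
        mem_cent1_comm.1 (U4.mem_cent1_of_conj_eq (by
          rw [hcomm m hm w hw.1, U4.conj_eq_of_mem_cent1 (mem_cent1_comm.1 hw.2)]))⟩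
    exact hn2 (hβ ▸ mem_cent.2 fun w hw => mem_cent1.1 (h2 hw).2)
  have hT0 : T ≠ ⊥ := fun e => hD0 (le_bot_iff.1 (e ▸ hDT))
  let inst : PD T := ⟨Y, β, p, hYT, hY, hY0, (hloc T le_rfl hT0 le_normalizer h.anorm).trans hDY,
    (hloc _ (inf_le_left.trans hYT) hZ0 ((lcc inf_le_right).trans (cent_le_norm _))
      (le_normalizer_inf haY ((zpowers_le.2 h.anorm).trans (U4.norm_le_norm_cent T))
        (mem_zpowers a))).trans hDY, hβT, hcomm, hfpf,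
    by rw [hβ, ← pow_mul, ← pow_succ]; exact hn1, h.prime, h.five⟩
  exact ⟨inst, h.normal, h.simple, h.nonab, h.cop, h.syl, h.le, h.anorm, fun z h1 h2 =>
    mem_bot.1 (h.fpf.le ⟨h.a1_two_le (el_zpowers h1).isPGroup (mem_zpowers z), mem_cent1.2 h2⟩),
    top_le_iff.1 (h.sup.ge.trans (sup_le_sup_left (zpowers_le.2 h.anorm) G)),
    fun D' h1 h2 h3 h4 => (hloc D' h1 h2 h3 h4).trans hDY, fun D' hD' => h.a1_two_le hD'⟩

end CfsgLib.CP
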