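import Cfsg.Agent.Lib.CO.WC
import Cfsg.Agent.Lib.CO.B0
import Cfsg.Agent.Lib.HI.Alpha
import Cfsg.Agent.Lib.ClassSize2

/-!
# Strongly closed elementary abelian subgroups with a fixed point free centralizing automorphism
-/

set_option autoImplicit false
set_option linter.unusedSectionVars false

namespace CfsgLib.CP

open Subgroup Cfsg CfsgLib.FT CfsgLib.FT.BGN CfsgLib.GW CfsgLib.Wal
open CfsgLib.FT.U4 (mem_cent1 mem_cent1' mem_cent mem_cent1_comm self_mem_cent1 cent1_conj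
  orderOf_conj cent_le_norm)
open scoped commutatorElement

universe u

/-- `Y` is a strongly closed elementary abelian subgroup of the `r'`-group `K`, and `b` is a fixed
point free automorphism of order `r` of `Y` commuting with the action of `N_K(Y)`. -/
structure SCH {X : Type*} [Group X] (K Y : Subgroup X) (b : X → X) (r : ℕ) : Prop where
  prime : r.Prime
  five : 5 ≤ r
  cop : ¬ r ∣ Nat.card K
  el : El Y
  le : Y ≤ K
  sc : ∀ y ∈ Y, ∀ g ∈ K, g * y * g⁻¹ ∈ 𝐍(Y) → g * y * g⁻¹ ∈ Y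
  mem : ∀ y ∈ Y, b y ∈ Y
  mul : ∀ x ∈ Y, ∀ y ∈ Y, b (x * y) = b x * b y
  iter : ∀ y ∈ Y, b^[r] y = y
  fpf : ∀ y ∈ Y, b y = y → y = 1
  comm : ∀ n ∈ K, n ∈ 𝐍(Y) → ∀ y ∈ Y, b (n * y * n⁻¹) = n * b y * n⁻¹

namespace SCH

section

variable {X : Type*} [Group X] [Finite X] {K Y : Subgroup X} {b : X → X} {r : ℕ}
variable (h : SCH K Y b r)
include h

theorem mono {K' : Subgroup X} (h1 : Y ≤ K') (h2 : K' ≤ K) : SCH K' Y b r :=
  { h with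
    cop := fun e => h.cop (e.trans (card_dvd_of_le h2))
    le := h1
    sc := fun y hy g hg => h.sc y hy g (h2 hg)
    comm := fun n hn => h.comm n (h2 hn) }

theorem mem_norm {g : X} (hg : g ∈ K) (h1 : g •ᶜ Y ≤ 𝐍(Y)) : g ∈ 𝐍(Y) :=
  mem_normalizer_fintype fun y hy => h.sc y hy g hg (h1 ⟨y, hy, rfl⟩)

theorem le_norm {P : Subgroup X} (hP : IsPGroup 2 P) (h1 : Y ≤ P) (h2 : P ≤ K) : P ≤ 𝐍(Y) := by
  have := Fact.mk Nat.prime_two
  by_contra hn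
  have h3 : P ⊓ 𝐍(Y) < P := lt_of_le_of_ne inf_le_left fun e => hn (e.ge.trans inf_le_right)
  obtain ⟨n, hn1, hn2⟩ := SetLike.exists_of_lt (lt_inf_normalizer_of_isPGroup hP h3)
  refine hn2 ⟨hn1.1, h.mem_norm (h2 hn1.1) ?_⟩
  rintro _ ⟨y, hy, rfl⟩
  exact (CO.norm_mem hn1.2 (show y ∈ P ⊓ 𝐍(Y) from ⟨h1 hy, le_normalizer hy⟩)).2

theorem move {C D : Subgroup X} (h1 : Y ≤ C) (h2 : C ≤ K) (hD : IsPGroup 2 D) (h3 : D ≤ C) :
    ∃ c ∈ C, c •ᶜ D ≤ 𝐍(Y) := by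
  have := Fact.mk Nat.prime_two
  obtain ⟨S, hS1, hS⟩ := IsSylowIn.exists_ge h.el.isPGroup h1
  obtain ⟨c, hc, h4⟩ := hS.exists_conj_le hD h3
  exact ⟨c, hc, h4.trans (h.le_norm hS.isPGroup hS1 (hS.le.trans h2))⟩

theorem move1 {C : Subgroup X} (h1 : Y ≤ C) (h2 : C ≤ K) {y g : X} (hy : y ∈ Y) (hg : g ∈ K)
    (h3 : g * y * g⁻¹ ∈ C) : ∃ c ∈ C, c * g * y * (c * g)⁻¹ ∈ Y := by
  obtain ⟨c, hc, h4⟩ := h.move h1 h2
    (Invol.isPGroup_zpowers (Invol.conj_mul_self (h.el y hy) g)) (zpowers_le.2 h3)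
  refine ⟨c, hc, h.sc y hy _ (mul_mem (h2 hc) hg) ?_⟩
  have := h4 ⟨_, mem_zpowers _, rfl⟩
  simpa [mul_assoc] using this

theorem fusion {y g : X} (hy : y ∈ Y) (hg : g ∈ K) (h1 : g * y * g⁻¹ ∈ Y) :
    ∃ n ∈ K ⊓ 𝐍(Y), n * y * n⁻¹ = g * y * g⁻¹ := by
  obtain ⟨c, hc, h2⟩ := h.move (C := K ⊓ 𝐂[g * y * g⁻¹]) (D := g •ᶜ Y)
    (le_inf h.le (h.el.le_cent1 h1)) inf_le_left (h.el.cj g).isPGroup
    (le_inf (by rintro _ ⟨x, hx, rfl⟩; exact mul_mem (mul_mem hg (h.le hx)) (inv_mem hg))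
      ((h.el.cj g).le_cent1 (CO.cj_mem hy)))
  rw [← map_conj_mul] at h2
  refine ⟨c * g, ⟨mul_mem hc.1 hg, h.mem_norm (mul_mem hc.1 hg) h2⟩, ?_⟩
  calc c * g * y * (c * g)⁻¹ = c * (g * y * g⁻¹) * c⁻¹ := by group
    _ = _ := U4.conj_eq_of_mem_cent1 hc.2

theorem mem_of_conj_mem {M : Subgroup X} (hM : M ≤ K) (hN : K ⊓ 𝐍(Y) ≤ M)
    (hC : ∀ z ∈ Y, z ≠ 1 → K ⊓ 𝐂[z] ≤ M) {z g : X} (hz : z ∈ Y) (h1 : z ≠ 1) (hgK : g ∈ K)
    (hg : g * z * g⁻¹ ∈ M) : g ∈ M := by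
  obtain ⟨m, hm, h3⟩ := h.move1 ((le_inf h.le le_normalizer).trans hN) hM hz hgK hg
  obtain ⟨n, hn, h4⟩ := h.fusion hz (mul_mem (hM hm) hgK) h3
  have h5 : n⁻¹ * (m * g) ∈ 𝐂[z] := U4.mem_cent1_of_conj_eq (by
    calc n⁻¹ * (m * g) * z * (n⁻¹ * (m * g))⁻¹ = n⁻¹ * (m * g * z * (m * g)⁻¹) * n := by group
      _ = z := by rw [← h4]; group)
  have h6 := mul_mem (inv_mem hm) (mul_mem (hN hn)
    (hC z hz h1 (mem_inf.2 ⟨mul_mem (inv_mem hn.1) (mul_mem (hM hm) hgK), h5⟩)))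
  simpa [mul_assoc] using h6

/-- the dihedral trick -/
theorem one_class {M : Subgroup X} (hM : M ≤ K) (hN : K ⊓ 𝐍(Y) ≤ M)
    (hC : ∀ z ∈ Y, z ≠ 1 → K ⊓ 𝐂[z] ≤ M) {z w g : X} (hz : z ∈ Y) (hz1 : z ≠ 1) (hw : w ∈ Y)
    (hw1 : w ≠ 1) (hgK : g ∈ K) (hg : g ∉ M) : ∃ s ∈ K, s * w * s⁻¹ = z := by
  have hz2 := h.el z hz
  have hy2 := Invol.conj_mul_self (h.el w hw) g
  set y := g * w * g⁻¹ with hy
  have hyK : y ∈ K := mul_mem (mul_mem hgK (h.le hw)) (inv_mem hgK)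
  obtain ⟨k, m, ⟨j, rfl⟩, hkm⟩ := Nat.exists_eq_two_pow_mul_odd (orderOf_pos (z * y)).ne'
  have hinv := Invol.inverts_mul hz2 hy2
  set c := z * y with hc
  have hcK : c ∈ K := mul_mem (h.le hz) hyK
  have hzi : z⁻¹ = z := Invol.inv_eq hz2
  have hcj := Invol.inverts_of_mem_zpowers hinv (npow_mem_zpowers c j)
  have e1 : z * c ^ (2 * j + 1) = (c ^ j)⁻¹ * y * (c ^ j)⁻¹⁻¹ := by
    have e2 : y = z * c := by rw [hc, ← mul_assoc, hz2, one_mul]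
    rw [inv_inv, e2]
    calc z * c ^ (2 * j + 1) = z * c ^ j * z⁻¹ * (z * c) * c ^ j := by group
      _ = _ := by rw [hcj]
  by_cases hu1 : c ^ (2 * j + 1) = 1
  · refine ⟨(c ^ j)⁻¹ * g, mul_mem (inv_mem (pow_mem hcK j)) hgK, ?_⟩
    rw [hu1, mul_one] at e1
    rw [e1, hy]
    group
  exfalso
  have hy' := Invol.conj_mul_self hy2 (c ^ j)⁻¹
  rw [← e1] at hy'
  have e3 : z * (z * c ^ (2 * j + 1)) = c ^ (2 * j + 1) := by rw [← mul_assoc, hz2, one_mul]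
  obtain ⟨Q, hQ1, hQ2⟩ := Invol.exists_sylow_of_isPGroup hz2 hy' (by
    rw [e3]
    refine IsPGroup.of_card (n := k) ?_
    rw [Nat.card_zpowers, orderOf_pow, hkm, Nat.gcd_mul_left_left,
      Nat.mul_div_cancel _ (by omega)])
  obtain ⟨x, hxK, hx⟩ := h.move (D := (Q : Subgroup X) ⊓ K) h.le le_rfl Q.isPGroup'.to_inf_left
    inf_le_right
  have hx1 : x * z * x⁻¹ ∈ Y := h.sc z hz x hxK (hx ⟨_, ⟨hQ1, h.le hz⟩, rfl⟩)
  have hx2 : x * (z * c ^ (2 * j + 1)) * x⁻¹ ∈ Y := by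
    have e4 : x * (z * c ^ (2 * j + 1)) * x⁻¹ = x * (c ^ j)⁻¹ * g * w * (x * (c ^ j)⁻¹ * g)⁻¹ := by
      rw [e1, hy]; group
    have h1 : x * (z * c ^ (2 * j + 1)) * x⁻¹ ∈ 𝐍(Y) :=
      hx ⟨_, ⟨hQ2, mul_mem (h.le hz) (pow_mem hcK _)⟩, rfl⟩
    rw [e4] at h1 ⊢
    exact h.sc w hw _ (mul_mem (mul_mem hxK (inv_mem (pow_mem hcK j))) hgK) h1
  set u := c ^ (2 * j + 1) with hu
  have hx3 : x * u * x⁻¹ ∈ Y := by
    have := mul_mem hx1 hx2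
    rwa [show x * z * x⁻¹ * (x * (z * u) * x⁻¹) = x * (z * (z * u)) * x⁻¹ by group, e3] at this
  have hu2 : u * u = 1 := by
    have := h.el _ hx3
    rw [show x * u * x⁻¹ * (x * u * x⁻¹) = x * (u * u) * x⁻¹ by group] at this
    simpa using this
  have hui : u⁻¹ = u := Invol.inv_eq hu2
  have hzu : z * u * z⁻¹ = u :=
    (Invol.inverts_of_mem_zpowers hinv (npow_mem_zpowers c _)).trans hui
  have huM : u ∈ M :=
    hC z hz hz1 ⟨pow_mem hcK _, mem_cent1_comm.1 (U4.mem_cent1_of_conj_eq hzu)⟩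
  have hxM : x⁻¹ ∈ M := h.mem_of_conj_mem hM hN hC hx3 (U4.conj_ne_one_iff.2 hu1) (inv_mem hxK)
    (by simpa [mul_assoc] using huM)
  have hyu : y ∈ 𝐂[u] := by
    have e2 : y = z * c := by rw [hc, ← mul_assoc, hz2, one_mul]
    rw [e2]
    exact mul_mem (U4.mem_cent1_of_conj_eq hzu)
      (mem_cent1.2 ((Commute.refl c).pow_right _).eq)
  have hyM : x * y * x⁻¹ ∈ M := hC _ hx3 (U4.conj_ne_one_iff.2 hu1)
    (mem_inf.2 ⟨mul_mem (mul_mem hxK hyK) (inv_mem hxK), by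
      rw [cent1_conj]
      exact U4.conj_mem_conj_iff.2 hyu⟩)
  have hyM' : y ∈ M := by
    have := mul_mem (mul_mem hxM hyM) (inv_mem hxM)
    simpa [mul_assoc] using this
  exact hg (h.mem_of_conj_mem hM hN hC hw hw1 hgK hyM')

theorem one : b 1 = 1 := by
  have := h.mul 1 (one_mem _) 1 (one_mem _)
  rw [mul_one] at this
  exact (left_eq_mul.1 this)

theorem card_modEq : Nat.card Y ≡ 1 [MOD r] := by
  classical
  have := Fact.mk h.prime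
  have := Fintype.ofFinite Y
  let f : Function.End Y := fun y => ⟨b y, h.mem y y.2⟩
  have h1 : ∀ (n : ℕ) (y : Y), (((f ^ n) y : Y) : X) = b^[n] y := by
    intro n
    induction n with
    | zero => intro y; rfl
    | succ n ih =>
      intro y
      rw [pow_succ, Function.iterate_succ_apply]
      exact ih (f y)
  have h2 : f ^ r ^ 1 = 1 := by
    rw [pow_one]
    funext y
    exact Subtype.ext ((h1 r y).trans (h.iter y y.2))
  have h3 := Equiv.Perm.card_fixedPoints_modEq h2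
  rw [Nat.card_eq_fintype_card]
  refine h3.trans ?_
  have h4 : Fintype.card f.fixedPoints = 1 := by
    refine Fintype.card_eq_one_iff.2 ⟨⟨1, Subtype.ext h.one⟩, fun y => ?_⟩
    exact Subtype.ext (Subtype.ext (h.fpf _ y.1.2 (congrArg Subtype.val y.2)))
  rw [h4]

theorem not_trans {w : X} (hw : w ∈ Y) (hw1 : w ≠ 1)
    (ht : ∀ z ∈ Y, z ≠ 1 → ∃ s ∈ K, s * w * s⁻¹ = z) : False := by
  have h1 : {y : X | ∃ x ∈ K ⊓ 𝐍(Y), x * w * x⁻¹ = y} = (Y : Set X) \ {1} := by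
    ext y
    constructor
    · rintro ⟨x, hx, rfl⟩
      exact ⟨CO.norm_mem hx.2 hw, U4.conj_ne_one_iff.2 hw1⟩
    · rintro ⟨hy, hy1⟩
      obtain ⟨s, hs, rfl⟩ := ht y hy hy1
      exact h.fusion hw hs hy
  have h2 := Frob.ncard_conj_subgroup (K ⊓ 𝐍(Y)) w
  rw [h1, Set.ncard_sdiff_singleton_of_mem (one_mem Y), ← Nat.card_coe_set_eq] at h2
  refine h.cop (dvd_trans ?_ ((relIndex_dvd_card 𝐂[w] (K ⊓ 𝐍(Y))).trans
    (card_dvd_of_le inf_le_left)))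
  rw [← h2]
  exact (Nat.modEq_iff_dvd' Nat.card_pos).1 h.card_modEq.symm

theorem three_le {w : X} (hw : w ∈ Y) (hw1 : w ≠ 1) : ∃ k, Nat.card Y = 2 ^ k ∧ 3 ≤ k := by
  have := Fact.mk Nat.prime_two
  obtain ⟨k, hk⟩ := h.el.isPGroup.exists_card_eq
  refine ⟨k, hk, ?_⟩
  have h1 := (Nat.modEq_iff_dvd' Nat.card_pos).1 h.card_modEq.symm
  have h2 : Nat.card Y ≠ 1 := fun e => U4.ne_bot_of_mem hw hw1 (eq_bot_of_card_le _ e.le)
  have h5 := h.five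
  rw [hk] at h1 h2
  by_contra h3
  have h4 : k = 0 ∨ k = 1 ∨ k = 2 := by omega
  rcases h4 with rfl | rfl | rfl
  · exact h2 rfl
  · have := Nat.le_of_dvd (by norm_num) h1; omega
  · have := Nat.le_of_dvd (by norm_num) h1; omega

omit h in
theorem le_Od' {O L : Subgroup X} (h1 : O ≤ K) (h2 : Odd (Nat.card O)) (h3 : L ≤ K)
    (h4 : L ≤ 𝐍(O)) (h5 : K ≤ Od K ⊔ L) : O ≤ Od K :=
  le_sup_left.trans (le_Od (sup_le h1 (Od_le K)) (h5.trans (sup_le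
    (le_sup_right.trans le_normalizer) (H1.le_normalizer_sup h4 (h3.trans (le_norm_Od K)))))
    (SE.odd_sup (h1.trans (le_norm_Od K)) h2 (odd_Od K)))

theorem bal {y z : X} (hy : y ∈ Y) (hz : z ∈ Y)
    (ih : K ⊓ 𝐂[z] ≤ Od (K ⊓ 𝐂[z]) ⊔ (K ⊓ 𝐂[z] ⊓ 𝐍(Y))) :
    Od (K ⊓ 𝐂[y]) ⊓ 𝐂[z] ≤ Od (K ⊓ 𝐂[z]) := by
  have hYy : Y ≤ K ⊓ 𝐂[y] := le_inf h.le (h.el.le_cent1 hy)
  have hYz : Y ≤ K ⊓ 𝐂[z] := le_inf h.le (h.el.le_cent1 hz)
  have hD : Od (K ⊓ 𝐂[y]) ⊓ 𝐂[z] ≤ K ⊓ 𝐂[z] :=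
    inf_le_inf_right _ ((Od_le _).trans inf_le_left)
  have hDo : Odd (Nat.card (Od (K ⊓ 𝐂[y]) ⊓ 𝐂[z] : Subgroup X)) :=
    (odd_Od _).of_dvd_nat (card_dvd_of_le inf_le_left)
  have hYD : Y ≤ 𝐍(Od (K ⊓ 𝐂[y]) ⊓ 𝐂[z]) := H1.le_normalizer_inf (hYy.trans (le_norm_Od _))
    ((h.el.le_cent1 hz).trans le_normalizer)
  have h1 : Od (K ⊓ 𝐂(Y)) ≤ Od (K ⊓ 𝐂[z]) :=
    le_Od' ((Od_le _).trans (inf_le_inf_left _ (U4.cent_le_cent1 hz))) (odd_Od _) inf_le_left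
      (le_trans (H1.le_normalizer_inf ((inf_le_left.trans inf_le_left).trans le_normalizer)
        (inf_le_right.trans (Cop.normalizer_le_normalizer_centralizer Y))) (norm_le_norm_Od _)) ih
  rw [← Cop.commutator_sup_centralizer hYD (h.el.coprime hDo) (Or.inl h.el.solv)]
  refine sup_le (commutator_le.2 fun d hd v hv => ?_) (le_trans ?_ h1)
  · have h2 : Odd (orderOf ⁅d, v⁆) := by
      have h3 : ⁅d, v⁆ ∈ Od (K ⊓ 𝐂[y]) ⊓ 𝐂[z] := by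
        have := mul_mem hd (CO.norm_mem (hYD hv) (inv_mem hd))
        simpa only [commutatorElement_def, mul_assoc] using this
      exact odd_of_mem_Od h3.1
    obtain ⟨o, ho, n, hn, rfl⟩ := mem_sup_norm (inf_le_left.trans (le_norm_Od _)) (ih (hD hd))
    have h3 : n * v * n⁻¹ ∈ Y := CO.norm_mem hn.2 hv
    have h4 : n * v * n⁻¹ * v⁻¹ ∈ Y := mul_mem h3 (inv_mem hv)
    have h5 : o * (n * v * n⁻¹ * o⁻¹ * (n * v * n⁻¹)⁻¹) ∈ Od (K ⊓ 𝐂[z]) :=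
      mul_mem ho (CO.norm_mem (le_norm_Od _ (hYz h3)) (inv_mem ho))
    have h6 : ⁅o * n, v⁆ = o * (n * v * n⁻¹ * o⁻¹ * (n * v * n⁻¹)⁻¹) * (n * v * n⁻¹ * v⁻¹) := by
      simp only [commutatorElement_def]; group
    refine SE.mem_of_sq_mem h2 ?_
    rw [h6]
    generalize o * (n * v * n⁻¹ * o⁻¹ * (n * v * n⁻¹)⁻¹) = p at h5
    generalize n * v * n⁻¹ * v⁻¹ = q at h4
    have h7 := mul_mem h5 (CO.norm_mem (le_norm_Od _ (hYz h4)) h5)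
    rw [h.el.inv h4] at h7
    simpa only [mul_assoc] using h7
  · refine le_trans ?_ (Od_inf_le (M := K ⊓ 𝐂[y]) (inf_le_inf_left _ (U4.cent_le_cent1 hy)))
    exact le_inf (inf_le_left.trans inf_le_left)
      (le_inf (inf_le_left.trans (hD.trans inf_le_left)) inf_le_right)

/-- the signalizer functor -/
def sf {k : ℕ} (hk : Nat.card Y = 2 ^ k) (h3 : 3 ≤ k)
    (ih : ∀ z ∈ Y, z ≠ 1 → K ⊓ 𝐂[z] ≤ Od (K ⊓ 𝐂[z]) ⊔ (K ⊓ 𝐂[z] ⊓ 𝐍(Y))) : Sig.SF X where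
  r := 2
  k := k
  A := Y
  θ := fun z => Od (K ⊓ 𝐂[z])
  prime := Nat.prime_two
  elem := h.el.elem
  card := hk
  three_le := h3
  le_cent := fun _ _ _ => (Od_le _).trans inf_le_right
  norm := fun _ ha _ => (le_inf h.le (h.el.le_cent1 ha)).trans (le_norm_Od _)
  cop := fun _ _ _ => Nat.coprime_two_right.2 (odd_Od _)
  solv := fun _ _ _ => solvable_Od _
  bal := fun _ ha _ z hz hz1 => h.bal ha hz (ih z hz hz1)

theorem caseA (ih : ∀ z ∈ Y, z ≠ 1 → K ⊓ 𝐂[z] ≤ Od (K ⊓ 𝐂[z]) ⊔ (K ⊓ 𝐂[z] ⊓ 𝐍(Y)))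
    {w : X} (hw : w ∈ Y) (hw1 : w ≠ 1) : K ≤ Od K ⊔ (K ⊓ 𝐍(Y)) := by
  obtain ⟨k, hk, h3⟩ := h.three_le hw hw1
  obtain ⟨H, hH, hle⟩ := (h.sf hk h3 ih).complete
  let W : Subgroup X := ⨆ z ∈ {z | z ∈ Y ∧ z ≠ 1}, Od (K ⊓ 𝐂[z])
  have hWH : W ≤ H := iSup₂_le fun z hz => hle z hz
  have hWK : W ≤ K := iSup₂_le fun z _ => (Od_le _).trans inf_le_left
  have hUW : ∀ z ∈ Y, z ≠ 1 → Od (K ⊓ 𝐂[z]) ≤ W := fun z hz h1 =>
    le_iSup₂_of_le (f := fun z (_ : z ∈ {z | z ∈ Y ∧ z ≠ 1}) => Od (K ⊓ 𝐂[z])) z ⟨hz, h1⟩ le_rfl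
  have hWo : Odd (Nat.card W) := (Nat.coprime_two_right.1 hH.cop).of_dvd_nat (card_dvd_of_le hWH)
  have hNW : K ⊓ 𝐍(Y) ≤ 𝐍(W) := fun n hn => by
    have h1 : n •ᶜ W ≤ W := by
      rw [map_le_iff_le_comap]
      refine iSup₂_le fun z hz => ?_
      rw [← map_le_iff_le_comap]
      have e : n •ᶜ Od (K ⊓ 𝐂[z]) = Od (K ⊓ 𝐂[n * z * n⁻¹]) := by
        rw [cent1_conj, ← Od_conj, map_conj_inf, CO.cj_eq (le_normalizer hn.1)]
      exact e.le.trans (hUW _ (CO.norm_mem hn.2 hz.1) (U4.conj_ne_one_iff.2 hz.2))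
    exact CO.mem_norm_of_cj_le h1
  by_cases hM : K ≤ W ⊔ (K ⊓ 𝐍(Y))
  · exact hM.trans (sup_le_sup_right (le_Od hWK (hM.trans (sup_le le_normalizer hNW)) hWo) _)
  exfalso
  obtain ⟨g, hg, hgM⟩ := SetLike.not_le_iff_exists.1 hM
  refine h.not_trans hw hw1 fun z hz hz1 => h.one_class (M := W ⊔ (K ⊓ 𝐍(Y)))
    (sup_le hWK inf_le_left) le_sup_right (fun y hy hy1 => (ih y hy hy1).trans
      (sup_le_sup (hUW y hy hy1) (inf_le_inf_right _ inf_le_left))) hz hz1 hw hw1 hg hgM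

theorem zstar : K ≤ Od K ⊔ (K ⊓ 𝐂(Y ⊓ 𝐂(K ⊓ 𝐍(Y)))) := fun g hg => by
  have hzs : ∀ w ∈ Y ⊓ 𝐂(K ⊓ 𝐍(Y)), ⁅g, w⁆ ∈ Od K := by
    intro w hw
    by_cases hw1 : w = 1
    · rw [hw1, commutatorElement_one_right]
      exact one_mem _
    refine RC.zstar_amb (h.le hw.1) (h.el.ord hw.1 hw1) (fun k hk hc => ?_) hg
    obtain ⟨c, hc1, h2⟩ := h.move1 (C := K ⊓ 𝐂[w]) (le_inf h.le (h.el.le_cent1 hw.1)) inf_le_left
      hw.1 hk (mem_inf.2 ⟨mul_mem (mul_mem hk (h.le hw.1)) (inv_mem hk), mem_cent1'.2 hc⟩)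
    obtain ⟨n, hn, e⟩ := h.fusion hw.1 (mul_mem hc1.1 hk) h2
    rw [hw.2 n hn, mul_inv_cancel_right] at e
    calc k * w * k⁻¹ = c⁻¹ * (c * k * w * (c * k)⁻¹) * c⁻¹⁻¹ := by group
      _ = w := by rw [← e]; exact U4.conj_eq_of_mem_cent1 (inv_mem hc1.2)
  obtain ⟨n, hn, c, hc, rfl⟩ := Cop.exists_mul_centralizer_of_commutator_mem
    (A := Y ⊓ 𝐂(K ⊓ 𝐍(Y))) (N := Od K) ((inf_le_left.trans h.le).trans (le_norm_Od K))
    ((h.el.mono inf_le_left).coprime (odd_Od K)) (Or.inr (solvable_Od K)) hzs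
  exact mul_mem_sup hn (mem_inf.2 ⟨(mul_mem_cancel_left (Od_le K hn)).1 hg, hc⟩)

theorem mem_U {y : X} (hy : y ∈ Y ⊓ 𝐂(K ⊓ 𝐍(Y))) : b y ∈ Y ⊓ 𝐂(K ⊓ 𝐍(Y)) := by
  refine ⟨h.mem y hy.1, fun n hn => ?_⟩
  have := h.comm n hn.1 hn.2 y hy.1
  rw [hy.2 n hn, mul_inv_cancel_right] at this
  exact (mul_inv_eq_iff_eq_mul.1 this.symm)

theorem inv {y : X} (hy : y ∈ Y) : b y⁻¹ = (b y)⁻¹ := by
  rw [h.el.inv hy, h.el.inv (h.mem y hy)]

theorem fpf_mod {U : Subgroup X} (hU : U ≤ Y) (hb : ∀ y ∈ U, b y ∈ U) {y : X} (hy : y ∈ Y)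
    (h1 : y⁻¹ * b y ∈ U) : y ∈ U := by
  let φ : U → U := fun v => ⟨(v : X)⁻¹ * b v, mul_mem (inv_mem v.2) (hb v v.2)⟩
  have key : ∀ x ∈ Y, ∀ v ∈ Y, x⁻¹ * b x = v⁻¹ * b v → x = v := by
    intro x hx v hv e
    have h2 : b (x * v⁻¹) = x * v⁻¹ := by
      rw [h.mul x hx _ (inv_mem hv), h.inv hv]
      calc b x * (b v)⁻¹ = x * (x⁻¹ * b x) * (b v)⁻¹ := by group
        _ = _ := by rw [e]; group
    exact mul_inv_eq_one.1 (h.fpf _ (mul_mem hx (inv_mem hv)) h2)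
  have hinj : Function.Injective φ := fun x v e =>
    Subtype.ext (key x (hU x.2) v (hU v.2) (congrArg Subtype.val e))
  obtain ⟨v, hv⟩ := Finite.surjective_of_injective hinj ⟨_, h1⟩
  rw [key y hy v (hU v.2) (congrArg Subtype.val hv).symm]
  exact v.2

/-- Passage to the quotient by a central invariant subgroup of `Y`. -/
theorem quot {Q : Type*} [Group Q] [Finite Q] (f : K →* Q) (hf : Function.Surjective f)
    {U : Subgroup X} (hU : U ≤ Y) (hb : ∀ y ∈ U, b y ∈ U) (hker : ∀ x : K, f x = 1 ↔ (x : X) ∈ U) :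
    ∃ b' : Q → Q, SCH ⊤ ((Y.subgroupOf K).map f) b' r ∧
      ∀ g : K, f g ∈ 𝐍((Y.subgroupOf K).map f) → (g : X) ∈ 𝐍(Y) := by
  classical
  have heq : ∀ x y : K, f x = f y ↔ (x : X)⁻¹ * y ∈ U := fun x y => by
    rw [← inv_mul_eq_one, ← map_inv, ← map_mul, hker]; rfl
  have hmem : ∀ x : K, f x ∈ (Y.subgroupOf K).map f ↔ (x : X) ∈ Y := fun x => by
    constructor
    · rintro ⟨y, hy, e⟩
      have := mul_mem (show (y : X) ∈ Y from hy) (hU ((heq y x).1 e))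
      simpa using this
    · exact fun hx => ⟨x, hx, rfl⟩
  have hnorm : ∀ g : K, f g ∈ 𝐍((Y.subgroupOf K).map f) ↔ (g : X) ∈ 𝐍(Y) := fun g => by
    constructor
    · intro hg
      refine mem_normalizer_fintype fun y hy => ?_
      have := CO.norm_mem hg ((hmem ⟨y, h.le hy⟩).2 hy)
      rw [← map_inv, ← map_mul, ← map_mul, hmem] at this
      exact this
    · intro hg
      refine mem_normalizer_fintype ?_
      rintro _ ⟨y, hy, rfl⟩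
      rw [← map_inv, ← map_mul, ← map_mul]
      exact (hmem _).2 (CO.norm_mem hg hy)
  let b1 : K → K := fun x => if hx : (x : X) ∈ Y then ⟨b x, h.le (h.mem x hx)⟩ else 1
  have hb1 : ∀ x : K, (x : X) ∈ Y → (b1 x : X) = b x := fun x hx => by simp only [b1, dif_pos hx]
  let b' : Q → Q := fun q => f (b1 (Function.surjInv hf q))
  have key : ∀ y : K, (y : X) ∈ Y → b' (f y) = f (b1 y) := fun y hy => by
    have e := Function.surjInv_eq hf (f y)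
    have h0 : ((Function.surjInv hf (f y) : K) : X) ∈ Y :=
      (hmem _).1 (by rw [e]; exact (hmem y).2 hy)
    refine (heq _ _).2 ?_
    rw [hb1 _ h0, hb1 _ hy, ← h.inv h0, ← h.mul _ (inv_mem h0) _ hy]
    exact hb _ ((heq _ _).1 e)
  have hb1Y : ∀ x : K, (x : X) ∈ Y → (b1 x : X) ∈ Y := fun x hx => hb1 x hx ▸ h.mem x hx
  refine ⟨b', ⟨h.prime, h.five, fun e => h.cop (e.trans ?_), ?_, le_top, ?_, ?_, ?_, ?_, ?_, ?_⟩,
    fun g => (hnorm g).1⟩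
  · rw [card_top]
    exact card_dvd_of_surjective f hf
  · rintro _ ⟨y, hy, rfl⟩
    rw [← map_mul, show y * y = 1 from Subtype.ext (h.el _ hy), map_one]
  · rintro _ ⟨y, hy, rfl⟩ q - hq
    obtain ⟨g, rfl⟩ := hf q
    rw [← map_inv, ← map_mul, ← map_mul] at hq ⊢
    exact (hmem _).2 (h.sc y hy g g.2 ((hnorm _).1 hq))
  · rintro _ ⟨y, hy, rfl⟩
    rw [key y hy]
    exact (hmem _).2 (hb1Y y hy)
  · rintro _ ⟨x, hx, rfl⟩ _ ⟨y, hy, rfl⟩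
    have hxy : ((x * y : K) : X) ∈ Y := mul_mem (show (x : X) ∈ Y from hx) hy
    rw [← map_mul, key x hx, key y hy, key _ hxy, ← map_mul]
    congr 1
    refine Subtype.ext ?_
    rw [hb1 _ hxy, coe_mul, coe_mul, hb1 x hx, hb1 y hy]
    exact h.mul _ hx _ hy
  · rintro _ ⟨y, hy, rfl⟩
    have h1 : ∀ (n : ℕ) (y : K), (y : X) ∈ Y →
        b'^[n] (f y) = f (b1^[n] y) ∧ (b1^[n] y : X) = b^[n] y := by
      intro n
      induction n with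
      | zero => exact fun y _ => ⟨rfl, rfl⟩
      | succ n ih =>
        intro y hy
        rw [Function.iterate_succ_apply, Function.iterate_succ_apply, Function.iterate_succ_apply,
          key y hy, ← hb1 y hy]
        exact ih _ (hb1Y y hy)
    rw [(h1 r y hy).1]
    congr 1
    exact Subtype.ext ((h1 r y hy).2.trans (h.iter _ hy))
  · rintro _ ⟨y, hy, rfl⟩ e
    rw [key y hy] at e
    have h1 := (heq _ _).1 e.symm
    rw [hb1 y hy] at h1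
    exact (hker y).2 (h.fpf_mod hU hb hy h1)
  · rintro q - hq _ ⟨y, hy, rfl⟩
    obtain ⟨n, rfl⟩ := hf q
    have hn := (hnorm n).1 hq
    have h1 : ((n * y * n⁻¹ : K) : X) ∈ Y := CO.norm_mem hn hy
    rw [← map_inv, ← map_mul, ← map_mul, key _ h1, key y hy, ← map_mul, ← map_mul]
    congr 1
    refine Subtype.ext ?_
    rw [hb1 _ h1]
    simp only [coe_mul, coe_inv]
    rw [hb1 y hy, h.comm n n.2 hn y hy]

theorem of_quot {Q : Type*} [Group Q] [Finite Q] (f : K →* Q) (hf : Function.Surjective f)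
    {U : Subgroup X} (hU : U ≤ Y) (hC : K ≤ 𝐂(U)) (hker : ∀ x : K, f x = 1 ↔ (x : X) ∈ U)
    {Y' : Subgroup Q} (hn : ∀ g : K, f g ∈ 𝐍(Y') → (g : X) ∈ 𝐍(Y))
    (ih : (⊤ : Subgroup Q) ≤ Od ⊤ ⊔ (⊤ ⊓ 𝐍(Y'))) : K ≤ Od K ⊔ (K ⊓ 𝐍(Y)) := fun g hg => by
  obtain ⟨o', ho', n', hn', e⟩ := mem_sup_norm (inf_le_left.trans (le_norm_Od _))
    (ih (mem_top (f ⟨g, hg⟩)))
  obtain ⟨n, rfl⟩ := hf n'
  have hnN : (n : X) ∈ K ⊓ 𝐍(Y) := ⟨n.2, hn n hn'.2⟩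
  set o : K := ⟨g, hg⟩ * n⁻¹ with ho
  have h1 : f o = o' := by rw [ho, map_mul, map_inv, ← e, mul_inv_cancel_right]
  obtain ⟨j, hj⟩ := odd_of_mem_Od ho'
  have h2 : ((o ^ (2 * j + 1) : K) : X) ∈ U := by
    rw [← hker, map_pow, h1, ← hj, pow_orderOf_eq_one]
  set v : K := o ^ (2 * j + 1) with hv
  have hv2 : v * v = 1 := Subtype.ext (h.el _ (hU h2))
  have hc : Commute o v := (Commute.refl o).pow_right _
  have h3 : (o * v) ^ (2 * j + 1) = 1 := by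
    rw [hc.mul_pow, ← hv, pow_succ, pow_mul, sq, hv2, one_pow, one_mul, hv2]
  have hW : ((Od (⊤ : Subgroup Q)).comap f).Normal := Normal.comap inferInstance f
  have h4 : o * v ∈ (Od (⊤ : Subgroup Q)).comap f := by
    rw [mem_comap, map_mul, (hker v).2 h2, mul_one, h1]
    exact ho'
  have h5 : zpowers (o * v) ≤ Od ((Od (⊤ : Subgroup Q)).comap f) := by
    refine HI.le_Od_of_cent (zpowers_le.2 h4) (fun k hk => Odd.of_dvd_nat ⟨j, rfl⟩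
      ((orderOf_dvd_of_mem_zpowers hk).trans (orderOf_dvd_of_pow_eq_one h3))) fun k _ y hy hy2 => ?_
    have h6 : f y = 1 := Invol.eq_one_of_odd_of_mem (hy2.map f) ⟨y, mem_zpowers y, rfl⟩
      (odd_of_mem_Od hy)
    exact Subtype.ext (mem_cent.1 (hC k.2) y ((hker y).1 h6))
  have h6 : ((o * v : K) : X) ∈ Od K := mem_Od_top.1
    (Od_le_Od le_top le_normalizer_of_normal (h5 (mem_zpowers _)))
  have h7 : g = ((o * v : K) : X) * ((v * n : K) : X) := by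
    rw [← coe_mul, mul_assoc, ← mul_assoc v, hv2, one_mul, ho, inv_mul_cancel_right]
  rw [h7]
  exact mul_mem_sup h6 (mul_mem (show (v : X) ∈ K ⊓ 𝐍(Y) from
    ⟨v.2, le_normalizer (hU h2)⟩) hnN)

end

theorem fac_aux (n : ℕ) : ∀ {X : Type u} [Group X] [Finite X] {K Y : Subgroup X} {b : X → X} {r : ℕ},
    Nat.card K = n → SCH K Y b r → K ≤ Od K ⊔ (K ⊓ 𝐍(Y)) := by
  induction n using Nat.strong_induction_on with
  | _ n ih =>
  intro X _ _ K Y b r hn h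
  by_cases h0 : Y = ⊥
  · refine le_trans (le_inf le_rfl ?_) le_sup_right
    rw [h0]
    exact le_normalizer_of_normal
  obtain ⟨w, hw, hw1⟩ := U4.exists_ne_one h0
  have sub : ∀ K' : Subgroup X, Y ≤ K' → K' < K → K' ≤ Od K' ⊔ (K' ⊓ 𝐍(Y)) := fun K' h1 h2 =>
    ih _ (hn ▸ card_lt_card_of_lt h2) rfl (h.mono h1 h2.le)
  by_cases hU : Y ⊓ 𝐂(K ⊓ 𝐍(Y)) = ⊥
  · refine h.caseA (fun z hz hz1 => sub _ (le_inf h.le (h.el.le_cent1 hz))
      (lt_of_le_of_ne inf_le_left fun e => hz1 ?_)) hw hw1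
    rw [← mem_bot, ← hU]
    exact ⟨hz, fun m hm => mem_cent1.1 ((e.ge.trans inf_le_right) hm.1)⟩
  set U := Y ⊓ 𝐂(K ⊓ 𝐍(Y)) with hUd
  by_cases hC : K ≤ 𝐂(U)
  · have hN : (U.subgroupOf K).Normal := (normal_subgroupOf_iff_le_normalizer
      (inf_le_left.trans h.le)).2 (hC.trans (U4.cent_le_norm U))
    have hker : ∀ x : K, QuotientGroup.mk' (U.subgroupOf K) x = 1 ↔ (x : X) ∈ U := fun x => by
      rw [QuotientGroup.mk'_apply, QuotientGroup.eq_one_iff, mem_subgroupOf]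
    obtain ⟨b', h1, h2⟩ := h.quot (QuotientGroup.mk' (U.subgroupOf K))
      (QuotientGroup.mk'_surjective _) inf_le_left (fun y hy => h.mem_U hy) hker
    refine h.of_quot _ (QuotientGroup.mk'_surjective _) inf_le_left hC hker h2
      (ih _ ?_ rfl h1)
    rw [card_top, ← hn, card_eq_card_quotient_mul_card_subgroup (U.subgroupOf K),
      Nat.card_congr (subgroupOfEquivOfLe (inf_le_left.trans h.le)).toEquiv]
    exact lt_mul_of_one_lt_right Nat.card_pos (one_lt_card_iff_ne_bot _ |>.2 hU)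
  · have h1 := sub (K ⊓ 𝐂(U)) (le_inf h.le (h.el.le_cent' le_rfl inf_le_left))
      (lt_of_le_of_ne inf_le_left fun e => hC (e.ge.trans inf_le_right))
    have h2 : Od (K ⊓ 𝐂(U)) ≤ Od K := le_Od' ((Od_le _).trans inf_le_left) (odd_Od _) inf_le_left
      (le_norm_Od _) h.zstar
    exact h.zstar.trans (sup_le le_sup_left (h1.trans
      (sup_le_sup h2 (inf_le_inf_right _ inf_le_left))))

/-- (SC) -/
theorem fac {X : Type*} [Group X] [Finite X] {K Y : Subgroup X} {b : X → X} {r : ℕ}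
    (h : SCH K Y b r) : K ≤ Od K ⊔ (K ⊓ 𝐍(Y)) := fac_aux _ rfl h

end SCH

end CfsgLib.CP
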