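import Cfsg.Agent.Lib.CP.B0
import Cfsg.Agent.Lib.CP.SC

set_option autoImplicit false

namespace CfsgLib.CP

open Subgroup Cfsg CfsgLib.FT CfsgLib.FT.BGN CfsgLib.GW CfsgLib.Wal
open CfsgLib.FT.U4 (mem_cent1 mem_cent1' mem_cent mem_cent1_comm cent1_conj conj_mem_conj_iff
  orderOf_conj)
open scoped commutatorElement

variable {X : Type*} [Group X] [Finite X] {G T : Subgroup X} {a : X}

omit [Finite X] in
theorem a2_eq_of_norm (hs : IsSimpleGroup G) {N : Subgroup X} (h1 : N ≤ G) (h2 : G ≤ 𝐍(N)) :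
    N = ⊥ ∨ N = G := by
  rcases ((normal_subgroupOf_iff_le_normalizer h1).2 h2).eq_bot_or_eq_top with e | e
  · exact Or.inl (le_bot_iff.1 (((subgroupOf_eq_bot).1 e).le_bot.trans' (le_inf le_rfl h1)))
  · exact Or.inr (le_antisymm h1 (subgroupOf_eq_top.1 e))

omit [Finite X] in
theorem a2_not_solv (hs : IsSimpleGroup G) (hn : ¬ IsMulCommutative G) : ¬ Group.IsSolvable G :=
  fun h => hn ⟨⟨IsSimpleGroup.comm_iff_isSolvable.2 h⟩⟩

theorem SCH.false_of_simple {Y : Subgroup X} {b : X → X} {r : ℕ} (h : SCH G Y b r)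
    (hs : IsSimpleGroup G) (hn : ¬ IsMulCommutative G) (hY : Y ≠ ⊥) : False := by
  have h1 : Od G = ⊥ := (a2_eq_of_norm hs (Od_le G) (le_norm_Od G)).resolve_right fun e =>
    a2_not_solv hs hn (solvable_of_odd (e ▸ odd_Od G))
  have h2 := h.fac
  rw [h1, bot_sup_eq] at h2
  refine (a2_eq_of_norm hs h.le (h2.trans inf_le_right)).elim hY fun e => ?_
  exact a2_not_solv hs hn (e ▸ isSolvable_of_isPGroup h.el.isPGroup)

variable [PD T]

theorem a2_strong (hT : IsSylowIn 2 T ⊤) (wc : WC T) {y g : X} (hy : y ∈ Yt T)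
    (h1 : g * y * g⁻¹ ∈ T) : g * y * g⁻¹ ∈ Yt T := by
  by_cases hy1 : y = 1
  · subst hy1; simp
  have h2 : g •ᶜ Yt T ≤ 𝐂[g * y * g⁻¹] := ((Yt_el T).cj g).le_cent1 (cj_mem hy)
  have h3 : Zt T ≤ 𝐂[g * y * g⁻¹] := (Zt_le_cent T).trans (U4.cent_le_cent1 h1)
  obtain ⟨S, hS1, hS⟩ := IsSylowIn.exists_ge (Zt_el T).isPGroup h3
  obtain ⟨c, hc, h4⟩ := hS.exists_conj_le ((Yt_el T).cj g).isPGroup h2
  obtain ⟨k, hk⟩ := exists_syl_ge hT hS.isPGroup
  have h5 : k⁻¹ ∈ 𝐍(Yt T) := wc _ (U4.le_conj_iff.1 (hS1.trans hk))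
  have h6 : k⁻¹ * (c * g) ∈ 𝐍(Yt T) := wc _ (by
    rw [map_conj_mul, map_conj_mul]
    exact U4.le_conj_iff.1 ((map_mono (map_mono (Zt_le_Yt T))).trans (h4.trans hk)))
  have h7 : c * g ∈ 𝐍(Yt T) := (mul_mem_cancel_left h5).1 h6
  have h8 := norm_mem h7 hy
  rwa [show c * g * y * (c * g)⁻¹ = c * (g * y * g⁻¹) * c⁻¹ by group,
    U4.conj_eq_of_mem_cent1 hc] at h8

theorem CP1.false_of_wc (h : CP1 G T a) (wc : WC T) : False := by
  have hT := h.syl
  refine SCH.false_of_simple (Y := Yt T) (b := fun y => PD.β T * y * (PD.β T)⁻¹) (r := PD.p T)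
    ⟨PD.prime, PD.five, h.cop, Yt_el T, (Yt_le T).trans h.le, fun y hy g hg h1 => ?_,
      fun y hy => norm_mem (β_norm T) hy, fun x _ y _ => by group, fun y hy => ?_,
      fun y hy e => PD.fpf y hy e, fun n _ hn y hy => PD.comm n hn y hy⟩ h.simple h.nonab PD.ne
  · obtain ⟨m, hm, h2⟩ := (hT.mono (le_norm_Yt T) le_top).exists_conj_le
      (Invol.isPGroup_zpowers (Invol.conj_mul_self (Yt_el T y hy) g)) (zpowers_le.2 h1)
    have h3 : m * g * y * (m * g)⁻¹ ∈ T := by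
      have := h2 ⟨_, mem_zpowers _, rfl⟩
      simpa [mul_assoc] using this
    have h4 := norm_mem (inv_mem hm) (a2_strong hT wc hy h3)
    rwa [show m⁻¹ * (m * g * y * (m * g)⁻¹) * m⁻¹⁻¹ = g * y * g⁻¹ by group] at h4
  · have key : ∀ n : ℕ, (fun y => PD.β T * y * (PD.β T)⁻¹)^[n] y =
        PD.β T ^ n * y * (PD.β T ^ n)⁻¹ := by
      intro n
      induction n with
      | zero => simp
      | succ n ih => rw [Function.iterate_succ_apply', ih, pow_succ']; group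
    rw [key, ← mem_cent.1 (PD.pw (T := T)) y hy]; group

end CfsgLib.CP
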