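import Cfsg.Agent.Lib.CP.B0
import Cfsg.Agent.Lib.H9Misc

/-! The scalar `β` on a minimal invariant elementary abelian `2`-group. -/

set_option autoImplicit false

namespace CfsgLib.CP

open Subgroup Cfsg CfsgLib.FT CfsgLib.FT.BGN CfsgLib.GW CfsgLib.Wal
open CfsgLib.FT.U4 (mem_cent1 mem_cent1' mem_cent mem_cent1_comm cent1_conj conj_mem_conj_iff
  orderOf_conj)
open scoped commutatorElement

variable {X : Type*} [Group X] [Finite X]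

theorem beta_odd {Y L : Subgroup X} {a : X} {p n : ℕ} (hp : p.Prime) (h2 : p ≠ 2) (hY : El Y)
    (hL : Odd (Nat.card L)) (hc : (Nat.card L).Coprime p) (hLY : L ≤ 𝐍(Y)) (haY : a ∈ 𝐍(Y))
    (haL : a ∈ 𝐍(L)) (hn : a ^ p ^ (n + 1) ∈ 𝐂(Y))
    (hf : ∀ y ∈ Y, a * y * a⁻¹ = y → y = 1) {g : X} (hg : g ∈ L) : ⁅g, a ^ p ^ n⁆ ∈ 𝐂(Y) := by
  have := Fact.mk Nat.prime_two
  by_contra h
  obtain ⟨q, d, j, m, hq, hd, hjm, hm, h1, -, Q, hQK, hQ, hnc⟩ := H9.hh_sec 2 (M := Y) (N := ⊥)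
    (K := L) bot_le (commutator_eq_bot_iff_le_centralizer.2 hY.le_cent).le
    (fun y hy => by rw [mem_bot, pow_two, hY y hy]) hLY
    le_normalizer_of_normal haY (le_normalizer_of_normal (mem_top a)) haL
    (Nat.coprime_two_right.2 hL) hp hc (n := n)
    (fun y hy => by
      rw [mem_bot, commutatorElement_eq_one_iff_mul_comm]; exact (mem_cent.1 hn y hy).symm) (by
      by_contra hc'
      push Not at hc'
      refine h (mem_cent.2 fun y hy => ?_)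
      exact (commutatorElement_eq_one_iff_mul_comm.1 (mem_bot.1 (hc' g hg y hy))).symm)
    (s := p ^ (n + 1) - 1)
    (Nat.sub_one_lt (pow_pos hp.pos _).ne') (Or.inr ⟨rfl, Or.inr fun y hy h => by
      rw [mem_bot, commutatorElement_eq_one_iff_mul_comm] at h
      exact mem_bot.2 (hf y hy (by rw [h]; group))⟩)
  obtain ⟨rfl, -⟩ := H9.fermat_of_pow_add_one hp h2 hq h1
  have h3 : Q = ⊥ := U4.eq_bot_of_forall fun x hx => Invol.eq_one_of_odd_of_mem hQ hx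
    (hL.of_dvd_nat (L.orderOf_dvd_natCard (hQK hx)))
  exact hnc (h3 ▸ inferInstance)

theorem beta_ex {M T Y : Subgroup X} {a : X} {p k : ℕ} (hp : p.Prime) (h2 : p ≠ 2)
    (hk : a ^ p ^ k = 1) (hs : Group.IsSolvable M) (hc : ¬ p ∣ Nat.card M) (haM : a ∈ 𝐍(M))
    (hT : IsSylowIn 2 T M) (haT : a ∈ 𝐍(T)) (hYT : Y ≤ T) (hY : El Y) (h0 : Y ≠ ⊥)
    (hMY : M ≤ 𝐍(Y)) (haY : a ∈ 𝐍(Y)) (hf : ∀ y ∈ Y, a * y * a⁻¹ = y → y = 1)
    (hmin : ∀ U : Subgroup X, U ≤ Y → M ≤ 𝐍(U) → a ∈ 𝐍(U) → U ≠ ⊥ → Y ≤ U) :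
    ∃ β ∈ zpowers a, (∀ m ∈ M, ∀ y ∈ Y, β * (m * y * m⁻¹) * β⁻¹ = m * (β * y * β⁻¹) * m⁻¹) ∧
      (∀ y ∈ Y, β * y * β⁻¹ = y → y = 1) ∧ β ^ p ∈ 𝐂(Y) := by
  classical
  have := Fact.mk hp
  have hex : ∃ n, a ^ p ^ n ∈ 𝐂(Y) := ⟨k, by rw [hk]; exact one_mem _⟩
  have h1 := Nat.find_spec hex
  obtain ⟨n, hn⟩ : ∃ n, Nat.find hex = n + 1 := by
    refine Nat.exists_eq_succ_of_ne_zero fun e => h0 (U4.eq_bot_of_forall fun y hy => hf y hy ?_)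
    rw [e, pow_zero, pow_one] at h1
    rw [← mem_cent.1 h1 y hy]; group
  have h3 : a ^ p ^ n ∉ 𝐂(Y) := Nat.find_min hex (by omega)
  rw [hn] at h1
  set β := a ^ p ^ n with hβ
  have hβa : β ∈ zpowers a := pow_mem (mem_zpowers a) _
  have hab : a * β = β * a := by rw [hβ, ← pow_succ, ← pow_succ']
  have hβY : β ∈ 𝐍(Y) := pow_mem haY _
  have hcop : (Nat.card M).Coprime p := (hp.coprime_iff_not_dvd.2 hc).symm
  have hA : IsPGroup p (zpowers a) := IsPGroup.of_card_dvd_pow (n := k) (by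
    rw [Nat.card_zpowers]; exact orderOf_dvd_of_pow_eq_one hk)
  obtain ⟨L, hL, haL⟩ := Cop.exists_invariant_hallOf {2}ᶜ (A := zpowers a) (G := M)
    (zpowers_le.2 haM) (Cop.coprime_card_of_isPGroup hcop hA).symm hs
  have hLo : Odd (Nat.card L) := Nat.not_even_iff_odd.1 fun e =>
    hL.2.1 2 Nat.prime_two (even_iff_two_dvd.1 e) rfl
  have hLβ : ∀ l ∈ L, ∀ y ∈ Y, β * (l * y * l⁻¹) * β⁻¹ = l * (β * y * β⁻¹) * l⁻¹ := by
    intro l hl y hy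
    have h4 := beta_odd hp h2 hY hLo (hcop.coprime_dvd_left (card_dvd_of_le hL.1))
      (hL.1.trans hMY) haY (haL (mem_zpowers a)) h1 hf (inv_mem hl)
    have h5 := mem_cent.1 h4 _ (norm_mem hβY hy)
    rw [commutatorElement_def, ← hβ] at h5
    calc β * (l * y * l⁻¹) * β⁻¹
        = l * (l⁻¹ * β * l⁻¹⁻¹ * β⁻¹ * (β * y * β⁻¹)) * (l⁻¹ * β * l⁻¹⁻¹ * β⁻¹)⁻¹ * l⁻¹ := by group
      _ = _ := by rw [← h5]; group
  let U : Subgroup X :=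
    { carrier := {y | y ∈ Y ∧ ∀ m ∈ M, β * (m * y * m⁻¹) * β⁻¹ = m * (β * y * β⁻¹) * m⁻¹}
      one_mem' := ⟨one_mem _, fun m _ => by group⟩
      mul_mem' := by
        rintro x y ⟨k1, k2⟩ ⟨k3, k4⟩
        refine ⟨mul_mem k1 k3, fun m hm => ?_⟩
        calc β * (m * (x * y) * m⁻¹) * β⁻¹
            = (β * (m * x * m⁻¹) * β⁻¹) * (β * (m * y * m⁻¹) * β⁻¹) := by group
          _ = _ := by rw [k2 m hm, k4 m hm]; group
      inv_mem' := by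
        rintro x ⟨k1, k2⟩
        refine ⟨inv_mem k1, fun m hm => ?_⟩
        calc β * (m * x⁻¹ * m⁻¹) * β⁻¹ = (β * (m * x * m⁻¹) * β⁻¹)⁻¹ := by group
          _ = _ := by rw [k2 m hm]; group }
  have hTM := hT.le
  have hZ : Y ⊓ 𝐂(T) ≤ U := fun z hz => ⟨hz.1, fun m hm => by
    obtain ⟨t, ht, l, hl, e⟩ := exists_mul_of_hallOf (U4.hallOf_of_sylow hT) hL (inv_mem hm)
    have e' : m = l⁻¹ * t⁻¹ := by rw [← mul_inv_rev, e, inv_inv]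
    have k1 : t⁻¹ * z * t⁻¹⁻¹ = z := by rw [mem_cent.1 hz.2 _ (inv_mem ht)]; group
    have k2 : β * z * β⁻¹ ∈ 𝐂(T) := norm_mem (U4.norm_le_norm_cent T (pow_mem haT _)) hz.2
    have k3 : t⁻¹ * (β * z * β⁻¹) * t⁻¹⁻¹ = β * z * β⁻¹ := by
      rw [mem_cent.1 k2 _ (inv_mem ht)]; group
    calc β * (m * z * m⁻¹) * β⁻¹ = β * (l⁻¹ * (t⁻¹ * z * t⁻¹⁻¹) * l⁻¹⁻¹) * β⁻¹ := by rw [e']; group
      _ = l⁻¹ * (t⁻¹ * (β * z * β⁻¹) * t⁻¹⁻¹) * l⁻¹⁻¹ := by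
        rw [k1, k3, hLβ _ (inv_mem hl) z hz.1]
      _ = _ := by rw [e']; group⟩
  have hU : Y ≤ U := by
    refine hmin U (fun y hy => hy.1) (fun g hg => mem_normalizer_of_conj_mem fun y hy =>
      ⟨norm_mem (hMY hg) hy.1, fun m hm => ?_⟩) (mem_normalizer_of_conj_mem fun y hy =>
      ⟨norm_mem haY hy.1, fun m hm => ?_⟩) fun e => ?_
    · have k1 := hy.2 _ (mul_mem hm hg)
      have k2 := hy.2 _ hg
      rw [k2]
      calc β * (m * (g * y * g⁻¹) * m⁻¹) * β⁻¹ = β * (m * g * y * (m * g)⁻¹) * β⁻¹ := by group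
        _ = _ := by rw [k1]; group
    · have k1 := hy.2 _ (norm_mem (inv_mem haM) hm)
      have k2 : β = a * β * a⁻¹ := by rw [hab]; group
      calc β * (m * (a * y * a⁻¹) * m⁻¹) * β⁻¹
          = (a * β * a⁻¹) * (m * (a * y * a⁻¹) * m⁻¹) * (a * β * a⁻¹)⁻¹ := by rw [← k2]
        _ = a * (β * (a⁻¹ * m * a⁻¹⁻¹ * y * (a⁻¹ * m * a⁻¹⁻¹)⁻¹) * β⁻¹) * a⁻¹ := by group
        _ = m * ((a * β * a⁻¹) * (a * y * a⁻¹) * (a * β * a⁻¹)⁻¹) * m⁻¹ := by rw [k1]; group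
        _ = _ := by rw [← k2]
    · exact inf_centralizer_ne_bot_of_isNilpotent hT.isPGroup.isNilpotent hYT (hTM.trans hMY) h0
        (le_bot_iff.1 (e ▸ hZ))
  have hcomm : ∀ m ∈ M, ∀ y ∈ Y, β * (m * y * m⁻¹) * β⁻¹ = m * (β * y * β⁻¹) * m⁻¹ :=
    fun m hm y hy => (hU hy).2 m hm
  refine ⟨β, hβa, hcomm, fun y hy e => ?_, by rw [hβ, ← pow_mul, ← pow_succ]; exact h1⟩
  by_contra hy1
  refine h3 (mem_cent.2 fun x hx => mem_cent1.1 (hmin (Y ⊓ 𝐂[β]) inf_le_left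
    (fun g hg => mem_normalizer_of_conj_mem fun y hy => ⟨norm_mem (hMY hg) hy.1, ?_⟩)
    (mem_normalizer_of_conj_mem fun y hy => ⟨norm_mem haY hy.1, ?_⟩)
    (U4.ne_bot_of_mem (x := y) ⟨hy, mem_cent1_comm.1 (U4.mem_cent1_of_conj_eq e)⟩ hy1) hx).2)
  · refine mem_cent1_comm.1 (U4.mem_cent1_of_conj_eq ?_)
    rw [hcomm g hg y hy.1, U4.conj_eq_of_mem_cent1 (mem_cent1_comm.1 hy.2)]
  · have k1 : a ∈ 𝐂[β] := mem_cent1.2 hab
    have k2 : y ∈ 𝐂[β] := hy.2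
    exact Subgroup.mul_mem _ (Subgroup.mul_mem _ k1 k2) (Subgroup.inv_mem _ k1)

end CfsgLib.CP
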