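import Cfsg.Agent.Lib.CP.A2
import Cfsg.Agent.Lib.CP.Beta

set_option autoImplicit false

namespace CfsgLib.CP

open Subgroup Cfsg CfsgLib.FT CfsgLib.FT.BGN CfsgLib.GW CfsgLib.Wal
open CfsgLib.FT.U4 (mem_cent1 mem_cent1' mem_cent mem_cent1_comm cent1_conj conj_mem_conj_iff
  orderOf_conj)
open scoped commutatorElement

variable {X : Type*} [Group X] [Finite X] {G T : Subgroup X} {a : X} {p : ℕ}

/-- `Y` is strongly closed in `T` with respect to `G`. -/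
def A3SC (G T Y : Subgroup X) : Prop := ∀ y ∈ Y, ∀ g ∈ G, g * y * g⁻¹ ∈ T → g * y * g⁻¹ ∈ Y

theorem A3SC.mem_norm {Y : Subgroup X} (h : A3SC G T Y) {g : X} (hg : g ∈ G) (h1 : g •ᶜ Y ≤ T) :
    g ∈ 𝐍(Y) :=
  mem_normalizer_fintype fun y hy => h y hy g hg (h1 ⟨y, hy, rfl⟩)

theorem A3SC.fusion {Y : Subgroup X} (h : A3SC G T Y) (hT : IsSylowIn 2 T G) (hY : El Y)
    (hYT : Y ≤ T) {y g : X} (hy : y ∈ Y) (hg : g ∈ G) (h1 : g * y * g⁻¹ ∈ Y) :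
    ∃ n ∈ G ⊓ 𝐍(Y), n * y * n⁻¹ = g * y * g⁻¹ := by
  have hYG := hYT.trans hT.le
  have h2 : Y ≤ G ⊓ 𝐂[g * y * g⁻¹] := le_inf hYG (hY.le_cent1 h1)
  have h3 : g •ᶜ Y ≤ G ⊓ 𝐂[g * y * g⁻¹] :=
    le_inf (by rintro _ ⟨x, hx, rfl⟩; exact mul_mem (mul_mem hg (hYG hx)) (inv_mem hg))
      ((hY.cj g).le_cent1 (cj_mem hy))
  obtain ⟨S, hS1, hS⟩ := IsSylowIn.exists_ge hY.isPGroup h2
  obtain ⟨c, hc, h4⟩ := hS.exists_conj_le (hY.cj g).isPGroup h3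
  obtain ⟨k, hk, h5⟩ := hT.exists_conj_le hS.isPGroup (hS.le.trans inf_le_left)
  have h6 : k ∈ 𝐍(Y) := h.mem_norm hk ((map_mono hS1).trans h5)
  have h7 : k * (c * g) ∈ 𝐍(Y) := h.mem_norm (mul_mem hk (mul_mem hc.1 hg)) (by
    rw [map_conj_mul, map_conj_mul]
    exact (map_mono h4).trans h5)
  refine ⟨c * g, ⟨mul_mem hc.1 hg, (mul_mem_cancel_left h6).1 h7⟩, ?_⟩
  calc c * g * y * (c * g)⁻¹ = c * (g * y * g⁻¹) * c⁻¹ := by group
    _ = _ := U4.conj_eq_of_mem_cent1 hc.2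

theorem CP0.a3_exists (h : CP0 G T a p) {b : X} (hb : b ∈ zpowers a)
    (hb1 : orderOf b = p) (hT : T ≤ 𝐂[b]) :
    ∃ Y : Subgroup X, Y ≤ T ∧ El Y ∧ Y ≠ ⊥ ∧ a ∈ 𝐍(Y) ∧ A3SC G T Y := by
  have := h.normal
  have := Fact.mk h.prime
  have hTG : IsSylowIn 2 T G := h.syl.mono h.le le_top
  have hab : a ∈ 𝐂[b] := mem_cent1_comm.1 (U4.zpowers_le_cent1 a hb)
  have hCG : G ⊓ 𝐂[b] < G := lt_of_le_of_ne inf_le_left fun e => by
    have h1 : b ∈ 𝐂(G) ⊓ zpowers a :=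
      ⟨mem_cent.2 fun g hg => mem_cent1.1 (e.ge hg).2, hb⟩
    rw [h.faith, mem_bot] at h1
    rw [h1, orderOf_one] at hb1
    exact h.prime.one_lt.ne hb1
  have haC : a ∈ 𝐍(G ⊓ 𝐂[b]) :=
    le_normalizer_inf (C := 𝐂[b]) le_normalizer_of_normal le_normalizer hab
  have hs := h.sol _ hCG haC
  have hTC : IsSylowIn 2 T (G ⊓ 𝐂[b]) := h.syl.mono (le_inf h.le hT) le_top
  have hGe : ¬ Odd (Nat.card G) := fun ho => a2_not_solv h.simple h.nonab (solvable_of_odd ho)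
  have hT0 : T ≠ ⊥ := hTG.ne_bot (even_iff_two_dvd.1 (Nat.not_odd_iff_even.1 hGe))
  obtain ⟨N, ⟨hNC, hCN, haN, hN0⟩, hmin⟩ := exists_minimal_of_wellFoundedLT
    (fun N : Subgroup X => N ≤ G ⊓ 𝐂[b] ∧ G ⊓ 𝐂[b] ≤ 𝐍(N) ∧ a ∈ 𝐍(N) ∧ T ⊓ N ≠ ⊥)
    ⟨G ⊓ 𝐂[b], le_rfl, le_normalizer, haC, by rwa [inf_eq_left.2 hTC.le]⟩
  have hNs : Group.IsSolvable N := isSolvable_of_le hs hNC
  have hlt : ⁅N, N⁆ < N := Sig.commutator_self_lt hNs fun e => hN0 (by rw [e, inf_bot_eq])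
  have hab' : T ⊓ ⁅N, N⁆ = ⊥ := by
    by_contra hne
    exact hlt.not_ge (hmin ⟨hlt.le.trans hNC, Cop.le_normalizer_commutator hCN hCN,
      Cop.le_normalizer_commutator (zpowers_le.2 haN) (zpowers_le.2 haN) (mem_zpowers a), hne⟩
      hlt.le)
  have hcomm : T ⊓ N ≤ 𝐂(T ⊓ N) := commutator_eq_bot_iff_le_centralizer.1 (le_bot_iff.1
    (hab'.le.trans' (le_inf ((commutator_mono inf_le_left inf_le_left).trans
      (U4.comm_le_left le_normalizer)) (commutator_mono inf_le_right inf_le_right))))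
  have hsc : A3SC G T (T ⊓ N) := by
    intro y hy g hg h1
    refine ⟨h1, ?_⟩
    have hA : IsPGroup p (zpowers b) :=
      IsPGroup.of_card (n := 1) (by rw [Nat.card_zpowers, hb1, pow_one])
    have hbw : zpowers b ≤ 𝐂[g * y * g⁻¹] := zpowers_le.2 (mem_cent1_comm.1 (hT h1))
    have hby : zpowers b ≤ 𝐂[y] := zpowers_le.2 (mem_cent1_comm.1 (hT hy.1))
    obtain ⟨n, hn, c, hc, e⟩ := Cop.exists_mul_centralizer_of_commutator_mem (A := zpowers b)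
      (N := G ⊓ 𝐂[g * y * g⁻¹]) (le_normalizer_inf le_normalizer_of_normal
        (hbw.trans le_normalizer))
      (Cop.coprime_card_of_isPGroup (((h.prime.coprime_iff_not_dvd.2 h.cop).symm).coprime_dvd_left
        (card_dvd_of_le inf_le_left)) hA).symm (Or.inl isSolvable_of_isMulCommutative) (g := g)
      fun x hx => ⟨by
        rw [commutatorElement_def, mul_assoc, mul_assoc, ← mul_assoc x]
        exact mul_mem hg (h.normal.conj_mem _ (inv_mem hg) x), U4.mem_cent1_of_conj_eq (by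
          have e1 := U4.conj_eq_of_mem_cent1 (inv_mem (hbw hx))
          have e2 := U4.conj_eq_of_mem_cent1 (hby hx)
          rw [commutatorElement_def]
          calc g * x * g⁻¹ * x⁻¹ * (g * y * g⁻¹) * (g * x * g⁻¹ * x⁻¹)⁻¹
              = g * x * g⁻¹ * (x⁻¹ * (g * y * g⁻¹) * x⁻¹⁻¹) * (g * x * g⁻¹)⁻¹ := by group
            _ = g * (x * y * x⁻¹) * g⁻¹ := by rw [e1]; group
            _ = _ := by rw [e2])⟩
    have hn1 : n ∈ G := hn.1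
    have hn2 : n ∈ 𝐂[g * y * g⁻¹] := hn.2
    have hcG : c ∈ G := (mul_mem_cancel_left hn1).1 (e ▸ hg)
    have hcb : c ∈ 𝐂[b] := U4.cent_le_cent1 (mem_zpowers b) hc
    have e3 : g * y * g⁻¹ = c * y * c⁻¹ := by
      have := U4.conj_eq_of_mem_cent1 (inv_mem hn2)
      rw [← this, ← e]; group
    rw [e3]
    exact norm_mem (hCN ⟨hcG, hcb⟩) hy.2
  refine ⟨Om (T ⊓ N), (Om_le _).trans inf_le_left, Om_el _, ?_,
    norm_le_norm_Om _ (le_normalizer_inf (zpowers_le.2 h.anorm) (zpowers_le.2 haN)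
      (mem_zpowers a)), fun y hy g hg h1 => ?_⟩
  · obtain ⟨k, hk⟩ := (h.syl.isPGroup.to_inf_left (K := N)).exists_card_eq
    obtain ⟨t, ht⟩ := exists_prime_orderOf_dvd_card' (G := (T ⊓ N : Subgroup X)) 2 (by
      rcases k with _ | k
      · exact absurd (eq_bot_of_card_eq _ hk) hN0
      · rw [hk]; exact dvd_pow_self 2 (Nat.succ_ne_zero k))
    rw [← Subgroup.orderOf_coe] at ht
    exact U4.ne_bot_of_mem (x := (t : X)) ⟨t.2, hcomm t.2, by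
      rw [← pow_two, ← ht, pow_orderOf_eq_one]⟩ (fun e => by rw [e, orderOf_one] at ht; omega)
  · have h2 := hsc y hy.1 g hg h1
    exact ⟨h2, hcomm h2, Invol.conj_mul_self hy.2.2 g⟩

theorem CP0.false_of_le_cent (h : CP0 G T a p) {b : X} (hb : b ∈ zpowers a)
    (hb1 : orderOf b = p) (hT : T ≤ 𝐂[b]) : False := by
  have := h.normal
  have hTG : IsSylowIn 2 T G := h.syl.mono h.le le_top
  obtain ⟨Y, ⟨hYT, hY, h0, haY, hsc⟩, hmin⟩ := exists_minimal_of_wellFoundedLT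
    (fun Y : Subgroup X => Y ≤ T ∧ El Y ∧ Y ≠ ⊥ ∧ a ∈ 𝐍(Y) ∧ A3SC G T Y) (h.a3_exists hb hb1 hT)
  have hYG := hYT.trans h.le
  have hTY : T ≤ 𝐍(Y) := fun t ht => hsc.mem_norm (h.le ht) (by
    rintro _ ⟨x, hx, rfl⟩; exact mul_mem (mul_mem ht (hYT hx)) (inv_mem ht))
  have hTM : IsSylowIn 2 T (G ⊓ 𝐍(Y)) := h.syl.mono (le_inf h.le hTY) le_top
  have hMG : G ⊓ 𝐍(Y) < G := lt_of_le_of_ne inf_le_left fun e =>
    (a2_eq_of_norm h.simple hYG (e.ge.trans inf_le_right)).elim h0 fun e' =>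
      a2_not_solv h.simple h.nonab (e' ▸ isSolvable_of_isPGroup hY.isPGroup)
  have haM : a ∈ 𝐍(G ⊓ 𝐍(Y)) :=
    le_normalizer_inf (C := 𝐍(Y)) le_normalizer_of_normal le_normalizer haY
  obtain ⟨k, hk⟩ := h.ord
  have h5 := h.five
  obtain ⟨β, hβ, h1, h2, h3⟩ := beta_ex h.prime (by omega) hk (h.sol _ hMG haM)
    (fun e => h.cop (e.trans (card_dvd_of_le inf_le_left))) haM hTM h.anorm hYT hY h0 inf_le_right
    haY (fun y hy e => by
      have : y ∈ G ⊓ 𝐂[a] := ⟨hYG hy, mem_cent1_comm.1 (U4.mem_cent1_of_conj_eq e)⟩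
      rwa [h.fpf, mem_bot] at this)
    (fun U hU hMU haU hU0 => hmin ⟨hU.trans hYT, hY.mono hU, hU0, haU, fun y hy g hg e => by
      obtain ⟨n, hn, e'⟩ := hsc.fusion hTG hY hYT (hU hy) hg (hsc y (hU hy) g hg e)
      rw [← e']
      exact norm_mem (hMU hn) hy⟩ hU)
  have hβY : β ∈ 𝐍(Y) := zpowers_le.2 haY hβ
  refine SCH.false_of_simple (Y := Y) (b := fun y => β * y * β⁻¹) (r := p)
    ⟨h.prime, h.five, h.cop, hY, hYG, fun y hy g hg h4 => ?_,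
      fun y hy => norm_mem hβY hy, fun x _ y _ => by group, fun y hy => ?_,
      h2, fun n hnG hn y hy => h1 n ⟨hnG, hn⟩ y hy⟩ h.simple h.nonab h0
  · obtain ⟨m, hm, h6⟩ := hTM.exists_conj_le
      (Invol.isPGroup_zpowers (Invol.conj_mul_self (hY y hy) g))
      (zpowers_le.2 (mem_inf.2 ⟨mul_mem (mul_mem hg (hYG hy)) (inv_mem hg), h4⟩))
    have h7 : m * g * y * (m * g)⁻¹ ∈ T := by
      have := h6 ⟨_, mem_zpowers _, rfl⟩
      simpa [mul_assoc] using this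
    have h8 := norm_mem (inv_mem hm.2) (hsc y hy _ (mul_mem hm.1 hg) h7)
    rwa [show m⁻¹ * (m * g * y * (m * g)⁻¹) * m⁻¹⁻¹ = g * y * g⁻¹ by group] at h8
  · have key : ∀ n : ℕ, (fun y => β * y * β⁻¹)^[n] y = β ^ n * y * (β ^ n)⁻¹ := by
      intro n
      induction n with
      | zero => simp
      | succ n ih => rw [Function.iterate_succ_apply', ih, pow_succ']; group
    rw [key, ← mem_cent.1 h3 y hy]; group

end CfsgLib.CP
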