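import Cfsg.Agent.Lib.CP.Defs

set_option autoImplicit false
set_option linter.unusedSectionVars false
set_option linter.unusedVariables false

namespace CfsgLib.CP

open Subgroup Cfsg CfsgLib.FT CfsgLib.FT.BGN CfsgLib.GW CfsgLib.Wal
open CfsgLib.FT.U4 (mem_cent1 mem_cent1' mem_cent mem_cent1_comm cent1_conj conj_mem_conj_iff
  orderOf_conj conj_le_iff le_conj_iff conj_inj)
open scoped commutatorElement

variable {X : Type*} [Group X] [Finite X] {G T : Subgroup X} {a : X}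

theorem lcc {A B : Subgroup X} (h : A ≤ 𝐂(B)) : B ≤ 𝐂(A) := le_centralizer_iff.1 h

theorem cent_anti {A B : Subgroup X} (h : A ≤ B) : 𝐂(B) ≤ 𝐂(A) := centralizer_le h

theorem cj_cent {A B : Subgroup X} (h : A ≤ 𝐂(B)) (g : X) : g •ᶜ A ≤ 𝐂(g •ᶜ B) := by
  rw [centralizer_map_conj]; exact map_mono h

theorem cj_norm {A B : Subgroup X} (h : A ≤ 𝐍(B)) (g : X) : g •ᶜ A ≤ 𝐍(g •ᶜ B) := by
  rw [normalizer_map_conj]; exact map_mono h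

theorem cj_eq {g : X} {H : Subgroup X} (hg : g ∈ 𝐍(H)) : g •ᶜ H = H :=
  CfsgLib.map_conj_eq_of_mem_normalizer hg

theorem mem_norm_of_cj {g : X} {H : Subgroup X} (hg : g •ᶜ H = H) : g ∈ 𝐍(H) :=
  CfsgLib.mem_normalizer_of_map_conj_eq hg

theorem mem_norm_of_cj_le {g : X} {H : Subgroup X} (hg : g •ᶜ H ≤ H) : g ∈ 𝐍(H) :=
  mem_norm_of_cj (eq_of_le_of_card_ge hg (by rw [CfsgLib.card_map_conj]))

theorem cj_mem {g x : X} {H : Subgroup X} (h : x ∈ H) : g * x * g⁻¹ ∈ g •ᶜ H :=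
  conj_mem_conj_iff.2 h

theorem norm_mem {g x : X} {H : Subgroup X} (hg : g ∈ 𝐍(H)) (h : x ∈ H) : g * x * g⁻¹ ∈ H :=
  (mem_normalizer_iff.1 hg x).1 h

theorem Om_le (T : Subgroup X) : Om T ≤ T := fun _ h => h.1

theorem Om_le_cent (T : Subgroup X) : Om T ≤ 𝐂(T) := fun _ h => h.2.1

theorem le_cent_Om (T : Subgroup X) : T ≤ 𝐂(Om T) := lcc (Om_le_cent T)

theorem Om_el (T : Subgroup X) : El (Om T) := fun _ h => h.2.2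

theorem Om_cj (T : Subgroup X) (g : X) : Om (g •ᶜ T) = g •ᶜ Om T := by
  ext x
  rw [mem_Om, centralizer_map_conj, mem_map_conj_iff, mem_map_conj_iff, mem_map_conj_iff, mem_Om]
  have : g⁻¹ * x * g * (g⁻¹ * x * g) = 1 ↔ x * x = 1 := by
    have h1 : g⁻¹ * x * g * (g⁻¹ * x * g) = g⁻¹ * (x * x) * g := by group
    rw [h1]
    constructor
    · intro h
      calc x * x = g * (g⁻¹ * (x * x) * g) * g⁻¹ := by group
        _ = 1 := by rw [h]; group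
    · intro h; rw [h]; group
  rw [this]

theorem norm_le_norm_Om (T : Subgroup X) : 𝐍(T) ≤ 𝐍(Om T) := fun g hg =>
  mem_norm_of_cj (by rw [← Om_cj, cj_eq hg])

variable [PD T]

theorem Yt_le (T : Subgroup X) [PD T] : Yt T ≤ T := PD.YT

theorem Yt_el (T : Subgroup X) [PD T] : El (Yt T) := PD.elY

theorem norm_le_norm_Yt (T : Subgroup X) [PD T] : 𝐍(T) ≤ 𝐍(Yt T) := PD.NT

theorem le_norm_Yt (T : Subgroup X) [PD T] : T ≤ 𝐍(Yt T) := le_normalizer.trans PD.NT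

theorem norm_Zt_le (T : Subgroup X) [PD T] : 𝐍(Zt T) ≤ 𝐍(Yt T) := PD.NZ

theorem Zt_le_Yt (T : Subgroup X) [PD T] : Zt T ≤ Yt T := inf_le_left

theorem Zt_le (T : Subgroup X) [PD T] : Zt T ≤ T := inf_le_left.trans (Yt_le T)

theorem Zt_le_cent (T : Subgroup X) [PD T] : Zt T ≤ 𝐂(T) := inf_le_right

theorem le_cent_Zt (T : Subgroup X) [PD T] : T ≤ 𝐂(Zt T) := lcc (Zt_le_cent T)

theorem Zt_el (T : Subgroup X) [PD T] : El (Zt T) := (Yt_el T).mono (Zt_le_Yt T)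

theorem Zt_le_Om (T : Subgroup X) [PD T] : Zt T ≤ Om T := fun x hx =>
  ⟨Zt_le T hx, Zt_le_cent T hx, Zt_el T x hx⟩

theorem norm_le_norm_Zt (T : Subgroup X) [PD T] : 𝐍(T) ≤ 𝐍(Zt T) := fun g hg =>
  mem_norm_of_cj (by
    rw [Zt, map_conj_inf, ← centralizer_map_conj, cj_eq hg, cj_eq (norm_le_norm_Yt T hg)])

theorem Zt_ne_bot (hT : IsSylowIn 2 T ⊤) : Zt T ≠ ⊥ :=
  inf_centralizer_ne_bot_of_isNilpotent hT.isPGroup.isNilpotent (Yt_le T) (le_norm_Yt T) PD.ne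

theorem pt_Zt (T : Subgroup X) [PD T] : Pt T (Zt T) := ⟨1, (map_conj_one _).symm⟩

theorem Pt.cj {φ : Subgroup X} (h : Pt T φ) (g : X) : Pt T (g •ᶜ φ) := by
  obtain ⟨k, rfl⟩ := h
  exact ⟨g * k, (map_conj_mul g k _).symm⟩

theorem Pt.el {φ : Subgroup X} (h : Pt T φ) : El φ := by
  obtain ⟨k, rfl⟩ := h
  exact (Zt_el T).cj k

theorem Pt.card {φ : Subgroup X} (h : Pt T φ) : Nat.card φ = Nat.card (Zt T) := by
  obtain ⟨k, rfl⟩ := h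
  exact CfsgLib.card_map_conj k _

theorem Pt.ne_bot (hT : IsSylowIn 2 T ⊤) {φ : Subgroup X} (h : Pt T φ) : φ ≠ ⊥ := by
  obtain ⟨k, rfl⟩ := h
  exact fun e => Zt_ne_bot hT (cj_eq_bot_iff.1 e)

theorem sp_cj_Zt (T : Subgroup X) [PD T] (g : X) : sp T (g •ᶜ Zt T) = g •ᶜ Yt T := by
  refine le_antisymm (iSup₂_le fun k hk => ?_) (le_iSup₂_of_le g rfl le_rfl)
  have h1 : g⁻¹ * k ∈ 𝐍(Zt T) := mem_norm_of_cj (by
    rw [map_conj_mul, ← hk, map_conj_inv_map_conj])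
  have h2 := cj_eq (norm_Zt_le T h1)
  rw [map_conj_mul] at h2
  exact (cj_eq_iff.1 h2).le.trans (by rw [inv_inv])

theorem sp_Zt (T : Subgroup X) [PD T] : sp T (Zt T) = Yt T := by
  have := sp_cj_Zt T 1
  rwa [map_conj_one, map_conj_one] at this

theorem Pt.sp_cj {φ : Subgroup X} (h : Pt T φ) (g : X) : sp T (g •ᶜ φ) = g •ᶜ sp T φ := by
  obtain ⟨k, rfl⟩ := h
  rw [← map_conj_mul, sp_cj_Zt, sp_cj_Zt, map_conj_mul]

theorem Pt.le_sp {φ : Subgroup X} (h : Pt T φ) : φ ≤ sp T φ := by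
  obtain ⟨k, rfl⟩ := h
  rw [sp_cj_Zt]
  exact map_mono (Zt_le_Yt T)

theorem Pt.sp_el {φ : Subgroup X} (h : Pt T φ) : El (sp T φ) := by
  obtain ⟨k, rfl⟩ := h
  rw [sp_cj_Zt]
  exact (Yt_el T).cj k

theorem Pt.norm_le {φ : Subgroup X} (h : Pt T φ) : 𝐍(φ) ≤ 𝐍(sp T φ) := fun g hg =>
  mem_norm_of_cj (by rw [← h.sp_cj, cj_eq hg])

theorem Pt.cent_le {φ : Subgroup X} (h : Pt T φ) : 𝐂(φ) ≤ 𝐍(sp T φ) :=
  (cent_le_norm _).trans h.norm_le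

/-- `sp (g φ) = sp φ` iff `g` normalizes the superpoint. -/
theorem Pt.sp_cj_eq_iff {φ : Subgroup X} (h : Pt T φ) {g : X} :
    sp T (g •ᶜ φ) = sp T φ ↔ g ∈ 𝐍(sp T φ) := by
  rw [h.sp_cj]
  exact ⟨mem_norm_of_cj, cj_eq⟩

theorem sp_cj_Zt_ne {g : X} (hg : g ∉ 𝐍(Yt T)) : sp T (Zt T) ≠ sp T (g •ᶜ Zt T) := by
  rw [sp_Zt, sp_cj_Zt]
  exact fun e => hg (mem_norm_of_cj e.symm)

/-! ### The scalar `β` -/

theorem β_norm (T : Subgroup X) [PD T] : PD.β T ∈ 𝐍(Yt T) := norm_le_norm_Yt T PD.βT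

/-- `β`-invariant subgroups of `Y` have order `≡ 1 mod p`. -/
theorem card_modEq_of_β {U : Subgroup X} (h1 : U ≤ Yt T) (h2 : PD.β T ∈ 𝐍(U)) :
    Nat.card U ≡ 1 [MOD PD.p T] := by
  have := Fact.mk (PD.prime (T := T))
  let f : Function.End U := fun x => ⟨PD.β T * x * (PD.β T)⁻¹, norm_mem h2 x.2⟩
  have hf : ∀ (n : ℕ) (x : U), ((f ^ n) x : X) = PD.β T ^ n * x * (PD.β T ^ n)⁻¹ := by
    intro n
    induction n with
    | zero => intro x; simp; rfl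
    | succ n ih =>
      intro x
      rw [pow_succ']
      change PD.β T * ((f ^ n) x : X) * (PD.β T)⁻¹ = _
      rw [ih, pow_succ']; group
  have hp : f ^ PD.p T ^ 1 = 1 := by
    funext x
    apply Subtype.ext
    rw [pow_one, hf]
    change _ = (x : X)
    rw [← mem_cent.1 (PD.pw (T := T)) x (h1 x.2)]; group
  classical
  have := Fintype.ofFinite U
  have h3 := Equiv.Perm.card_fixedPoints_modEq hp
  have h4 : Fintype.card (Function.fixedPoints f) = 1 := by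
    rw [Fintype.card_eq_one_iff]
    refine ⟨⟨1, Subtype.ext (by simp [f])⟩, fun y => Subtype.ext (Subtype.ext ?_)⟩
    exact PD.fpf _ (h1 y.1.2) (congrArg Subtype.val y.2)
  rwa [h4, ← Nat.card_eq_fintype_card] at h3

theorem relIndex_modEq_of_β {U U' : Subgroup X} (h1 : U ≤ Yt T) (h2 : PD.β T ∈ 𝐍(U))
    (h3 : U' ≤ U) (h4 : PD.β T ∈ 𝐍(U')) : U'.relIndex U ≡ 1 [MOD PD.p T] := by
  have e1 := card_modEq_of_β h1 h2
  have e2 := card_modEq_of_β (h3.trans h1) h4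
  rw [← card_mul_relIndex h3] at e1
  have e3 := e2.mul_right (U'.relIndex U)
  rw [one_mul] at e3
  exact e3.symm.trans e1

theorem β_norm_inf_cent {K : Subgroup X} (hK : K ≤ 𝐍(Yt T)) : PD.β T ∈ 𝐍(Yt T ⊓ 𝐂(K)) := by
  refine mem_normalizer_of_conj_mem fun y hy => ⟨norm_mem (β_norm T) hy.1, ?_⟩
  refine mem_cent.2 fun k hk => ?_
  have e1 := PD.comm (T := T) k (hK hk) y hy.1
  have e2 : k * y * k⁻¹ = y := by rw [mem_cent.1 hy.2 k hk]; group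
  rw [e2] at e1
  calc k * (PD.β T * y * (PD.β T)⁻¹) = k * (PD.β T * y * (PD.β T)⁻¹) * k⁻¹ * k := by group
    _ = _ := by rw [← e1]

theorem cent_of_small_one {K : Subgroup X} (hK : K ≤ 𝐍(Yt T)) {x : X} (hx : x ∈ 𝐍(Yt T))
    (h4 : (𝐂[x]).relIndex (Yt T ⊓ 𝐂(K)) ≤ 4) : Yt T ⊓ 𝐂(K) ≤ 𝐂[x] := by
  have e : Yt T ⊓ 𝐂(K ⊔ zpowers x) = 𝐂[x] ⊓ (Yt T ⊓ 𝐂(K)) := by
    refine le_antisymm (le_inf (inf_le_right.trans
      (U4.cent_le_cent1 (mem_sup_right (mem_zpowers x)))) (inf_le_inf_left _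
      (cent_anti le_sup_left))) (le_inf (inf_le_right.trans inf_le_left) (lcc (sup_le
        (lcc (inf_le_right.trans inf_le_right)) (zpowers_le.2 (mem_cent.2 fun y hy =>
          mem_cent1.1 hy.1)))))
  have h1 := relIndex_modEq_of_β (U := Yt T ⊓ 𝐂(K)) (U' := Yt T ⊓ 𝐂(K ⊔ zpowers x)) inf_le_left
    (β_norm_inf_cent hK) (inf_le_inf_left _ (cent_anti le_sup_left))
    (β_norm_inf_cent (sup_le hK (zpowers_le.2 hx)))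
  rw [e, inf_relIndex_right] at h1
  have h5 := PD.five (T := T)
  have h0 : (𝐂[x]).relIndex (Yt T ⊓ 𝐂(K)) ≠ 0 := index_ne_zero_of_finite
  rw [← relIndex_eq_one]
  have h6 := h1.eq_of_lt_of_lt (by omega) (by omega)
  exact h6

/-- (β) An element of `N(Φ)` acting on `C_Φ(K)`, `K ≤ N(Φ)`, with fixed points of index `≤ 4`
acts trivially. -/
theorem Pt.cent_of_small {φ K : Subgroup X} (h : Pt T φ) (hK : K ≤ 𝐍(sp T φ)) {x : X}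
    (hx : x ∈ 𝐍(sp T φ)) (h4 : (𝐂[x]).relIndex (sp T φ ⊓ 𝐂(K)) ≤ 4) :
    sp T φ ⊓ 𝐂(K) ≤ 𝐂[x] := by
  obtain ⟨g, rfl⟩ := h
  rw [sp_cj_Zt] at *
  rw [normalizer_map_conj] at hK hx
  obtain ⟨x, rfl⟩ : ∃ y, x = g * y * g⁻¹ := ⟨g⁻¹ * x * g, by group⟩
  obtain ⟨K, rfl⟩ : ∃ K', K = g •ᶜ K' := ⟨_, (map_conj_map_conj_inv g K).symm⟩
  rw [cent1_conj, centralizer_map_conj, ← map_conj_inf] at h4 ⊢
  rw [relIndex_cj] at h4
  exact map_mono (cent_of_small_one (U4.conj_le_conj_iff.1 hK) (conj_mem_conj_iff.1 hx) h4)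

theorem Bad.cj {D : Subgroup X} (h : Bad T D) (g : X) : Bad T (g •ᶜ D) := by
  obtain ⟨h1, φ, ψ, h2, h3, h4, h5, h6, h7⟩ := h
  exact ⟨h1.map _, g •ᶜ φ, g •ᶜ ψ, h2.cj g, h3.cj g, fun e => h4 (by
    rw [h2.sp_cj, h3.sp_cj] at e; exact conj_inj.1 e), cj_cent h5 g,
    cj_cent h6 g, cj_cent h7 g⟩

theorem Bad.mono {D D' : Subgroup X} (h : Bad T D) (h' : D' ≤ D) : Bad T D' := by
  obtain ⟨h1, φ, ψ, h2, h3, h4, h5, h6, h7⟩ := h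
  exact ⟨h1.to_le h', φ, ψ, h2, h3, h4, h5, h'.trans h6, h'.trans h7⟩

theorem KK_bdd (T : Subgroup X) [PD T] :
    BddAbove {n | ∃ A : Subgroup X, El A ∧ Bad T A ∧ Nat.card A = n} := by
  refine ⟨Nat.card X, ?_⟩
  rintro _ ⟨A, -, -, rfl⟩
  exact A.card_le_card_group

theorem Bad.card_le {A : Subgroup X} (h : Bad T A) (hA : El A) : Nat.card A ≤ KK T :=
  le_csSup (KK_bdd T) ⟨A, hA, h, rfl⟩

theorem el_bot : El (⊥ : Subgroup X) := fun x hx => by rw [mem_bot.1 hx, one_mul]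

theorem Bad.exists_BB {D : Subgroup X} (h : Bad T D) : ∃ A, BB T A := by
  have hne : {n | ∃ A : Subgroup X, El A ∧ Bad T A ∧ Nat.card A = n}.Nonempty :=
    ⟨_, ⊥, el_bot, h.mono bot_le, rfl⟩
  obtain ⟨A, h1, h2, h3⟩ := Nat.sSup_mem hne (KK_bdd T)
  exact ⟨A, h1, h2, h3⟩

theorem BB.cj {A : Subgroup X} (h : BB T A) (g : X) : BB T (g •ᶜ A) :=
  ⟨h.1.cj g, h.2.1.cj g, by rw [CfsgLib.card_map_conj]; exact h.2.2⟩

theorem BB.of_le {A : Subgroup X} (hA : El A) (h : Bad T A) (hc : KK T ≤ Nat.card A) :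
    BB T A := ⟨hA, h, le_antisymm (h.card_le hA) hc⟩

theorem WB_le_of {D Y : Subgroup X} (h : ∀ A, BB T A → A ≤ D → A ≤ Y) : WB T D ≤ Y :=
  sSup_le fun A hA => h A hA.1 hA.2

theorem WB_le (T D : Subgroup X) [PD T] : WB T D ≤ D := WB_le_of fun _ _ h => h

theorem BB.le_WB {A D : Subgroup X} (h : BB T A) (h' : A ≤ D) : A ≤ WB T D :=
  le_sSup (show A ∈ {A | BB T A ∧ A ≤ D} from ⟨h, h'⟩)

theorem WB_mono {D D' : Subgroup X} (h : D ≤ D') : WB T D ≤ WB T D' :=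
  WB_le_of fun _ h1 h2 => h1.le_WB (h2.trans h)

theorem WB_idem (T D : Subgroup X) [PD T] : WB T (WB T D) = WB T D :=
  le_antisymm (WB_le _ _) (WB_le_of fun _ h1 h2 => h1.le_WB (h1.le_WB h2))

theorem WB_cj_le (T D : Subgroup X) [PD T] (g : X) : WB T (g •ᶜ D) ≤ g •ᶜ WB T D :=
  WB_le_of fun A h1 h2 => le_conj_iff.2 ((h1.cj g⁻¹).le_WB (le_conj_iff.1 h2))

theorem WB_cj (T D : Subgroup X) [PD T] (g : X) : WB T (g •ᶜ D) = g •ᶜ WB T D := by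
  refine le_antisymm (WB_cj_le T D g) (conj_le_iff.2 ?_)
  have := WB_cj_le T (g •ᶜ D) g⁻¹
  rwa [map_conj_inv_map_conj] at this

theorem norm_le_norm_WB (T D : Subgroup X) [PD T] : 𝐍(D) ≤ 𝐍(WB T D) := fun g hg =>
  mem_norm_of_cj (by rw [← WB_cj, cj_eq hg])

theorem exists_BB_le_of_ne_bot {D : Subgroup X} (h : WB T D ≠ ⊥) : ∃ A, BB T A ∧ A ≤ D := by
  by_contra hn
  push Not at hn
  exact h (le_bot_iff.1 (WB_le_of fun A h1 h2 => absurd h2 (hn A h1)))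

theorem syl_cj (hT : IsSylowIn 2 T ⊤) (g : X) : IsSylowIn 2 (g •ᶜ T) ⊤ :=
  hT.map_conj_of_mem_normalizer (le_normalizer (mem_top g))

theorem cj_le_cent_Zt (T : Subgroup X) [PD T] (g : X) : g •ᶜ T ≤ 𝐂(g •ᶜ Zt T) :=
  cj_cent (le_cent_Zt T) g

/-- (b1*) with the Sylow subgroup. -/
theorem Pt.exists_syl' (hT : IsSylowIn 2 T ⊤) {φ D : Subgroup X} (h : Pt T φ) (hD : IsPGroup 2 D)
    (hN : D ≤ 𝐍(sp T φ)) : ∃ g : X, sp T (g •ᶜ Zt T) = sp T φ ∧ D ≤ g •ᶜ T := by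
  obtain ⟨g, rfl⟩ := h
  rw [sp_cj_Zt] at hN ⊢
  have h2 : IsSylowIn 2 (g •ᶜ T) 𝐍(g •ᶜ Yt T) :=
    (syl_cj hT g).mono (cj_norm (le_norm_Yt T) g) le_top
  obtain ⟨x, hx, hle⟩ := h2.exists_conj_le hD hN
  refine ⟨x⁻¹ * g, ?_, ?_⟩
  · rw [sp_cj_Zt, map_conj_mul, cj_eq (inv_mem hx)]
  · rw [map_conj_mul]; exact conj_le_iff.1 hle

/-- (b1*) -/
theorem Pt.exists_cent (hT : IsSylowIn 2 T ⊤) {φ D : Subgroup X} (h : Pt T φ) (hD : IsPGroup 2 D)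
    (hN : D ≤ 𝐍(sp T φ)) : ∃ ψ, Pt T ψ ∧ sp T ψ = sp T φ ∧ D ≤ 𝐂(ψ) := by
  obtain ⟨g, h1, h2⟩ := h.exists_syl' hT hD hN
  exact ⟨_, ⟨g, rfl⟩, h1, h2.trans (cj_le_cent_Zt T g)⟩

theorem isPGroup_zpowers_of_pow {y : X} {k : ℕ} (h : y ^ 2 ^ k = 1) : IsPGroup 2 (zpowers y) := by
  refine IsPGroup.of_card_dvd_pow (n := k) ?_
  rw [Nat.card_zpowers]
  exact orderOf_dvd_of_pow_eq_one h

theorem exists_odd_pow (g : X) : ∃ k m : ℕ, Odd m ∧ (g ^ m) ^ 2 ^ k = 1 ∧ (g ^ 2 ^ k) ^ m = 1 := by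
  obtain ⟨k, m, hm, hn⟩ := Nat.exists_eq_two_pow_mul_odd (orderOf_pos g).ne'
  refine ⟨k, m, hm, ?_, ?_⟩
  · rw [← pow_mul, mul_comm, ← hn, pow_orderOf_eq_one]
  · rw [← pow_mul, ← hn, pow_orderOf_eq_one]

/-- (b2) -/
theorem Pt.exists_syl (hT : IsSylowIn 2 T ⊤) {φ D : Subgroup X} (h : Pt T φ) (hD : IsPGroup 2 D)
    (hC : D ≤ 𝐂(φ)) : ∃ g : X, φ = g •ᶜ Zt T ∧ D ≤ g •ᶜ T := by
  obtain ⟨g, rfl⟩ := h
  have h2 : IsSylowIn 2 (g •ᶜ T) 𝐂(g •ᶜ Zt T) := (syl_cj hT g).mono (cj_le_cent_Zt T g) le_top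
  obtain ⟨x, hx, hle⟩ := h2.exists_conj_le hD hC
  refine ⟨x⁻¹ * g, ?_, ?_⟩
  · rw [map_conj_mul, cj_eq (cent_le_norm _ (inv_mem hx))]
  · rw [map_conj_mul]; exact conj_le_iff.1 hle

theorem exists_syl_ge (hT : IsSylowIn 2 T ⊤) {D : Subgroup X} (hD : IsPGroup 2 D) :
    ∃ g : X, D ≤ g •ᶜ T := by
  obtain ⟨x, -, hle⟩ := hT.exists_conj_le hD le_top
  exact ⟨x⁻¹, conj_le_iff.1 hle⟩

/-- Every `2`-group centralizes a point. -/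
theorem exists_pt (hT : IsSylowIn 2 T ⊤) {D : Subgroup X} (hD : IsPGroup 2 D) :
    ∃ φ, Pt T φ ∧ D ≤ 𝐂(φ) := by
  obtain ⟨g, hg⟩ := exists_syl_ge hT hD
  exact ⟨_, ⟨g, rfl⟩, hg.trans (cj_le_cent_Zt T g)⟩

theorem BB.le_of_bad {A B : Subgroup X} (h : BB T A) (hB : El B) (hc : B ≤ 𝐂(A))
    (hb : Bad T (A ⊔ B)) : B ≤ A := by
  have h1 := hb.card_le (h.1.sup hB hc)
  rw [← h.2.2] at h1
  exact le_sup_right.trans (eq_of_le_of_card_ge le_sup_left h1).ge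

theorem BB.pts {A : Subgroup X} (h : BB T A) :
    ∃ φ ψ : Subgroup X, Pt T φ ∧ Pt T ψ ∧ sp T φ ≠ sp T ψ ∧ φ ≤ 𝐂(ψ) ∧ A ≤ 𝐂(φ) ∧ A ≤ 𝐂(ψ) ∧
      φ ≤ A ∧ ψ ≤ A := by
  obtain ⟨h1, φ, ψ, h2, h3, h4, h5, h6, h7⟩ := h.2.1
  refine ⟨φ, ψ, h2, h3, h4, h5, h6, h7, ?_, ?_⟩
  · exact h.le_of_bad h2.el (lcc h6) ⟨(h.1.sup h2.el (lcc h6)).isPGroup, φ, ψ, h2, h3, h4, h5,
      sup_le h6 h2.el.le_cent, sup_le h7 h5⟩
  · exact h.le_of_bad h3.el (lcc h7) ⟨(h.1.sup h3.el (lcc h7)).isPGroup, φ, ψ, h2, h3, h4, h5,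
      sup_le h6 (lcc h5), sup_le h7 h3.el.le_cent⟩

theorem BB.le_of_cent (hT : IsSylowIn 2 T ⊤) {A B : Subgroup X} (h : BB T A) (hB : El B)
    (hc : B ≤ 𝐂(A)) : B ≤ A := by
  obtain ⟨φ, ψ, h2, h3, h4, h5, h6, h7, h8, h9⟩ := h.pts
  exact h.le_of_bad hB hc ⟨(h.1.sup hB hc).isPGroup, φ, ψ, h2, h3, h4, h5,
    sup_le h6 (hc.trans (cent_anti h8)), sup_le h7 (hc.trans (cent_anti h9))⟩

/-- (b3) -/
theorem BB.mem_of_cent (hT : IsSylowIn 2 T ⊤) {A : Subgroup X} (h : BB T A) {y : X}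
    (hy : y * y = 1) (hc : y ∈ 𝐂(A)) : y ∈ A :=
  h.le_of_cent hT (el_zpowers hy) (zpowers_le.2 hc) (mem_zpowers y)

theorem BB.ne_bot (hT : IsSylowIn 2 T ⊤) {A : Subgroup X} (h : BB T A) : A ≠ ⊥ := by
  obtain ⟨φ, ψ, h2, h3, h4, h5, h6, h7, h8, h9⟩ := h.pts
  rintro rfl
  exact h2.ne_bot hT (le_bot_iff.1 h8)

theorem Od_le_cent {M D : Subgroup X} (hD : IsPGroup 2 D) (h1 : D ≤ M) (h2 : M ≤ 𝐍(D)) :
    Od M ≤ 𝐂(D) := by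
  intro o ho
  rw [mem_cent]
  intro x hx
  have h3 : x * o * x⁻¹ * o⁻¹ ∈ Od M :=
    mul_mem (norm_mem (le_norm_Od M (h1 hx)) ho) (inv_mem ho)
  have h4 : x * o * x⁻¹ * o⁻¹ ∈ D := by
    have := mul_mem hx (norm_mem (h2 (Od_le M ho)) (inv_mem hx))
    simpa only [mul_assoc] using this
  have h5 := CfsgLib.Invol.eq_one_of_odd_of_mem hD h4 (odd_of_mem_Od h3)
  calc x * o = x * o * x⁻¹ * o⁻¹ * (o * x) := by group
    _ = o * x := by rw [h5, one_mul]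

theorem exists_BB_le_T (hT : IsSylowIn 2 T ⊤) (hb : ∃ D, Bad T D) : ∃ A, BB T A ∧ A ≤ T := by
  obtain ⟨D, hD⟩ := hb
  obtain ⟨A, hA⟩ := hD.exists_BB
  obtain ⟨g, hg⟩ := exists_syl_ge hT hA.1.isPGroup
  exact ⟨_, hA.cj g⁻¹, le_conj_iff.1 hg⟩

theorem CP1.eq_of_WB_le_one (h : CP1 G T a) {ψ : Subgroup X} (hψ : Pt T ψ) (hb : ∃ D, Bad T D)
    (hc : WB T T ≤ 𝐂(ψ)) : sp T ψ = Yt T := by
  have hT := h.syl
  have hJ : IsPGroup 2 (WB T T) := hT.isPGroup.to_le (WB_le T T)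
  obtain ⟨g, rfl, hg⟩ := hψ.exists_syl hT hJ hc
  have h1 : WB T T ≤ g •ᶜ WB T T := by
    rw [← WB_cj]
    calc WB T T = WB T (WB T T) := (WB_idem T T).symm
      _ ≤ _ := WB_mono hg
  have h2 : g ∈ 𝐍(WB T T) :=
    mem_norm_of_cj (eq_of_le_of_card_ge h1 (by rw [CfsgLib.card_map_conj])).symm
  obtain ⟨A, hA, hAT⟩ := exists_BB_le_T hT hb
  have hAJ := hA.le_WB hAT
  have hne : WB T T ≠ ⊥ := fun e => hA.ne_bot hT (le_bot_iff.1 (e ▸ hAJ))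
  rw [sp_cj_Zt, cj_eq (h.loc _ (WB_le T T) hne
    (le_normalizer.trans (norm_le_norm_WB T T)) (norm_le_norm_WB T T h.anorm) h2)]

/-- (b4) -/
theorem CP1.eq_of_WB_le (h : CP1 G T a) {ψ : Subgroup X} (hψ : Pt T ψ) (hb : ∃ D, Bad T D)
    (g : X) (hc : WB T (g •ᶜ T) ≤ 𝐂(ψ)) : sp T ψ = sp T (g •ᶜ Zt T) := by
  have h1 := cj_cent hc g⁻¹
  rw [WB_cj, map_conj_inv_map_conj] at h1
  rw [sp_cj_Zt, ← h.eq_of_WB_le_one (hψ.cj g⁻¹) hb h1, hψ.sp_cj, map_conj_map_conj_inv]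

/-- (b5) -/
theorem exists_BB_norm {P Y : Subgroup X} (hP : IsPGroup 2 P) (hY : WB T Y = Y) (hYP : Y ≤ P)
    (hn : ¬ WB T P ≤ Y) : ∃ A, BB T A ∧ A ≤ P ∧ A ≤ 𝐍(Y) ∧ ¬ A ≤ Y := by
  by_contra hc
  push Not at hc
  have h1 : WB T (P ⊓ 𝐍(Y)) = Y := by
    refine le_antisymm (WB_le_of fun A hA hle => hc A hA (hle.trans inf_le_left)
      (hle.trans inf_le_right)) ?_
    calc Y = WB T Y := hY.symm
      _ ≤ _ := WB_mono (le_inf hYP le_normalizer)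
  by_cases h2 : P ⊓ 𝐍(Y) < P
  · have h3 := lt_inf_normalizer_of_isPGroup hP h2
    refine h3.not_ge (le_inf inf_le_left (inf_le_right.trans ?_))
    have := norm_le_norm_WB T (P ⊓ 𝐍(Y))
    rwa [h1] at this
  · have h3 : P ⊓ 𝐍(Y) = P := (inf_le_left.eq_or_lt).resolve_right h2
    rw [h3] at h1
    exact hn h1.le

theorem MaxW.cj {X0 : Subgroup X} (h : MaxW T X0) (g : X) : MaxW T (g •ᶜ X0) :=
  ⟨by rw [WB_cj, h.wb], h.bad.cj g, fun D hD => by rw [CfsgLib.card_map_conj]; exact h.max D hD⟩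

theorem EE.cj {X0 E : Subgroup X} (h : EE T X0 E) (g : X) : EE T (g •ᶜ X0) (g •ᶜ E) :=
  ⟨h.el.cj g, by rw [CfsgLib.card_map_conj]; exact h.card, cj_norm h.norm g,
    fun e => h.nle (U4.conj_le_conj_iff.1 e)⟩

theorem EE.cj' {X0 E : Subgroup X} (h : EE T X0 E) {g : X} (hg : g ∈ 𝐍(X0)) :
    EE T X0 (g •ᶜ E) := by
  have := h.cj g
  rwa [cj_eq hg] at this

theorem MaxW.exists_BB (hT : IsSylowIn 2 T ⊤) {X0 : Subgroup X} (h : MaxW T X0) :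
    ∃ A, BB T A ∧ A ≤ X0 := by
  refine exists_BB_le_of_ne_bot fun e => ?_
  obtain ⟨A, hA⟩ := h.bad.exists_BB
  have h1 := h.max A hA.2.1
  rw [← h.wb, e, card_bot] at h1
  have h2 : WB T A = ⊥ := eq_bot_of_card_le _ h1
  exact hA.ne_bot hT (le_bot_iff.1 (h2 ▸ hA.le_WB le_rfl))

/-- Elementary abelian groups centralizing `X0` lie in `X0`, indeed in `Om X0`. -/
theorem MaxW.le_Om (hT : IsSylowIn 2 T ⊤) {X0 B : Subgroup X} (h : MaxW T X0) (hB : El B)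
    (hc : B ≤ 𝐂(X0)) : B ≤ Om X0 := by
  obtain ⟨A, hA, hle⟩ := h.exists_BB hT
  exact fun x hx => ⟨hle (hA.le_of_cent hT hB (hc.trans (cent_anti hle)) hx), hc hx, hB x hx⟩

theorem MaxW.pt_le_Om (hT : IsSylowIn 2 T ⊤) {X0 φ : Subgroup X} (h : MaxW T X0) (hφ : Pt T φ)
    (hc : X0 ≤ 𝐂(φ)) : φ ≤ Om X0 := h.le_Om hT hφ.el (lcc hc)

theorem MaxW.isPGroup_sup {X0 E : Subgroup X} (h : MaxW T X0) (hE : EE T X0 E) :
    IsPGroup 2 (X0 ⊔ E : Subgroup X) :=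
  h.bad.1.to_sup_of_normal_left' hE.el.isPGroup hE.norm

theorem MaxW.exists_pt (hT : IsSylowIn 2 T ⊤) {X0 E : Subgroup X} (h : MaxW T X0)
    (hE : EE T X0 E) : ∃ φ, Pt T φ ∧ X0 ≤ 𝐂(φ) ∧ E ≤ 𝐂(φ) := by
  obtain ⟨φ, h1, h2⟩ := CP.exists_pt hT (h.isPGroup_sup hE)
  exact ⟨φ, h1, le_sup_left.trans h2, le_sup_right.trans h2⟩

/-- (uniq) -/
theorem MaxW.uniq (hT : IsSylowIn 2 T ⊤) {X0 E φ ψ : Subgroup X} (h : MaxW T X0)
    (hE : EE T X0 E) (hφ : Pt T φ) (hψ : Pt T ψ) (h1 : X0 ≤ 𝐂(φ)) (h2 : E ≤ 𝐂(φ))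
    (h3 : X0 ≤ 𝐂(ψ)) (h4 : E ≤ 𝐂(ψ)) : sp T φ = sp T ψ := by
  by_contra hne
  have h5 : φ ≤ 𝐂(ψ) := ((h.pt_le_Om hT hφ h1).trans (Om_le X0)).trans h3
  have hb : Bad T (X0 ⊔ E) := ⟨h.isPGroup_sup hE, φ, ψ, hφ, hψ, hne, h5, sup_le h1 h2, sup_le h3 h4⟩
  have hE' : BB T E := BB.of_le hE.el (hb.mono le_sup_right) hE.card
  have h6 : X0 ≤ WB T (X0 ⊔ E) := by
    calc X0 = WB T X0 := h.wb.symm
      _ ≤ _ := WB_mono le_sup_left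
  have h7 := eq_of_le_of_card_ge h6 (h.max _ hb)
  exact hE.nle (h7 ▸ hE'.le_WB le_sup_right)

/-- (uniq*) -/
theorem MaxW.uniq' (hT : IsSylowIn 2 T ⊤) {X0 E φ ψ : Subgroup X} (h : MaxW T X0)
    (hE : EE T X0 E) (hφ : Pt T φ) (hψ : Pt T ψ) (h1 : X0 ≤ 𝐂(φ)) (h2 : E ≤ 𝐂(φ))
    (h3 : X0 ≤ 𝐍(sp T ψ)) (h4 : E ≤ 𝐍(sp T ψ)) : sp T φ = sp T ψ := by
  obtain ⟨χ, k1, k2, k3⟩ := hψ.exists_cent hT (h.isPGroup_sup hE) (sup_le h3 h4)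
  rw [← k2]
  exact h.uniq hT hE hφ k1 h1 h2 (le_sup_left.trans k3) (le_sup_right.trans k3)

end CfsgLib.CP
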