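import Cfsg.Agent.Lib.CP.B1ax

/-!
# The failure-of-factorization configuration with superpoints: the four-group
-/

set_option autoImplicit false

namespace CfsgLib.CP.B1a

open Subgroup Cfsg CfsgLib.FT CfsgLib.FT.BGN CfsgLib.GW CfsgLib.Wal
open CfsgLib.FT.U4 (mem_cent1 mem_cent1' mem_cent mem_cent1_comm cent1_conj conj_mem_conj_iff
  orderOf_conj)
open CfsgLib.CO.B1a (norm_iff cj_one norm_conj_mem cent_le_norm' conj_of_cent conj_notin card_cj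
  card_sup_inf)
open scoped commutatorElement

variable {X : Type*} [Group X] [Finite X]

namespace AB

variable {Z M X0 L E U : Subgroup X} (h : AB Z M X0 L E U)
include h

/-- The case `|C_U(E) : C_U(L)| > 2` is excluded by an operator `β` on `Y ≥ Z` commuting with
`L ⊓ M` and moving every `L ⊓ M`-class. -/
theorem exists_fixed {Y : Subgroup X} (hY : El Y) (hZY : Z ≤ Y) (hMY : L ⊓ M ≤ 𝐍(Y)) (β : X → X)
    (bY : ∀ y ∈ Y, β y ∈ Y) (bZ : ∀ z ∈ Z, β z ∈ Z)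
    (bmul : ∀ y ∈ Y, ∀ y' ∈ Y, β (y * y') = β y * β y')
    (binj : ∀ y ∈ Y, ∀ y' ∈ Y, β y = β y' → y = y')
    (bcomm : ∀ k ∈ L ⊓ M, ∀ y ∈ Y, β (k * y * k⁻¹) = k * β y * k⁻¹)
    (bfix : ∀ k ∈ L ⊓ M, ∀ y ∈ Y, β y = k * y * k⁻¹ → y = 1)
    (hZ : ∃ z ∈ Z, z ∉ 𝐂(L)) :
    ∃ z ∈ Z, z ∉ 𝐂(L) ∧ ∀ g ∈ L, g ∈ M → g * z * g⁻¹ = z := by
  by_contra hc
  push Not at hc
  have hfix : ∀ z ∈ Z, z ∈ 𝐂((L ⊓ M : Subgroup X)) → z ∈ 𝐂(L) := by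
    intro z hz hg
    by_contra hzL
    obtain ⟨g, hgL, hgN, hne⟩ := hc z hz hzL
    exact hne (conj_of_cent (Y := L ⊓ M) ⟨hgL, hgN⟩ hg)
  have hle : 𝐂(L) ≤ 𝐂((L ⊓ M : Subgroup X)) := centralizer_le inf_le_left
  have h0 : ∀ y ∈ Y ⊓ 𝐂((L ⊓ M : Subgroup X)), β y ∈ Y ⊓ 𝐂((L ⊓ M : Subgroup X)) := by
    intro y hy
    refine ⟨bY y hy.1, mem_cent.2 fun g hg => ?_⟩
    have := bcomm g hg y hy.1
    rw [conj_of_cent hg hy.2, eq_mul_inv_iff_mul_eq] at this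
    exact this.symm
  obtain ⟨z, hz, hzL⟩ := hZ
  have haz := bZ z hz
  have hazL : β z ∉ 𝐂(L) := fun h1 => hzL (hfix z hz (mem_cent.2 fun g hg => by
    have h2 := bcomm g hg z (hZY hz)
    rw [conj_of_cent hg (hle h1)] at h2
    have := binj _ (norm_conj_mem (hMY hg) (hZY hz)) _ (hZY hz) h2
    exact mul_inv_eq_iff_eq_mul.1 this))
  obtain ⟨k, hk, hkN, v, hv, hv'⟩ := h.trans2 hz hzL
    ⟨h.Z_le haz, le_centralizer_iff.1 h.EZ haz⟩ hazL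
  have hk' : k ∈ L ⊓ M := ⟨hk, hkN⟩
  have hvZ : v ∈ Y := by
    have : v = (k * z * k⁻¹)⁻¹ * β z := by rw [hv']; group
    rw [this]; exact mul_mem (inv_mem (norm_conj_mem (hMY hk') (hZY hz))) (hZY haz)
  let φ : (Y ⊓ 𝐂((L ⊓ M : Subgroup X)) : Subgroup X) →
      (Y ⊓ 𝐂((L ⊓ M : Subgroup X)) : Subgroup X) :=
    fun y => ⟨y * β y, mul_mem y.2 (h0 y y.2)⟩
  have hinj : Function.Injective φ := by
    rintro ⟨y, hy⟩ ⟨y', hy'⟩ hyy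
    have e1 : y * β y = y' * β y' := congrArg Subtype.val hyy
    have e2 : β (y' * y) = 1 * (y' * y) * 1⁻¹ := by
      have a1 := hY y hy.1
      have a2 := hY _ (bY y' hy'.1)
      have a3 := hY y' hy'.1
      have a4 := hY.comm hy.1 hy'.1
      have a5 := hY.comm (bY y' hy'.1) (mul_mem hy.1 hy'.1)
      rw [bmul _ hy'.1 _ hy.1, one_mul, inv_one, mul_one]
      calc β y' * β y = β y' * (y * y) * β y := by rw [a1, mul_one]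
        _ = β y' * y * (y * β y) := by group
        _ = β y' * (y * y') * β y' := by rw [e1]; group
        _ = y' * y := by rw [a5, mul_assoc, a2, mul_one, a4]
    have e4 := bfix 1 (one_mem _) _ (mul_mem hy'.1 hy.1) e2
    refine Subtype.ext ?_
    show y = y'
    rw [eq_inv_of_mul_eq_one_right e4, hY.inv hy'.1]
  obtain ⟨⟨y, hy⟩, hyv⟩ := Finite.surjective_of_injective hinj ⟨v, hvZ, hle hv.2⟩
  have e1 : y * β y = v := congrArg Subtype.val hyv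
  have e5 : z * y = 1 := by
    refine bfix k hk' _ (mul_mem (hZY hz) hy.1) ?_
    have e2 := hY _ (h0 y hy).1
    have e3 := conj_of_cent hk' hy.2
    calc β (z * y) = β z * β y := bmul _ (hZY hz) _ hy.1
      _ = k * z * k⁻¹ * y * (β y * β y) := by rw [hv', ← e1]; group
      _ = k * z * k⁻¹ * (k * y * k⁻¹) := by rw [e2, e3, mul_one]
      _ = _ := by group
  refine hzL (hfix z hz ?_)
  rw [eq_inv_of_mul_eq_one_left e5]; exact inv_mem hy.2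

/-- If some `z0 ∈ Z` outside `C(L)` is fixed by `L ⊓ M`, then `C_U(E) = ⟨z0⟩ C_U(L)`. -/
theorem two_of_fixed {z0 : X} (hz : z0 ∈ Z) (hzL : z0 ∉ 𝐂(L))
    (hfix : ∀ g ∈ L, g ∈ M → g * z0 * g⁻¹ = z0) :
    ∀ x ∈ U ⊓ 𝐂(E), x ∉ 𝐂(L) → z0 * x ∈ 𝐂(L) := by
  intro x hx hxL
  obtain ⟨g, hg, hgN, v, hv, h1⟩ := h.trans2 hz hzL hx hxL
  rw [h1, hfix g hg hgN, ← mul_assoc, h.el z0 (h.Z_le hz), one_mul]
  exact hv.2

/-- The case `|C_U(E) : C_U(L)| = 2`: the four-group `⟨u, u ^ l⟩ = [U, L]`. -/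
theorem four {z0 l : X} (hz : z0 ∈ Z) (hzL : z0 ∉ 𝐂(L))
    (hA : ∀ x ∈ U ⊓ 𝐂(E), x ∉ 𝐂(L) → z0 * x ∈ 𝐂(L)) (hl : l ∈ L) (hn : l ∉ M) :
    ∃ u ∈ U ⊓ 𝐂(E), u ∉ 𝐂(L) ∧ z0 * u ∈ 𝐂(L) ∧ l * u * l⁻¹ ∉ 𝐂(E) ∧ Four u (l * u * l⁻¹) ∧
      V u (l * u * l⁻¹) ≤ U ∧ L ≤ 𝐍(V u (l * u * l⁻¹)) ∧
      (∀ v ∈ U, ∀ e ∈ E, e * v * e⁻¹ = v ∨ e * v * e⁻¹ = v * u) ∧
      ∀ e ∈ E, ∀ e' ∈ E, e ∉ 𝐂(U) → e' ∉ 𝐂(U) → e * e' ∈ 𝐂(U) := by
  have hV := h.el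
  have hzV : z0 ∈ U := h.Z_le hz
  have hz1 := h.cj_mem' hl ⟨hzV, le_centralizer_iff.1 h.EZ hz⟩
  have hz1V := hz1.1
  have hz1L := conj_notin hl hzL
  have hz1E : l * z0 * l⁻¹ ∉ 𝐂(E) := fun h1 => hz1L (h.meet hl hn hz1V h1 hz1.2)
  have hnot : ∀ e ∈ E, e ∉ 𝐂(U) → ⁅l * z0 * l⁻¹, e⁆ ∉ 𝐂(L) := fun e he heV h1 =>
    hz1E (h.cent_of_comm he heV hz1V h1)
  obtain ⟨e, he, heV⟩ : ∃ e ∈ E, e ∉ 𝐂(U) := by
    by_contra h1
    push Not at h1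
    exact hz1E (le_centralizer_iff.1 h1 hz1V)
  obtain ⟨u, hu⟩ : ∃ u, u = ⁅l * z0 * l⁻¹, e⁆ := ⟨_, rfl⟩
  have huA : u ∈ U ⊓ 𝐂(E) := hu ▸ h.comm_mem hz1V he
  have huL : u ∉ 𝐂(L) := hu ▸ hnot e he heV
  have hmul : ∀ e ∈ E, ∀ e' ∈ E, e ∉ 𝐂(U) → e' ∉ 𝐂(U) → e * e' ∈ 𝐂(U) := by
    intro e he e' he' h1 h2
    have hc := h.comm_mem hz1V he
    have h3 := mul_mem (inv_mem (hA _ hc (hnot e he h1)))
      (hA _ (h.comm_mem hz1V he') (hnot e' he' h2))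
    have h5 : (z0 * ⁅l * z0 * l⁻¹, e⁆)⁻¹ * (z0 * ⁅l * z0 * l⁻¹, e'⁆) = ⁅l * z0 * l⁻¹, e * e'⁆ := by
      rw [h.comm_mul hz1V he he', mul_inv_rev, hV.inv hc.1]; group
    rw [h5] at h3
    by_contra h6
    exact hnot _ (mul_mem he he') h6 h3
  have h1 : ∀ e' ∈ E, ⁅l * z0 * l⁻¹, e'⁆ = 1 ∨ ⁅l * z0 * l⁻¹, e'⁆ = u := by
    intro e' he'
    by_cases h2 : e' ∈ 𝐂(U)
    · exact Or.inl (commutatorElement_eq_one_iff_mul_comm.2 (mem_cent.1 h2 _ hz1V))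
    right
    have h4 := h.comm_mul hz1V he he'
    rw [← hu, commutatorElement_eq_one_iff_mul_comm.2
      (mem_cent.1 (hmul e he e' he' heV h2) _ hz1V)] at h4
    rw [eq_inv_of_mul_eq_one_right h4.symm, hV.inv huA.1]
  have h2 : ∀ v ∈ U, ∀ e' ∈ E, e' * v * e'⁻¹ = v ∨ e' * v * e'⁻¹ = v * u := by
    intro v hv e' he'
    obtain ⟨x, hx, y, hy, rfl⟩ := h.split hl hn hv
    have e1 := conj_of_cent he' hx.2
    have e2 : e' * (x * y) * e'⁻¹ = x * (e' * y * e'⁻¹) := by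
      calc e' * (x * y) * e'⁻¹ = e' * x * e'⁻¹ * (e' * y * e'⁻¹) := by group
        _ = _ := by rw [e1]
    by_cases hyL : y ∈ 𝐂(L)
    · left; rw [e2, conj_of_cent (h.EL he') hyL]
    have e3 := hA _ (h.cj_back hl hy) (conj_notin (inv_mem hl) hyL)
    obtain ⟨v0, hv0⟩ : ∃ v0, v0 = z0 * (l⁻¹ * y * l⁻¹⁻¹) := ⟨_, rfl⟩
    rw [← hv0] at e3
    have e4 : y = v0 * (l * z0 * l⁻¹) := by
      have e5 := conj_of_cent hl e3
      have e6 : l * z0 * l⁻¹ * y = y * (l * z0 * l⁻¹) := hV.comm hz1V hy.1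
      have e7 := hV _ hz1V
      calc y = y * (l * z0 * l⁻¹) * (l * z0 * l⁻¹) := by rw [mul_assoc, e7, mul_one]
        _ = l * v0 * l⁻¹ * (l * z0 * l⁻¹) := by rw [← e6, hv0]; group
        _ = _ := by rw [e5]
    have e8 : e' * y * e'⁻¹ = y * ⁅l * z0 * l⁻¹, e'⁆ := by
      calc e' * y * e'⁻¹ = e' * v0 * e'⁻¹ * (e' * (l * z0 * l⁻¹) * e'⁻¹) := by rw [e4]; group
        _ = _ := by rw [conj_of_cent (h.EL he') e3, h.conj_eq hz1V, ← mul_assoc, ← e4]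
    rw [e2, e8]
    rcases h1 e' he' with h3 | h3
    · left; rw [h3, mul_one]
    · right; rw [h3, mul_assoc]
  have hu' := h.cj_mem' hl huA
  have hu'L := conj_notin hl huL
  have hu'E : l * u * l⁻¹ ∉ 𝐂(E) := fun h3 => hu'L (h.meet hl hn hu'.1 h3 hu'.2)
  have hne : u ≠ l * u * l⁻¹ := fun h3 => hu'E (h3 ▸ huA.2)
  have hWV : V u (l * u * l⁻¹) ≤ U := V_le huA.1 hu'.1
  refine ⟨u, huA, huL, hA u huA huL, hu'E,
    hV.four huA.1 hu'.1 (fun h3 => huL (h3 ▸ one_mem _)) (fun h3 => hu'L (h3 ▸ one_mem _)) hne,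
    hWV, ?_, h2, hmul⟩
  refine (h.gen hl hn).ge.trans
    (sup_le (sup_le ((h.XU.trans (centralizer_le hWV)).trans (cent_le_norm' _)) ?_) ?_)
  · intro e' he'
    refine mem_normalizer_fintype fun w hw => ?_
    rcases h2 w (hWV hw) e' he' with h3 | h3 <;> rw [h3]
    · exact hw
    · exact mul_mem hw (t_mem_V _ _)
  · rintro _ ⟨e', he', rfl⟩
    refine mem_normalizer_fintype fun w hw => ?_
    have e1 : (MulAut.conj l).toMonoidHom e' * w * ((MulAut.conj l).toMonoidHom e')⁻¹ =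
        l * (e' * (l⁻¹ * w * l⁻¹⁻¹) * e'⁻¹) * l⁻¹ := by
      simp only [MulEquiv.coe_toMonoidHom, MulAut.conj_apply]; group
    rw [e1]
    rcases h2 _ (h.U_conj (inv_mem hl) (hWV hw)) e' he' with h3 | h3 <;> rw [h3]
    · have : l * (l⁻¹ * w * l⁻¹⁻¹) * l⁻¹ = w := by group
      rw [this]; exact hw
    · have : l * (l⁻¹ * w * l⁻¹⁻¹ * u) * l⁻¹ = w * (l * u * l⁻¹) := by group
      rw [this]; exact mul_mem hw (s_mem_V _ _)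

end AB

end CfsgLib.CP.B1a
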