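import Cfsg.Agent.Lib.CP.B0
import Cfsg.Agent.Lib.CP.B1ay
import Cfsg.Agent.Lib.CO.VB

set_option autoImplicit false

namespace CfsgLib.CP

open Subgroup Cfsg CfsgLib.FT CfsgLib.FT.BGN CfsgLib.GW CfsgLib.Wal
open CfsgLib.FT.U4 (mem_cent1 mem_cent1' mem_cent mem_cent1_comm cent1_conj conj_mem_conj_iff
  orderOf_conj)
open CfsgLib.CO.B1a (norm_iff cj_one conj_of_cent card_sup_inf)
open scoped commutatorElement

variable {X : Type*} [Group X] [Finite X] {G T : Subgroup X} [PD T] {a : X}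

namespace FFc

variable {X0 L E : Subgroup X} (hT : IsSylowIn 2 T ⊤) (hf : FFc T X0 L E)
include hf

theorem b1a_XC {l : X} (hl : l ∈ L) : X0 ≤ 𝐂(l •ᶜ Zt T) := by
  have := cj_cent hf.XZ l
  rwa [cj_eq (hf.LN hl)] at this

include hT

theorem b1a_V_le_Om : VL T L ≤ Om X0 :=
  iSup₂_le fun _ hl => hf.mx.pt_le_Om hT ((pt_Zt T).cj _) (hf.b1a_XC hl)

omit hT in
theorem b1a_bad {D : Subgroup X} (hD : IsPGroup 2 D) (hel : El (VL T L)) (hc : D ≤ 𝐂(VL T L)) :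
    Bad T D := by
  obtain ⟨l, hl, hn⟩ := SetLike.not_le_iff_exists.1 hf.nN
  have h1 : ∀ m ∈ L, m •ᶜ Zt T ≤ VL T L := fun m hm =>
    le_iSup₂_of_le (f := fun l (_ : l ∈ L) => l •ᶜ Zt T) m hm le_rfl
  have h2 : Zt T ≤ VL T L := by have := h1 1 (one_mem L); rwa [cj_one] at this
  exact ⟨hD, Zt T, l •ᶜ Zt T, pt_Zt T, (pt_Zt T).cj l, sp_cj_Zt_ne hn, hel.le_cent' h2 (h1 l hl),
    hc.trans (cent_anti h2), hc.trans (cent_anti (h1 l hl))⟩

theorem b1a_ab : B1a.AB (Zt T) 𝐍(Yt T) X0 L E (VL T L) := by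
  have hel : El (VL T L) := (Om_el X0).mono (hf.b1a_V_le_Om hT)
  refine
    { eq := rfl
      el := hel
      XU := lcc ((hf.b1a_V_le_Om hT).trans (Om_le_cent X0))
      XL := hf.XL
      EL := hf.EL
      elE := hf.ee.el
      nM := hf.nN
      min := fun L' l hl h1 h2 h3 h4 => hf.min L' (l •ᶜ E) (l •ᶜ Zt T) h1 (hf.ee.cj' (hf.LN hl)) h2 h3
        ((pt_Zt T).cj l) (hf.b1a_XC hl) (cj_cent hf.EZ l) (by rwa [sp_cj_Zt, norm_conj])
      uniq := fun l hl m hm h1 => ?_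
      quad := hf.quad
      card := ?_
      syl := ⟨T ⊓ L, hf.sy, le_inf hf.XT hf.XL, le_inf hf.ET hf.EL,
        inf_le_left.trans (le_cent_Zt T)⟩ }
  · have h2 := hf.mx.uniq' hT (hf.ee.cj' (hf.LN hl)) ((pt_Zt T).cj l) ((pt_Zt T).cj m)
      (hf.b1a_XC hl) (cj_cent hf.EZ l) ((hf.b1a_XC hm).trans ((pt_Zt T).cj m).cent_le)
      (by rwa [sp_cj_Zt, norm_conj])
    rw [sp_cj_Zt, sp_cj_Zt] at h2
    refine norm_iff.2 ?_
    rw [← cj_cj, h2, conj_inv_conj]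
  · have h1 : El ((E ⊓ 𝐂(VL T L)) ⊔ VL T L) :=
      (hf.ee.el.mono inf_le_left).sup hel (lcc inf_le_right)
    exact ((hf.b1a_bad h1.isPGroup hel (h1.le_cent' le_rfl le_sup_right)).card_le h1).trans
      hf.ee.card

end FFc

omit [PD T] in
theorem b1a_pow_conj {Y : Subgroup X} {b k : X} (hb : b ∈ 𝐍(Y))
    (hc : ∀ y ∈ Y, b * (k * y * k⁻¹) * b⁻¹ = k * (b * y * b⁻¹) * k⁻¹) {y : X} (hy : y ∈ Y)
    (h : b * y * b⁻¹ = k * y * k⁻¹) (n : ℕ) :
    b ^ n * y * (b ^ n)⁻¹ = k ^ n * y * (k ^ n)⁻¹ := by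
  have hc' : ∀ n : ℕ, ∀ y ∈ Y, b ^ n * (k * y * k⁻¹) * (b ^ n)⁻¹ =
      k * (b ^ n * y * (b ^ n)⁻¹) * k⁻¹ := by
    intro n
    induction n with
    | zero => intro y _; simp
    | succ n ih =>
      intro y hy
      calc b ^ (n + 1) * (k * y * k⁻¹) * (b ^ (n + 1))⁻¹
          = b ^ n * (b * (k * y * k⁻¹) * b⁻¹) * (b ^ n)⁻¹ := by rw [pow_succ]; group
        _ = k * (b ^ n * (b * y * b⁻¹) * (b ^ n)⁻¹) * k⁻¹ := by
          rw [hc y hy, ih _ (norm_mem hb hy)]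
        _ = _ := by rw [pow_succ]; group
  induction n with
  | zero => simp
  | succ n ih =>
    calc b ^ (n + 1) * y * (b ^ (n + 1))⁻¹ = b ^ n * (b * y * b⁻¹) * (b ^ n)⁻¹ := by
          rw [pow_succ]; group
      _ = k * (k ^ n * y * (k ^ n)⁻¹) * k⁻¹ := by rw [h, hc' n y hy, ih]
      _ = _ := by rw [pow_succ']; group

/-- `β` moves every `G ⊓ 𝐍(Y)`-class of `Y`. -/
theorem CP1.β_fix (h : CP1 G T a) {k y : X} (hk : k ∈ G) (hkN : k ∈ 𝐍(Yt T)) (hy : y ∈ Yt T)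
    (he : PD.β T * y * (PD.β T)⁻¹ = k * y * k⁻¹) : y = 1 := by
  have h1 := b1a_pow_conj (β_norm T) (PD.comm k hkN) hy he (Nat.card G)
  have h2 : k ^ Nat.card G = 1 := congrArg Subtype.val (pow_card_eq_one' (x := (⟨k, hk⟩ : G)))
  rw [h2, one_mul, inv_one, mul_one, mul_inv_eq_iff_eq_mul] at h1
  have h3 : PD.β T ^ Nat.card G ∈ 𝐂[y] := mem_cent1.2 h1
  have h4 : PD.β T ^ PD.p T ∈ 𝐂[y] := U4.cent_le_cent1 hy PD.pw
  have h5 : (PD.p T).Coprime (Nat.card G) := (Nat.Prime.coprime_iff_not_dvd PD.prime).2 h.cop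
  have h6 : PD.β T ∈ 𝐂[y] := by
    have e := Nat.gcd_eq_gcd_ab (PD.p T) (Nat.card G)
    rw [h5] at e
    have := mul_mem (zpow_mem h4 (Nat.gcdA (PD.p T) (Nat.card G)))
      (zpow_mem h3 (Nat.gcdB (PD.p T) (Nat.card G)))
    rwa [← zpow_natCast, ← zpow_natCast, ← zpow_mul, ← zpow_mul, ← zpow_add, ← e, Nat.cast_one,
      zpow_one] at this
  exact PD.fpf y hy (by rw [mem_cent1.1 h6, mul_inv_cancel_right])

theorem CP1.seed (h : CP1 G T a) {X0 L E : Subgroup X} (hf : FFc T X0 L E) :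
    ∃ (W P A : Subgroup X) (u z0 d : X), Seed T W P A u z0 d := by
  have hT := h.syl
  have ab := hf.b1a_ab hT
  obtain ⟨l, hl, hn⟩ := SetLike.not_le_iff_exists.1 hf.nN
  have hLG : L ≤ G := (ab.gen hl hn).ge.trans (sup_le (sup_le (h.two_le _ hf.mx.bad.1)
    (h.two_le _ hf.ee.el.isPGroup)) (h.two_le _ (hf.ee.el.cj l).isPGroup))
  obtain ⟨z0, hz, hzL, hfix⟩ := ab.exists_fixed (Yt_el T) (Zt_le_Yt T) inf_le_right
    (fun y => PD.β T * y * (PD.β T)⁻¹) (fun y hy => norm_mem (β_norm T) hy)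
    (fun z hz => norm_mem (norm_le_norm_Zt T PD.βT) hz) (fun y _ y' _ => by group)
    (fun y _ y' _ h1 => mul_left_cancel (mul_right_cancel h1))
    (fun k hk y hy => PD.comm k hk.2 y hy)
    (fun k hk y hy h1 => h.β_fix (hLG hk.1) hk.2 hy h1) (by
      by_contra h1
      push Not at h1
      exact hf.nN ((lcc h1).trans ((cent_le_norm _).trans (norm_Zt_le T))))
  obtain ⟨u, huA, huL, hzu, hu'E, h4, hWV, hN, -, hmul⟩ :=
    ab.four hz hzL (ab.two_of_fixed hz hzL hfix) hl hn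
  have hXW : X0 ≤ 𝐂(V u (l * u * l⁻¹)) := ab.XU.trans (cent_anti hWV)
  have hVX : VL T L ≤ X0 := (hf.b1a_V_le_Om hT).trans (Om_le X0)
  have hEV : ¬ E ≤ 𝐂(VL T L) := fun h1 => hu'E (lcc h1 (hWV (s_mem_V _ _)))
  have hE0 : E ⊓ 𝐂(VL T L) ≤ X0 := by
    have h1 : El ((E ⊓ 𝐂(VL T L)) ⊔ VL T L) :=
      (hf.ee.el.mono inf_le_left).sup ab.el (lcc inf_le_right)
    have hb : Bad T (X0 ⊔ (E ⊓ 𝐂(VL T L))) :=
      hf.b1a_bad ((hf.mx.isPGroup_sup hf.ee).to_le (sup_le_sup_left inf_le_left _)) ab.el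
        (sup_le ab.XU inf_le_right)
    have hle : (E ⊓ 𝐂(VL T L)) ⊔ VL T L ≤ X0 ⊔ (E ⊓ 𝐂(VL T L)) :=
      sup_le le_sup_right (hVX.trans le_sup_left)
    have hbb : BB T ((E ⊓ 𝐂(VL T L)) ⊔ VL T L) := by
      refine BB.of_le h1 (hb.mono hle) (hf.ee.card.trans ?_)
      have c1 := CO.card_eq_two_mul hf.ee.el hEV fun x hx y hy => hmul x hx y hy
      have c2 := card_sup_inf (A := E ⊓ 𝐂(VL T L)) (B := VL T L)
        ((lcc inf_le_right).trans (cent_le_norm _))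
      have c3 : Nat.card ((E ⊓ 𝐂(VL T L)) ⊓ VL T L : Subgroup X) * 2 ≤ Nat.card (VL T L) := by
        have h2 : (E ⊓ 𝐂(VL T L)) ⊓ VL T L < VL T L := lt_of_le_of_ne inf_le_right fun h3 =>
          hEV (lcc (h3.ge.trans ((inf_le_left.trans inf_le_left).trans hf.ee.el.le_cent)))
        obtain ⟨c, hc⟩ := card_dvd_of_le h2.le
        have h5 : c ≠ 1 := fun h6 => h2.ne (eq_of_le_of_card_ge h2.le (by rw [hc, h6, mul_one]))
        have h6 : c ≠ 0 := fun h6 => (Nat.card_pos (α := VL T L)).ne' (by rw [hc, h6, mul_zero])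
        rw [hc]
        exact Nat.mul_le_mul_left _ (by omega)
      refine Nat.le_of_mul_le_mul_left (c := Nat.card ((E ⊓ 𝐂(VL T L)) ⊓ VL T L : Subgroup X)) ?_
        Nat.card_pos
      rw [← c2, c1, mul_left_comm]
      exact Nat.mul_le_mul_left _ c3
    have h2 : X0 ≤ WB T (X0 ⊔ (E ⊓ 𝐂(VL T L))) := hf.mx.wb.ge.trans (WB_mono le_sup_left)
    have h3 := eq_of_le_of_card_ge h2 (hf.mx.max _ hb)
    exact (le_sup_left.trans (hbb.le_WB hle)).trans h3.ge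
  refine ⟨V u (l * u * l⁻¹), X0 ⊔ E, E, u, z0, l,
    { pP := hf.mx.isPGroup_sup hf.ee
      WP := (hWV.trans hVX).trans le_sup_left
      PN := (sup_le hf.XL hf.EL).trans hN
      elW := ab.el.mono hWV
      cardW := h4.card_V
      uW := t_mem_V _ _
      u1 := h4.t1
      Pu := sup_le (ab.X_cent huA.1) fun x hx => mem_cent1.2 (mem_cent.1 huA.2 x hx)
      AP := le_sup_right
      elA := hf.ee.el
      cardA := hf.ee.card
      AW := fun h3 => hu'E (lcc h3 (s_mem_V _ _))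
      zZ := hz
      Pz := (sup_le hf.XZ hf.EZ).trans (U4.cent_le_cent1 hz)
      dN := hN hl
      du := fun h3 => hu'E (by rw [mem_cent1.1 h3, mul_inv_cancel_right]; exact huA.2)
      dz := mem_cent1.2 (mem_cent.1 hzu l hl)
      max := fun D hD => (hf.mx.max D hD).trans
        (card_le_of_le (hf.mx.wb.ge.trans (WB_mono (le_inf le_sup_left hXW))))
      mx := ⟨X0, hf.mx, le_inf le_sup_left hXW, fun e he => hE0 ⟨he.1, ?_⟩⟩ }⟩
  by_contra h1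
  refine hu'E (ab.cent_of_comm he.1 h1 (hWV (s_mem_V _ _)) ?_)
  rw [commutatorElement_eq_one_iff_mul_comm.2 (mem_cent.1 he.2 _ (s_mem_V _ _))]
  exact one_mem _

end CfsgLib.CP
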