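import Cfsg.Agent.Lib.CO.B1ax

/-!
# The failure-of-factorization configuration with superpoints (interface-free form)
-/

set_option autoImplicit false

namespace CfsgLib.CP.B1a

open Subgroup Cfsg CfsgLib.FT CfsgLib.FT.BGN CfsgLib.GW CfsgLib.Wal
open CfsgLib.FT.U4 (mem_cent1 mem_cent1' mem_cent mem_cent1_comm cent1_conj conj_mem_conj_iff
  orderOf_conj)
open CfsgLib.CO.B1a (norm_iff cj_one norm_conj_mem cent_le_norm' conj_of_cent conj_notin card_cj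
  card_sup_inf)
open scoped commutatorElement

variable {X : Type*} [Group X] [Finite X]

/-- The data used in the analysis of `U = ⟨Z ^ L⟩`. -/
structure AB (Z M X0 L E U : Subgroup X) : Prop where
  eq : U = ⨆ l ∈ L, l •ᶜ Z
  el : El U
  XU : X0 ≤ 𝐂(U)
  XL : X0 ≤ L
  EL : E ≤ L
  elE : El E
  nM : ¬ L ≤ M
  min : ∀ (L' : Subgroup X) (l : X), l ∈ L → L' ≤ L → X0 ≤ L' → l •ᶜ E ≤ L' → ¬ L' ≤ l •ᶜ M →
    L' = L
  uniq : ∀ l ∈ L, ∀ m ∈ L, l •ᶜ E ≤ m •ᶜ M → m⁻¹ * l ∈ M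
  quad : ∀ v ∈ U, ∀ e ∈ E, ∀ e' ∈ E, ⁅⁅v, e⁆, e'⁆ = 1
  card : Nat.card ((E ⊓ 𝐂(U)) ⊔ U : Subgroup X) ≤ Nat.card E
  syl : ∃ S, IsSylowIn 2 S (L ⊓ M) ∧ X0 ≤ S ∧ E ≤ S ∧ S ≤ 𝐂(Z)

omit [Finite X] in
theorem cjm {g x : X} {H : Subgroup X} (hx : x ∈ H) : g * x * g⁻¹ ∈ g •ᶜ H :=
  conj_mem_conj_iff.2 hx

namespace AB

variable {Z M X0 L E U : Subgroup X} (h : AB Z M X0 L E U)
include h

omit [Finite X] in
theorem le_U {l : X} (hl : l ∈ L) : l •ᶜ Z ≤ U := by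
  rw [h.eq]
  exact le_iSup₂_of_le (f := fun l (_ : l ∈ L) => l •ᶜ Z) l hl le_rfl

omit [Finite X] in
theorem Z_le : Z ≤ U := by
  have := h.le_U (one_mem L)
  rwa [cj_one] at this

omit [Finite X] in
theorem U_le {Y : Subgroup X} (hY : ∀ l ∈ L, l •ᶜ Z ≤ Y) : U ≤ Y := by
  rw [h.eq]; exact iSup₂_le hY

omit [Finite X] in
theorem U_conj {l v : X} (hl : l ∈ L) (hv : v ∈ U) : l * v * l⁻¹ ∈ U := by
  have : U ≤ U.comap (MulAut.conj l).toMonoidHom := by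
    refine h.U_le fun m hm => ?_
    rw [← map_le_iff_le_comap, cj_cj]
    exact h.le_U (mul_mem hl hm)
  exact this hv

omit [Finite X] in
theorem EZ : E ≤ 𝐂(Z) := by
  obtain ⟨S, -, -, h1, h2⟩ := h.syl
  exact h1.trans h2

omit [Finite X] in
theorem EM : E ≤ M := by
  obtain ⟨S, h0, -, h1, -⟩ := h.syl
  exact h1.trans (h0.le.trans inf_le_right)

omit [Finite X] in
theorem ECl (l : X) : l •ᶜ E ≤ 𝐂(l •ᶜ Z) := le_cent_cj h.EZ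

omit [Finite X] in
theorem ELl {l : X} (hl : l ∈ L) : l •ᶜ E ≤ L := cj_le_of_norm h.EL (le_normalizer hl)

omit [Finite X] in
theorem X_cent {v : X} (hv : v ∈ U) : X0 ≤ 𝐂[v] := h.XU.trans (U4.cent_le_cent1 hv)

omit [Finite X] in
/-- (s) -/
theorem cent_le {l z : X} (hl : l ∈ L) (hz : z ∈ l •ᶜ Z) (hn : z ∉ 𝐂(L)) :
    L ⊓ 𝐂[z] ≤ l •ᶜ M := by
  by_contra h0
  have := h.min (L ⊓ 𝐂[z]) l hl inf_le_left (le_inf h.XL (h.X_cent (h.le_U hl hz)))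
    (le_inf (h.ELl hl) ((h.ECl l).trans (U4.cent_le_cent1 hz))) h0
  apply hn
  refine mem_cent.2 fun x hx => ?_
  rw [← this] at hx
  exact mem_cent1.1 hx.2

omit [Finite X] in
theorem gen {l : X} (hl : l ∈ L) (hn : l ∉ M) : X0 ⊔ E ⊔ l •ᶜ E = L := by
  refine h.min _ 1 (one_mem L) (sup_le (sup_le h.XL h.EL) (h.ELl hl))
    (le_sup_left.trans le_sup_left) (by rw [cj_one]; exact le_sup_right.trans le_sup_left) ?_
  intro h1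
  simpa [hn] using h.uniq l hl 1 (one_mem L) (le_sup_right.trans h1)

omit [Finite X] in
theorem comm_mem {v e : X} (hv : v ∈ U) (he : e ∈ E) : ⁅v, e⁆ ∈ U ⊓ 𝐂(E) := by
  refine mem_inf.2 ⟨?_, mem_cent.2 fun x hx => ?_⟩
  · have := mul_mem hv (h.U_conj (h.EL he) (inv_mem hv))
    simpa only [commutatorElement_def, mul_assoc] using this
  · exact (commutatorElement_eq_one_iff_mul_comm.1 (h.quad v hv e he x hx)).symm

omit [Finite X] in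
theorem conj_eq {v : X} (hv : v ∈ U) (e : X) : e * v * e⁻¹ = v * ⁅v, e⁆ := by
  have h1 := h.el v hv
  rw [commutatorElement_def, h.el.inv hv, ← mul_assoc, ← mul_assoc, ← mul_assoc, h1, one_mul]

omit [Finite X] in
theorem cj_mem' {l x : X} (hl : l ∈ L) (hx : x ∈ U ⊓ 𝐂(E)) : l * x * l⁻¹ ∈ U ⊓ 𝐂(l •ᶜ E) := by
  refine ⟨h.U_conj hl hx.1, ?_⟩
  rw [cent_conj]; exact cjm hx.2

theorem cj_eq' {l : X} (hl : l ∈ L) : U ⊓ 𝐂(l •ᶜ E) = l •ᶜ (U ⊓ 𝐂(E)) := by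
  rw [cj_inf_cent]
  congr 1
  exact (conj_norm (mem_normalizer_fintype fun _ h1 => h.U_conj hl h1)).symm

theorem cj_back {l y : X} (hl : l ∈ L) (hy : y ∈ U ⊓ 𝐂(l •ᶜ E)) :
    l⁻¹ * y * l⁻¹⁻¹ ∈ U ⊓ 𝐂(E) := by
  rw [h.cj_eq' hl] at hy
  obtain ⟨y, hy, rfl⟩ := hy
  simpa [mul_assoc] using hy

theorem norm_of_le {l : X} (hl : l ∈ L) {Y : Subgroup X} (h1 : U ⊓ 𝐂(l •ᶜ E) ≤ Y)
    (h2 : Y ≤ U) : l •ᶜ E ≤ 𝐍(Y) := by
  rintro _ ⟨e, he, rfl⟩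
  refine mem_normalizer_fintype fun v hv => ?_
  have hv' : l⁻¹ * v * l⁻¹⁻¹ ∈ U := h.U_conj (inv_mem hl) (h2 hv)
  have h3 := h1 (h.cj_mem' hl (h.comm_mem hv' he))
  have h4 := h.conj_eq hv' e
  have : (MulAut.conj l).toMonoidHom e * v * ((MulAut.conj l).toMonoidHom e)⁻¹ =
      v * (l * ⁅l⁻¹ * v * l⁻¹⁻¹, e⁆ * l⁻¹) := by
    simp only [MulEquiv.coe_toMonoidHom, MulAut.conj_apply]
    calc l * e * l⁻¹ * v * (l * e * l⁻¹)⁻¹ = l * (e * (l⁻¹ * v * l⁻¹⁻¹) * e⁻¹) * l⁻¹ := by group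
      _ = _ := by rw [h4]; group
  rw [this]
  exact mul_mem hv h3

theorem sup_eq {l : X} (hl : l ∈ L) (hn : l ∉ M) : (U ⊓ 𝐂(E)) ⊔ (U ⊓ 𝐂(l •ᶜ E)) = U := by
  have hU : (U ⊓ 𝐂(E)) ⊔ (U ⊓ 𝐂(l •ᶜ E)) ≤ U := sup_le inf_le_left inf_le_left
  refine le_antisymm hU (h.U_le fun m hm => ?_)
  have hN : L ≤ 𝐍((U ⊓ 𝐂(E)) ⊔ (U ⊓ 𝐂(l •ᶜ E))) := by
    refine (h.gen hl hn).ge.trans (sup_le (sup_le ?_ ?_) (h.norm_of_le hl le_sup_right hU))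
    · exact (h.XU.trans (centralizer_le hU)).trans (cent_le_norm' _)
    · have := h.norm_of_le (one_mem L) (by rw [cj_one]; exact le_sup_left) hU
      rwa [cj_one] at this
  exact cj_le_of_norm ((le_inf h.Z_le (le_centralizer_iff.1 h.EZ)).trans le_sup_left) (hN hm)

theorem split {l v : X} (hl : l ∈ L) (hn : l ∉ M) (hv : v ∈ U) :
    ∃ x ∈ U ⊓ 𝐂(E), ∃ y ∈ U ⊓ 𝐂(l •ᶜ E), x * y = v := by
  rw [← h.sup_eq hl hn] at hv
  exact mem_sup_norm (inf_le_left.trans (h.el.le_norm inf_le_left)) hv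

omit [Finite X] in
theorem meet {l x : X} (hl : l ∈ L) (hn : l ∉ M) (hx : x ∈ U) (h1 : x ∈ 𝐂(E))
    (h2 : x ∈ 𝐂(l •ᶜ E)) : x ∈ 𝐂(L) := by
  have : L ≤ 𝐂[x] := by
    refine (h.gen hl hn).ge.trans (sup_le (sup_le (h.X_cent hx) ?_) ?_)
    · exact fun y hy => mem_cent1.2 (mem_cent.1 h1 y hy)
    · exact fun y hy => mem_cent1.2 (mem_cent.1 h2 y hy)
  exact mem_cent.2 fun y hy => mem_cent1.1 (this hy)

theorem cardV {l : X} (hl : l ∈ L) (hn : l ∉ M) :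
    Nat.card (U ⊓ 𝐂(E) : Subgroup X) * Nat.card (U ⊓ 𝐂(E) : Subgroup X) =
      Nat.card (U ⊓ 𝐂(L) : Subgroup X) * Nat.card U := by
  have h1 := card_sup_inf (A := U ⊓ 𝐂(E)) (B := U ⊓ 𝐂(l •ᶜ E))
    (inf_le_left.trans (h.el.le_norm inf_le_left))
  have h2 : (U ⊓ 𝐂(E)) ⊓ (U ⊓ 𝐂(l •ᶜ E)) = U ⊓ 𝐂(L) := by
    refine le_antisymm (fun x hx => ⟨hx.1.1, h.meet hl hn hx.1.1 hx.1.2 hx.2.2⟩) ?_
    exact fun x hx => ⟨⟨hx.1, centralizer_le h.EL hx.2⟩, hx.1, centralizer_le (h.ELl hl) hx.2⟩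
  rw [h.sup_eq hl hn, h2, h.cj_eq' hl, card_cj] at h1
  exact h1

theorem cardE : Nat.card (E ⊓ 𝐂(U) : Subgroup X) * Nat.card U ≤
    Nat.card (U ⊓ 𝐂(E) : Subgroup X) * Nat.card E := by
  have hc : U ≤ 𝐂(E ⊓ 𝐂(U)) := le_centralizer_iff.1 inf_le_right
  rw [card_sup_inf (hc.trans (cent_le_norm' _))]
  exact Nat.mul_le_mul (card_le_of_le fun x hx => ⟨hx.2, h.elE.le_cent hx.1.1⟩) h.card

/-- An element of `E` lying in every superpoint centralizes `U` (Frattini). -/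
theorem exists_moved {e : X} (he : e ∈ E) (hn : e ∉ 𝐂(U)) : ∃ l ∈ L, e ∉ l •ᶜ M := by
  by_contra h0
  push Not at h0
  obtain ⟨S, hS, hXS, hES, hSZ⟩ := h.syl
  let J : Subgroup X := L ⊓ ⨅ l ∈ L, l •ᶜ M
  have mJ : ∀ x, x ∈ J ↔ x ∈ L ∧ ∀ l ∈ L, x ∈ l •ᶜ M := fun x => by
    simp only [J, mem_inf, mem_iInf]
  have hJM : J ≤ M := fun x hx => by
    have := ((mJ x).1 hx).2 1 (one_mem L)
    rwa [cj_one] at this
  have hLJ : L ≤ 𝐍(J) := fun g hg => mem_normalizer_fintype fun x hx => by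
    obtain ⟨h1, h2⟩ := (mJ x).1 hx
    refine (mJ _).2 ⟨mul_mem (mul_mem hg h1) (inv_mem hg), fun l hl => ?_⟩
    have := cjm (g := g) (h2 (g⁻¹ * l) (mul_mem (inv_mem hg) hl))
    rwa [cj_cj, mul_inv_cancel_left] at this
  have hSL : S ≤ L := hS.le.trans inf_le_left
  have hSJ : IsSylowIn 2 (S ⊓ J) J :=
    hS.inf_of_le_normalizer (le_inf inf_le_left hJM) (hSL.trans hLJ)
  have hSN : S ≤ 𝐍(S ⊓ J) := fun g hg => mem_normalizer_fintype fun x hx =>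
    mem_inf.2 ⟨norm_conj_mem (le_normalizer hg) (mem_inf.1 hx).1,
      norm_conj_mem (hLJ (hSL hg)) (mem_inf.1 hx).2⟩
  have hL' : L ⊓ 𝐍(S ⊓ J) = L := by
    refine h.min _ 1 (one_mem L) inf_le_left (le_inf h.XL (hXS.trans hSN))
      (by rw [cj_one]; exact le_inf h.EL (hES.trans hSN)) fun h1 => h.nM ?_
    rw [cj_one] at h1
    exact (hSJ.frattini_le inf_le_left hLJ).trans (sup_le hJM h1)
  have heJ : e ∈ S ⊓ J := ⟨hES he, (mJ e).2 ⟨h.EL he, h0⟩⟩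
  apply hn
  have : U ≤ 𝐂[e] := h.U_le fun l hl => by
    rintro _ ⟨z, hz, rfl⟩
    have h1 : l⁻¹ * e * l⁻¹⁻¹ ∈ S := (norm_conj_mem (hL'.ge (inv_mem hl)).2 heJ).1
    have h2 := mem_cent.1 (hSZ h1) z hz
    refine mem_cent1.2 ?_
    simp only [MulEquiv.coe_toMonoidHom, MulAut.conj_apply]
    calc l * z * l⁻¹ * e = l * (z * (l⁻¹ * e * l⁻¹⁻¹)) * l⁻¹ := by group
      _ = _ := by rw [h2]; group
  exact mem_cent.2 fun x hx => mem_cent1.1 (this hx)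

theorem cent_of_comm {e v : X} (he : e ∈ E) (hn : e ∉ 𝐂(U)) (hv : v ∈ U)
    (hc : ⁅v, e⁆ ∈ 𝐂(L)) : v ∈ 𝐂(E) := by
  obtain ⟨l, hl, hle⟩ := h.exists_moved he hn
  have hlN : l ∉ M := fun h1 => hle (by rw [cj_eq_of_mem h1]; exact h.EM he)
  have hgen : X0 ⊔ l •ᶜ E ⊔ zpowers e = L :=
    h.min _ l hl (sup_le (sup_le h.XL (h.ELl hl)) ((zpowers_le).2 (h.EL he)))
      (le_sup_left.trans le_sup_left) (le_sup_right.trans le_sup_left)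
      fun h1 => hle (h1 (mem_sup_right (mem_zpowers e)))
  obtain ⟨x, hx, y, hy, rfl⟩ := h.split hl hlN hv
  let N : Subgroup X :=
    { carrier := {g | g ∈ L ∧ y⁻¹ * (g * y * g⁻¹) ∈ 𝐂(L)}
      one_mem' := ⟨one_mem _, by simp⟩
      mul_mem' := by
        rintro g k ⟨hg, hg'⟩ ⟨hk, hk'⟩
        refine ⟨mul_mem hg hk, ?_⟩
        have e1 := conj_of_cent hg hk'
        have : y⁻¹ * (g * k * y * (g * k)⁻¹) =
            y⁻¹ * (g * y * g⁻¹) * (g * (y⁻¹ * (k * y * k⁻¹)) * g⁻¹) := by group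
        rw [this, e1]
        exact mul_mem hg' hk'
      inv_mem' := by
        rintro g ⟨hg, hg'⟩
        refine ⟨inv_mem hg, ?_⟩
        have e1 := conj_of_cent (inv_mem hg) hg'
        have e2 : g⁻¹ * y * g⁻¹⁻¹ = y * (y⁻¹ * (g * y * g⁻¹))⁻¹ := by
          rw [← e1]; group
        rw [e2, inv_mul_cancel_left]
        exact inv_mem hg' }
  have hNc : ∀ g ∈ L, g ∈ 𝐂[y] → g ∈ N := fun g hg h1 =>
    ⟨hg, by rw [mem_cent1.1 h1, mul_inv_cancel_right, inv_mul_cancel]; exact one_mem _⟩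
  have hLN : L ≤ N := by
    refine hgen.ge.trans (sup_le (sup_le (fun g hg => hNc g (h.XL hg) (h.X_cent hy.1 hg))
      fun g hg => hNc g (h.ELl hl hg) (mem_cent1.2 (mem_cent.1 hy.2 g hg))) ((zpowers_le).2 ?_))
    refine ⟨h.EL he, ?_⟩
    have e1 := h.conj_eq hv e
    have e2 := conj_of_cent he hx.2
    have e3 : y⁻¹ * (e * y * e⁻¹) = ⁅x * y, e⁆ := by
      calc y⁻¹ * (e * y * e⁻¹) = y⁻¹ * (e * x * e⁻¹)⁻¹ * (e * (x * y) * e⁻¹) := by group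
        _ = _ := by rw [e1, e2]; group
    rw [e3]; exact hc
  refine mul_mem hx.2 (mem_cent.2 fun w hw => ?_)
  have h1 := (hLN hl).2
  have h2 : l * w * l⁻¹ * y = y * (l * w * l⁻¹) := mem_cent.1 hy.2 _ (cjm hw)
  have h3 := mem_cent.1 h1 _ (h.ELl hl (cjm hw))
  have h4 : l * w * l⁻¹ * (l * y * l⁻¹) = l * y * l⁻¹ * (l * w * l⁻¹) := by
    calc l * w * l⁻¹ * (l * y * l⁻¹) = l * w * l⁻¹ * y * (y⁻¹ * (l * y * l⁻¹)) := by group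
      _ = y * (l * w * l⁻¹ * (y⁻¹ * (l * y * l⁻¹))) := by rw [h2]; group
      _ = _ := by rw [h3]; group
  calc w * y = l⁻¹ * (l * w * l⁻¹ * (l * y * l⁻¹)) * l := by group
    _ = _ := by rw [h4]; group

omit [Finite X] in
theorem comm_mul {z e e' : X} (hz : z ∈ U) (he : e ∈ E) (he' : e' ∈ E) :
    ⁅z, e * e'⁆ = ⁅z, e⁆ * ⁅z, e'⁆ := by
  have h1 := conj_of_cent he (h.comm_mem hz he').2
  calc ⁅z, e * e'⁆ = ⁅z, e⁆ * (e * ⁅z, e'⁆ * e⁻¹) := by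
        simp only [commutatorElement_def]; group
    _ = _ := by rw [h1]

theorem onto {z x : X} (hzV : z ∈ U) (hzE : z ∉ 𝐂(E)) (hx : x ∈ U ⊓ 𝐂(E)) :
    ∃ e ∈ E, ∃ v ∈ U ⊓ 𝐂(L), ⁅z, e⁆ * v = x := by
  obtain ⟨l, hl, hn⟩ := SetLike.not_le_iff_exists.1 h.nM
  let f : E →* X := MonoidHom.mk' (fun e => ⁅z, (e : X)⁆) fun e e' => h.comm_mul hzV e.2 e'.2
  have hfA : f.range ≤ U ⊓ 𝐂(E) := by
    rintro _ ⟨e, rfl⟩; exact h.comm_mem hzV e.2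
  have hker : f.ker = (E ⊓ 𝐂(U)).subgroupOf E := by
    ext e
    rw [MonoidHom.mem_ker, mem_subgroupOf]
    constructor
    · intro h1
      refine ⟨e.2, ?_⟩
      by_contra h'
      exact hzE (h.cent_of_comm e.2 h' hzV
        (by rw [show ⁅z, (e : X)⁆ = 1 from h1]; exact one_mem _))
    · exact fun h1 => commutatorElement_eq_one_iff_mul_comm.2 (mem_cent.1 h1.2 z hzV)
  have hinf : f.range ⊓ (U ⊓ 𝐂(L)) = ⊥ := by
    refine (eq_bot_iff_forall _).2 ?_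
    rintro _ ⟨⟨e, rfl⟩, h0⟩
    by_contra h1
    refine hzE (h.cent_of_comm e.2 (fun h2 => h1 ?_) hzV h0.2)
    exact commutatorElement_eq_one_iff_mul_comm.2 (mem_cent.1 h2 z hzV)
  have hnorm : U ⊓ 𝐂(L) ≤ 𝐍(f.range) :=
    inf_le_left.trans (h.el.le_norm (hfA.trans inf_le_left))
  have c1 := card_sup_inf hnorm
  rw [hinf, card_bot, one_mul] at c1
  have c2 : Nat.card (E ⊓ 𝐂(U) : Subgroup X) * Nat.card f.range = Nat.card E := by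
    rw [← index_ker, ← f.ker.card_mul_index, hker,
      Nat.card_congr (subgroupOfEquivOfLe inf_le_left).toEquiv]
  have c3 := h.cardV hl hn
  have c4 := h.cardE
  have hle : f.range ⊔ (U ⊓ 𝐂(L)) ≤ U ⊓ 𝐂(E) :=
    sup_le hfA (inf_le_inf_left _ (centralizer_le h.EL))
  have heq : f.range ⊔ (U ⊓ 𝐂(L)) = U ⊓ 𝐂(E) := by
    refine eq_of_le_of_card_ge hle ?_
    rw [← c1]
    rw [← c2, mul_left_comm] at c4
    have c5 := Nat.le_of_mul_le_mul_left c4 Nat.card_pos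
    have c6 := Nat.mul_le_mul_left (Nat.card (U ⊓ 𝐂(L) : Subgroup X)) c5
    rw [← c3, mul_left_comm] at c6
    have c7 := Nat.le_of_mul_le_mul_left c6 Nat.card_pos
    rwa [mul_comm] at c7
  rw [← heq] at hx
  obtain ⟨_, ⟨e, rfl⟩, v, hv, h1⟩ := mem_sup_norm hnorm hx
  exact ⟨e, e.2, v, hv, h1⟩

/-- Every element of `U` outside `C_U(E)` is conjugate to `z0` modulo `C_U(L)`. -/
theorem trans1 {l z0 w : X} (hl : l ∈ L) (hn : l ∉ M) (hz : z0 ∈ Z) (hzL : z0 ∉ 𝐂(L))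
    (hw : w ∈ U) (hwE : w ∉ 𝐂(E)) : ∃ g ∈ L, ∃ v ∈ U ⊓ 𝐂(L), w = g * z0 * g⁻¹ * v := by
  have hV := h.el
  have hzV : z0 ∈ U := h.Z_le hz
  have hzE : z0 ∈ 𝐂(E) := le_centralizer_iff.1 h.EZ hz
  obtain ⟨x, hx, b, hb, rfl⟩ := h.split hl hn hw
  have hbE : b ∉ 𝐂(E) := fun h1 => hwE (mul_mem hx.2 h1)
  have hb' := h.cj_back hl hb
  have hz' := h.cj_mem' (inv_mem hl) ⟨hzV, hzE⟩
  obtain ⟨e, he, v, hv, h1⟩ := h.onto hz'.1 (fun h1 => conj_notin (inv_mem hl) hzL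
    (h.meet (inv_mem hl) (fun h2 => hn (by simpa using inv_mem h2)) hz'.1 h1 hz'.2)) hb'
  have h2 := h.conj_eq hz'.1 e
  have hg : l * e * l⁻¹ ∈ L := mul_mem (mul_mem hl (h.EL he)) (inv_mem hl)
  have h3 : l * e * l⁻¹ * z0 * (l * e * l⁻¹)⁻¹ = z0 * b * v⁻¹ := by
    have h4 : ⁅l⁻¹ * z0 * l⁻¹⁻¹, e⁆ = l⁻¹ * b * l⁻¹⁻¹ * v⁻¹ := by rw [← h1]; group
    have h5 := conj_of_cent hl (inv_mem hv.2)
    calc l * e * l⁻¹ * z0 * (l * e * l⁻¹)⁻¹ = l * (e * (l⁻¹ * z0 * l⁻¹⁻¹) * e⁻¹) * l⁻¹ := by group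
      _ = z0 * b * (l * v⁻¹ * l⁻¹) := by rw [h2, h4]; group
      _ = _ := by rw [h5]
  have hvE : v ∈ 𝐂(E) := centralizer_le h.EL hv.2
  have hz2E : z0 * b * v⁻¹ ∉ 𝐂(E) := fun h0 => hbE (by
    simpa using mul_mem (inv_mem hzE) (mul_mem h0 hvE))
  have hz2 : z0 * b * v⁻¹ ∈ U := mul_mem (mul_mem hzV hb.1) (inv_mem hv.1)
  have hy : v * z0⁻¹ * x ∈ U ⊓ 𝐂(E) := mul_mem (mul_mem ⟨hv.1, hvE⟩ (inv_mem ⟨hzV, hzE⟩)) hx
  obtain ⟨e2, he2, v2, hv2, h6⟩ := h.onto hz2 hz2E hy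
  have h7 := h.conj_eq hz2 e2
  refine ⟨e2 * (l * e * l⁻¹), mul_mem (h.EL he2) hg, v2, hv2, ?_⟩
  have h8 : e2 * (l * e * l⁻¹) * z0 * (e2 * (l * e * l⁻¹))⁻¹ =
      e2 * (l * e * l⁻¹ * z0 * (l * e * l⁻¹)⁻¹) * e2⁻¹ := by group
  rw [h8, h3, h7, mul_assoc _ _ v2, h6]
  have c1 : z0 * b = b * z0 := hV.comm hzV hb.1
  have c2 : x * b = b * x := hV.comm hx.1 hb.1
  rw [c1, c2]; group

/-- `L ⊓ M` is transitive on the nontrivial elements of `C_U(E) / C_U(L)`. -/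
theorem trans2 {z0 x : X} (hz : z0 ∈ Z) (hzL : z0 ∉ 𝐂(L)) (hx : x ∈ U ⊓ 𝐂(E)) (hxL : x ∉ 𝐂(L)) :
    ∃ g ∈ L, g ∈ M ∧ ∃ v ∈ U ⊓ 𝐂(L), x = g * z0 * g⁻¹ * v := by
  obtain ⟨l, hl, hn⟩ := SetLike.not_le_iff_exists.1 h.nM
  have hw := h.cj_mem' hl hx
  have hwE : l * x * l⁻¹ ∉ 𝐂(E) := fun h1 => conj_notin hl hxL (h.meet hl hn hw.1 h1 hw.2)
  obtain ⟨g, hg, v, hv, h0⟩ := h.trans1 hl hn hz hzL hw.1 hwE
  have hg' : l⁻¹ * g ∈ L := mul_mem (inv_mem hl) hg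
  have h1 : x = l⁻¹ * g * z0 * (l⁻¹ * g)⁻¹ * v := by
    have h2 := conj_of_cent (inv_mem hl) hv.2
    calc x = l⁻¹ * (l * x * l⁻¹) * l := by group
      _ = l⁻¹ * g * z0 * (l⁻¹ * g)⁻¹ * (l⁻¹ * v * l⁻¹⁻¹) := by rw [h0]; group
      _ = _ := by rw [h2]
  refine ⟨l⁻¹ * g, hg', ?_, v, hv, h1⟩
  have h3 : l⁻¹ * g * z0 * (l⁻¹ * g)⁻¹ ∈ 𝐂(E) := by
    have : l⁻¹ * g * z0 * (l⁻¹ * g)⁻¹ = x * v⁻¹ := by rw [h1]; group
    rw [this]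
    exact mul_mem hx.2 (inv_mem (centralizer_le h.EL hv.2))
  have h4 := h.uniq 1 (one_mem L) _ hg' (by
    rw [cj_one]
    exact le_trans (le_inf h.EL fun y hy => mem_cent1.2 (mem_cent.1 h3 y hy))
      (h.cent_le hg' (cjm hz) (conj_notin hg' hzL)))
  simpa using inv_mem h4

end AB

end CfsgLib.CP.B1a
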