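import Cfsg.Agent.Lib.CP.VB

set_option autoImplicit false

namespace CfsgLib.CP

open Subgroup Cfsg CfsgLib.FT CfsgLib.FT.BGN CfsgLib.GW CfsgLib.Wal
open CfsgLib.FT.U4 (mem_cent1 mem_cent1' mem_cent mem_cent1_comm cent1_conj conj_mem_conj_iff
  orderOf_conj)
open scoped commutatorElement

variable {X : Type*} [Group X] [Finite X] {G T : Subgroup X} [PD T] {a : X}

variable {W : Subgroup X} {u : X}

theorem b5b_WB_inf_cent_eq {x : X} (hx : x ∈ 𝐂(WB T T)) : WB T (T ⊓ 𝐂[x]) = WB T T := by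
  refine le_antisymm (WB_mono inf_le_left) ?_
  calc WB T T = WB T (WB T T) := (WB_idem T T).symm
    _ ≤ WB T (T ⊓ 𝐂[x]) := by
      refine WB_mono (le_inf (WB_le T T) fun y hy => ?_)
      exact mem_cent1.2 (mem_cent.1 hx y hy)

theorem CP1.final (hc : CP1 G T a) (h : Vx T W u) (ind : Ind T u) (hJ : WB T T ≤ 𝐂[u]) :
    False := by
  have hT := hc.syl
  obtain ⟨H, A0, d, z0, h⟩ := h
  obtain ⟨e, he, hind⟩ := ind
  have hu0 := h.W_le_Om hT h.uW
  have hu : u ∈ Om (WB T T) :=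
    ⟨WB_mono inf_le_left hu0.1, mem_cent.2 fun y hy => mem_cent1.1 (hJ hy), hu0.2.2⟩
  have haN : a ∈ 𝐍(Om (WB T T)) := norm_le_norm_Om _ (norm_le_norm_WB T T hc.anorm)
  have huj : ∀ j : ℕ, a ^ j * u * (a ^ j)⁻¹ ∈ Om (WB T T) := fun j =>
    (mem_normalizer_iff.1 (pow_mem haN j) u).1 hu
  have hstep : ∀ n : ℕ, (u * a) ^ (n + 1) * (a ^ (n + 1))⁻¹ =
      (u * a) ^ n * (a ^ n)⁻¹ * (a ^ n * u * (a ^ n)⁻¹) := by
    intro n
    rw [pow_succ, pow_succ' a]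
    group
  have hp : ∀ n : ℕ, (u * a) ^ n * (a ^ n)⁻¹ ∈ Om (WB T T) := by
    intro n
    induction n with
    | zero => simp
    | succ n ih => rw [hstep]; exact mul_mem ih (huj n)
  classical
  have hex : ∃ n : ℕ, 0 < n ∧ a ^ n ∈ 𝐂[u] := ⟨orderOf a, orderOf_pos a, by simp⟩
  obtain ⟨hr0, har⟩ := Nat.find_spec hex
  set r := Nat.find hex with hrdef
  have h1 : (u * a) ^ r * (a ^ r)⁻¹ = 1 := by
    refine hc.fpf _ (hp r).2.2 ?_
    have c1 : (u * a) ^ r * (a ^ r)⁻¹ * u = u * ((u * a) ^ r * (a ^ r)⁻¹) :=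
      (Om_el _).comm (hp r) hu
    have c2 : (u * a) ^ r * (u * a) = (u * a) * (u * a) ^ r := by rw [← pow_succ, ← pow_succ']
    have c3 : a ^ r * u = u * a ^ r := mem_cent1.1 har
    have c4 : a ^ r * a = a * a ^ r := by rw [← pow_succ, ← pow_succ']
    apply mul_left_cancel (a := u)
    apply mul_right_cancel (b := a ^ r)
    calc u * ((u * a) ^ r * (a ^ r)⁻¹ * a) * a ^ r
        = u * ((u * a) ^ r * (a ^ r)⁻¹) * (a * a ^ r) := by group
      _ = (u * a) ^ r * (a ^ r)⁻¹ * (u * a ^ r) * a := by rw [← c1, ← c4]; group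
      _ = (u * a) ^ r * (u * a) := by rw [← c3]; group
      _ = _ := by rw [c2]; group
  have hne : ∀ j : ℕ, 0 < j → j < r → a ^ j * u * (a ^ j)⁻¹ ≠ u := fun j h0 hj heq =>
    Nat.find_min hex hj ⟨h0, mem_cent1.2 (by rw [← mul_inv_eq_iff_eq_mul]; exact heq)⟩
  have hce : ∀ j : ℕ, 0 < j → j < r → a ^ j * u * (a ^ j)⁻¹ ∈ 𝐂[e] := by
    intro j h0 hj
    refine mem_cent1_comm.1 (hind _ (pow_mem hc.anorm j) (hne j h0 hj) ?_)
    rw [b5b_WB_inf_cent_eq (huj j).2.1, b5b_WB_inf_cent_eq hu.2.1]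
  have hq : ∀ n : ℕ, n + 1 ≤ r → u⁻¹ * ((u * a) ^ (n + 1) * (a ^ (n + 1))⁻¹) ∈ 𝐂[e] := by
    intro n
    induction n with
    | zero => intro _; simp
    | succ n ih =>
      intro hn
      rw [hstep, ← mul_assoc]
      exact mul_mem (ih (by omega)) (hce _ (by omega) (by omega))
  have hr : r - 1 + 1 = r := Nat.sub_add_cancel hr0
  have := hq (r - 1) hr.le
  rw [hr, h1, mul_one, inv_mem_iff] at this
  exact he (mem_cent1_comm.1 this)

end CfsgLib.CP
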