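import Cfsg.Agent.Lib.Wal.Basic

/-!
# Fixed point free automorphisms of prime power order: definitions

All objects live in one ambient finite group `X = G ⟨a⟩`.  See `notes/cp_plan.md`.
-/

set_option autoImplicit false

namespace CfsgLib.CP

open Subgroup Cfsg CfsgLib.FT CfsgLib.FT.BGN CfsgLib.GW CfsgLib.Wal
open scoped commutatorElement

variable {X : Type*} [Group X]

/-- `Ω₁ Z(T)`. -/
def Om (T : Subgroup X) : Subgroup X where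
  carrier := {z | z ∈ T ∧ z ∈ 𝐂(T) ∧ z * z = 1}
  one_mem' := ⟨one_mem _, one_mem _, one_mul _⟩
  mul_mem' := by
    rintro x y ⟨h1, h2, h3⟩ ⟨k1, k2, k3⟩
    refine ⟨mul_mem h1 k1, mul_mem h2 k2, ?_⟩
    have h : x * y = y * x := mem_centralizer_iff.1 k2 x h1
    calc x * y * (x * y) = x * (y * x) * y := by simp only [mul_assoc]
      _ = x * (x * y) * y := by rw [← h]
      _ = (x * x) * (y * y) := by simp only [mul_assoc]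
      _ = 1 := by rw [h3, k3, one_mul]
  inv_mem' := by
    rintro x ⟨h1, h2, h3⟩
    exact ⟨inv_mem h1, inv_mem h2, by rw [← mul_inv_rev, h3, inv_one]⟩

theorem mem_Om {T : Subgroup X} {z : X} : z ∈ Om T ↔ z ∈ T ∧ z ∈ 𝐂(T) ∧ z * z = 1 := Iff.rfl

/-- The minimal counterexample (`a` is a `p`-element, `p ≥ 5`). -/
structure CP0 (G T : Subgroup X) (a : X) (p : ℕ) : Prop where
  prime : p.Prime
  five : 5 ≤ p
  ord : ∃ k : ℕ, a ^ p ^ k = 1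
  normal : G.Normal
  simple : IsSimpleGroup G
  nonab : ¬ IsMulCommutative G
  sup : G ⊔ zpowers a = ⊤
  cop : ¬ p ∣ Nat.card G
  syl : IsSylowIn 2 T ⊤
  le : T ≤ G
  anorm : a ∈ 𝐍(T)
  fpf : G ⊓ 𝐂[a] = ⊥
  faith : 𝐂(G) ⊓ zpowers a = ⊥
  sol : ∀ H : Subgroup X, H < G → a ∈ 𝐍(H) → Group.IsSolvable H

/-- The point data: `Y` (whose conjugates are the superpoints) with the "scalar" `β`. -/
class PD (T : Subgroup X) where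
  Y : Subgroup X
  β : X
  p : ℕ
  YT : Y ≤ T
  elY : El Y
  ne : Y ≠ ⊥
  NT : 𝐍(T) ≤ 𝐍(Y)
  NZ : 𝐍(Y ⊓ 𝐂(T)) ≤ 𝐍(Y)
  βT : β ∈ 𝐍(T)
  comm : ∀ m ∈ 𝐍(Y), ∀ y ∈ Y, β * (m * y * m⁻¹) * β⁻¹ = m * (β * y * β⁻¹) * m⁻¹
  fpf : ∀ y ∈ Y, β * y * β⁻¹ = y → y = 1
  pw : β ^ p ∈ 𝐂(Y)
  prime : p.Prime
  five : 5 ≤ p

/-- The superpoint at `T`. -/
def Yt (T : Subgroup X) [PD T] : Subgroup X := PD.Y T

/-- The point at `T`. -/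
def Zt (T : Subgroup X) [PD T] : Subgroup X := Yt T ⊓ 𝐂(T)

/-- What the local analysis needs from the minimal counterexample. -/
structure CP1 (G T : Subgroup X) [PD T] (a : X) : Prop where
  normal : G.Normal
  simple : IsSimpleGroup G
  nonab : ¬ IsMulCommutative G
  cop : ¬ PD.p T ∣ Nat.card G
  syl : IsSylowIn 2 T ⊤
  le : T ≤ G
  anorm : a ∈ 𝐍(T)
  fpf : ∀ z : X, z * z = 1 → z * a = a * z → z = 1
  sup : G ⊔ 𝐍(T) = ⊤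
  loc : ∀ D : Subgroup X, D ≤ T → D ≠ ⊥ → T ≤ 𝐍(D) → a ∈ 𝐍(D) → 𝐍(D) ≤ 𝐍(Yt T)
  two_le : ∀ D : Subgroup X, IsPGroup 2 D → D ≤ G

/-- No point with another superpoint lies in `T`. -/
def WC (T : Subgroup X) [PD T] : Prop := ∀ g : X, g •ᶜ Zt T ≤ T → g ∈ 𝐍(Yt T)

/-- Points: the conjugates of `Zt T`. -/
def Pt (T φ : Subgroup X) [PD T] : Prop := ∃ g : X, φ = g •ᶜ Zt T

/-- The superpoint of a point. -/
def sp (T φ : Subgroup X) [PD T] : Subgroup X := ⨆ (g : X) (_ : φ = g •ᶜ Zt T), g •ᶜ Yt T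

/-- Bad groups: `2`-groups centralizing two commuting points with different superpoints. -/
def Bad (T D : Subgroup X) [PD T] : Prop :=
  IsPGroup 2 D ∧ ∃ φ ψ : Subgroup X, Pt T φ ∧ Pt T ψ ∧ sp T φ ≠ sp T ψ ∧ φ ≤ 𝐂(ψ) ∧ D ≤ 𝐂(φ) ∧
    D ≤ 𝐂(ψ)

/-- The largest order of an elementary abelian bad group. -/
noncomputable def KK (T : Subgroup X) [PD T] : ℕ :=
  sSup {n | ∃ A : Subgroup X, El A ∧ Bad T A ∧ Nat.card A = n}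

/-- Elementary abelian bad groups of the largest order. -/
def BB (T A : Subgroup X) [PD T] : Prop := El A ∧ Bad T A ∧ Nat.card A = KK T

/-- The weak closure of `BB` in `D`. -/
def WB (T D : Subgroup X) [PD T] : Subgroup X := sSup {A | BB T A ∧ A ≤ D}

/-- `X0` is a bad weak closure of the largest order. -/
structure MaxW (T X0 : Subgroup X) [PD T] : Prop where
  wb : WB T X0 = X0
  bad : Bad T X0
  max : ∀ D : Subgroup X, Bad T D → Nat.card (WB T D) ≤ Nat.card X0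

/-- Large elementary abelian groups normalizing `X0`, not inside `X0`. -/
structure EE (T X0 E : Subgroup X) [PD T] : Prop where
  el : El E
  card : KK T ≤ Nat.card E
  norm : E ≤ 𝐍(X0)
  nle : ¬ E ≤ X0

/-- The normal closure of the point `Zt T` under `L`. -/
def VL (T L : Subgroup X) [PD T] : Subgroup X := ⨆ l ∈ L, l •ᶜ Zt T

/-- The failure-of-factorization configuration (output of `B1b`, input of `B1a`). -/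
structure FFc (T X0 L E : Subgroup X) [PD T] : Prop where
  mx : MaxW T X0
  ee : EE T X0 E
  XL : X0 ≤ L
  EL : E ≤ L
  LN : L ≤ 𝐍(X0)
  XZ : X0 ≤ 𝐂(Zt T)
  EZ : E ≤ 𝐂(Zt T)
  XT : X0 ≤ T
  ET : E ≤ T
  sy : IsSylowIn 2 (T ⊓ L) (L ⊓ 𝐍(Yt T))
  nN : ¬ L ≤ 𝐍(Yt T)
  min : ∀ L' E' φ : Subgroup X, L' ≤ L → EE T X0 E' → X0 ≤ L' → E' ≤ L' → Pt T φ →
    X0 ≤ 𝐂(φ) → E' ≤ 𝐂(φ) → ¬ L' ≤ 𝐍(sp T φ) → L' = L
  quad : ∀ v ∈ VL T L, ∀ e ∈ E, ∀ e' ∈ E, ⁅⁅v, e⁆, e'⁆ = 1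

/-- Output of `B1a`, input of `B1c`. -/
structure Seed (T W P A : Subgroup X) [PD T] (u z0 d : X) : Prop where
  pP : IsPGroup 2 P
  WP : W ≤ P
  PN : P ≤ 𝐍(W)
  elW : El W
  cardW : Nat.card W = 4
  uW : u ∈ W
  u1 : u ≠ 1
  Pu : P ≤ 𝐂[u]
  AP : A ≤ P
  elA : El A
  cardA : KK T ≤ Nat.card A
  AW : ¬ A ≤ 𝐂(W)
  zZ : z0 ∈ Zt T
  Pz : P ≤ 𝐂[z0]
  dN : d ∈ 𝐍(W)
  du : d ∉ 𝐂[u]
  dz : d ∈ 𝐂[z0 * u]
  max : ∀ D : Subgroup X, Bad T D → Nat.card (WB T D) ≤ Nat.card (WB T (P ⊓ 𝐂(W)))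
  mx : ∃ X0 : Subgroup X, MaxW T X0 ∧ X0 ≤ P ⊓ 𝐂(W) ∧ A ⊓ 𝐂(W) ≤ X0

/-- A vertex with its data.  `E = T ⊓ 𝐂(W)`, `𝒩 = T ⊓ 𝐍(W)`. -/
structure VxD (T W : Subgroup X) [PD T] (u : X) (H A0 : Subgroup X) (d z0 : X) : Prop where
  WT : W ≤ T
  elW : El W
  cardW : Nat.card W = 4
  uW : u ∈ W
  u1 : u ≠ 1
  Nu : T ⊓ 𝐍(W) ≤ 𝐂[u]
  HE : H ≤ 𝐍(T ⊓ 𝐂(W))
  HW : H ≤ 𝐍(W)
  NH : T ⊓ 𝐍(W) ≤ H
  two : ∀ D : Subgroup X, IsPGroup 2 D → D ≤ H → D ≤ 𝐂(W) → D ≤ T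
  dH : d ∈ H
  du : d ∉ 𝐂[u]
  AN : A0 ≤ T ⊓ 𝐍(W)
  elA : El A0
  cardA : KK T ≤ Nat.card A0
  AW : ¬ A0 ≤ 𝐂(W)
  zZ : z0 ∈ Zt T
  Hz : H ≤ 𝐂[z0 * u]
  max : ∀ D : Subgroup X, Bad T D → Nat.card (WB T D) ≤ Nat.card (WB T (T ⊓ 𝐂(W)))
  mx : ∃ X0 : Subgroup X, MaxW T X0 ∧ X0 ≤ T ⊓ 𝐂(W) ∧ A0 ⊓ 𝐂(W) ≤ X0

/-- A vertex. -/
def Vx (T W : Subgroup X) [PD T] (u : X) : Prop :=
  ∃ (H A0 : Subgroup X) (d z0 : X), VxD T W u H A0 d z0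

/-- (R1) No two distinct conjugates of `W` under `T ⊓ 𝐂[u]` commute. -/
def LC (T W : Subgroup X) (u : X) : Prop :=
  ∀ n ∈ T, n ∈ 𝐂[u] → n •ᶜ W ≤ 𝐂(W) → n ∈ 𝐍(W)

/-- (R2) In elementary abelian subgroups of `T ⊓ 𝐂[u]` the centralizer of `W` has index `≤ 2`. -/
def IB (T W : Subgroup X) (u : X) : Prop :=
  ∀ A : Subgroup X, El A → A ≤ T → A ≤ 𝐂[u] → ∀ x ∈ A, ∀ y ∈ A,
    x ∉ 𝐂(W) → y ∉ 𝐂(W) → x * y ∈ 𝐂(W)

/-- (R3) Independence of `u` from its conjugates with the same weak closure. -/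
def Ind (T : Subgroup X) [PD T] (u : X) : Prop :=
  ∃ e : X, e ∉ 𝐂[u] ∧ ∀ s ∈ 𝐍(T), s * u * s⁻¹ ≠ u →
    WB T (T ⊓ 𝐂[s * u * s⁻¹]) = WB T (T ⊓ 𝐂[u]) → e ∈ 𝐂[s * u * s⁻¹]

end CfsgLib.CP
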