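import Cfsg.Agent.Lib.CP.A1
import Cfsg.Agent.Lib.CP.A2
import Cfsg.Agent.Lib.CP.A3
import Cfsg.Agent.Lib.CP.B1a
import Cfsg.Agent.Lib.CP.B1b
import Cfsg.Agent.Lib.CP.B1c
import Cfsg.Agent.Lib.CP.B3b
import Cfsg.Agent.Lib.CP.B3c
import Cfsg.Agent.Lib.CP.B5a
import Cfsg.Agent.Lib.CP.B5b

set_option autoImplicit false

namespace CfsgLib.CP

open Subgroup Cfsg CfsgLib.FT CfsgLib.FT.BGN CfsgLib.GW CfsgLib.Wal
open CfsgLib.FT.U4 (mem_cent1 mem_cent1' mem_cent mem_cent1_comm cent1_conj conj_mem_conj_iff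
  orderOf_conj)
open scoped commutatorElement

variable {X : Type*} [Group X] [Finite X] {G T : Subgroup X} {a : X} {p : ℕ}

theorem CP1.false [PD T] (h : CP1 G T a) : False := by
  refine h.false_of_wc ?_
  by_contra nwc
  obtain ⟨X0, L, E, hf⟩ := h.exists_FFc nwc
  obtain ⟨W, P, A, u, z0, d, hs⟩ := h.seed hf
  obtain ⟨W', u', hv⟩ := hs.vx h.syl
  have key : LC T W' u' ∧ IB T W' u' ∧ Ind T u' := by
    by_cases hb : T ⊓ 𝐂[u'] ≤ 𝐍(W')
    · exact hv.nonblock h.syl hb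
    · have lc := hv.block_lc h.syl hb
      exact ⟨lc, hv.block_ib h.syl hb lc, hv.block_ind h.syl hb lc⟩
  exact h.final hv key.2.2 (hv.WB_le_cent h.syl key.1 key.2.1 key.2.2)

theorem CP0.false (h : CP0 G T a p) : False := by
  have := Fact.mk h.prime
  have ha : a ≠ 1 := by
    rintro rfl
    have h1 := h.fpf
    rw [inf_eq_left.2 fun x _ => mem_cent1.2 (by simp)] at h1
    have := h.simple
    exact not_subsingleton G (h1 ▸ inferInstance)
  obtain ⟨k, hk⟩ := h.ord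
  obtain ⟨j, -, hj⟩ := (Nat.dvd_prime_pow h.prime).1 (orderOf_dvd_of_pow_eq_one hk)
  have hp : p ∣ Nat.card (zpowers a) := by
    rw [Nat.card_zpowers, hj]
    refine dvd_pow_self p fun e => ha ?_
    rwa [e, pow_zero, orderOf_eq_one_iff] at hj
  obtain ⟨b, hb⟩ := exists_prime_orderOf_dvd_card' p hp
  have hb1 : orderOf (b : X) = p := by rw [orderOf_coe, hb]
  by_cases hT : T ≤ 𝐂[(b : X)]
  · exact h.false_of_le_cent b.2 hb1 hT
  · obtain ⟨_, h1⟩ := h.exists_PD b.2 hb1 hT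
    exact h1.false

end CfsgLib.CP
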