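import Cfsg.Agent.Lib.CO.WC
import Cfsg.Agent.Lib.CO.VB
import Cfsg.Agent.Lib.HI.Alpha
import Cfsg.Agent.Lib.H1DStar

/-!
# Strongly closed elementary abelian subgroups without a transitive section
-/

set_option autoImplicit false
set_option linter.unusedSectionVars false

namespace CfsgLib.CP

open Subgroup Cfsg CfsgLib.FT CfsgLib.FT.BGN CfsgLib.GW CfsgLib.Wal
open CfsgLib.FT.U4 (mem_cent1 mem_cent1' mem_cent mem_cent1_comm self_mem_cent1 cent1_conj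
  orderOf_conj cent_le_norm)
open scoped commutatorElement

universe u

/-- `Y` is a strongly closed elementary abelian subgroup of `K`, and no subgroup of `N_K(Y)` is
transitive on the non-trivial elements of a quotient `Y / Y0` of order at least four. -/
structure SCK {X : Type*} [Group X] (K Y : Subgroup X) : Prop where
  el : El Y
  le : Y ≤ K
  sc : ∀ y ∈ Y, ∀ g ∈ K, g * y * g⁻¹ ∈ 𝐍(Y) → g * y * g⁻¹ ∈ Y
  noK : ∀ L : Subgroup X, L ≤ K ⊓ 𝐍(Y) → ∀ Y0 : Subgroup X, Y0 ≤ Y ⊓ 𝐂(L) →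
    (∀ y ∈ Y, y ∉ Y0 → ∀ y2 ∈ Y, y2 ∉ Y0 → ∃ k ∈ L, ∃ v ∈ Y0, y2 = k * y * k⁻¹ * v) →
    Y0.relIndex Y ≤ 2

theorem odd_trans {X : Type*} [Group X] [Finite X] {L Y Y0 : Subgroup X} (hY : El Y)
    (h0 : Y0 ≤ Y) (h1 : L ≤ 𝐍(Y)) (h2 : L ≤ 𝐍(Y0))
    (tr : ∀ y ∈ Y, y ∉ Y0 → ∀ y2 ∈ Y, y2 ∉ Y0 → ∃ k ∈ L, ∃ v ∈ Y0, y2 = k * y * k⁻¹ * v) :
    ∀ y ∈ Y, y ∉ Y0 → ∀ y2 ∈ Y, y2 ∉ Y0 →
      ∃ k ∈ pResidualOf 2 L, ∃ v ∈ Y0, y2 = k * y * k⁻¹ * v := by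
  have := Fact.mk Nat.prime_two
  intro y hy hy0 y2 hy2 hy20
  obtain ⟨P, -, hP⟩ := IsSylowIn.exists_ge (IsPGroup.of_bot (p := 2)) (bot_le : ⊥ ≤ L)
  have hPY : IsPGroup 2 (P ⊔ Y : Subgroup X) :=
    H1.isPGroup_sup_of_le_normalizer hP.isPGroup hY.isPGroup (hP.le.trans h1)
  obtain ⟨x, hx, hx0, hc⟩ := Cop.exists_commutator_mem_of_lt hPY.isNilpotent le_sup_right
    (sup_le (hP.le.trans h2) (hY.le_norm h0)) (sup_le (hP.le.trans h1) le_normalizer)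
    (fun e => hy0 (e hy))
  have hL2 := (H1.pResidualOf_le (p := 2) L).trans h2
  have key : ∀ y ∈ Y, y ∉ Y0 → ∃ k ∈ pResidualOf 2 L, ∃ v ∈ Y0, y = k * x * k⁻¹ * v := by
    intro y hy hy0
    obtain ⟨k, hk, v, hv, e⟩ := tr x hx hx0 y hy hy0
    rw [← H1.pResidualOf_sup_sylow hP] at hk
    obtain ⟨k2, hk2, p, hp, rfl⟩ := mem_sup_norm ((hP.le.trans le_normalizer).trans
      (H1.normalizer_le_normalizer_pResidualOf L)) hk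
    refine ⟨k2, hk2, k2 * ⁅x, p⁆ * k2⁻¹ * v,
      mul_mem (CO.norm_mem (hL2 hk2) (hc p (mem_sup_left hp))) hv, ?_⟩
    rw [e, commutatorElement_def, hY.inv hx]
    calc k2 * p * x * (k2 * p)⁻¹ * v = k2 * ((x * x) * p * x * p⁻¹) * k2⁻¹ * v := by
          rw [hY x hx]; group
      _ = _ := by group
  obtain ⟨k, hk, v, hv, e⟩ := key y hy hy0
  obtain ⟨k', hk', v', hv', e'⟩ := key y2 hy2 hy20
  have hkk := mul_mem hk' (inv_mem hk)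
  refine ⟨k' * k⁻¹, hkk, k' * k⁻¹ * v⁻¹ * (k' * k⁻¹)⁻¹ * v',
    mul_mem (CO.norm_mem (hL2 hkk) (inv_mem hv)) hv', ?_⟩
  rw [e, e']
  group

namespace SCK

section

variable {X : Type*} [Group X] [Finite X] {K Y : Subgroup X}
variable (h : SCK K Y)
include h

theorem mono {K' : Subgroup X} (h1 : Y ≤ K') (h2 : K' ≤ K) : SCK K' Y :=
  { h with
    le := h1
    sc := fun y hy g hg => h.sc y hy g (h2 hg)
    noK := fun L hL => h.noK L (hL.trans (inf_le_inf_right _ h2)) }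

theorem mem_norm {g : X} (hg : g ∈ K) (h1 : g •ᶜ Y ≤ 𝐍(Y)) : g ∈ 𝐍(Y) :=
  mem_normalizer_fintype fun y hy => h.sc y hy g hg (h1 ⟨y, hy, rfl⟩)

theorem le_norm {P : Subgroup X} (hP : IsPGroup 2 P) (h1 : Y ≤ P) (h2 : P ≤ K) : P ≤ 𝐍(Y) := by
  have := Fact.mk Nat.prime_two
  by_contra hn
  have h3 : P ⊓ 𝐍(Y) < P := lt_of_le_of_ne inf_le_left fun e => hn (e.ge.trans inf_le_right)
  obtain ⟨n, hn1, hn2⟩ := SetLike.exists_of_lt (lt_inf_normalizer_of_isPGroup hP h3)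
  refine hn2 ⟨hn1.1, h.mem_norm (h2 hn1.1) ?_⟩
  rintro _ ⟨y, hy, rfl⟩
  exact (CO.norm_mem hn1.2 (show y ∈ P ⊓ 𝐍(Y) from ⟨h1 hy, le_normalizer hy⟩)).2

theorem move {C D : Subgroup X} (h1 : Y ≤ C) (h2 : C ≤ K) (hD : IsPGroup 2 D) (h3 : D ≤ C) :
    ∃ c ∈ C, c •ᶜ D ≤ 𝐍(Y) := by
  have := Fact.mk Nat.prime_two
  obtain ⟨S, hS1, hS⟩ := IsSylowIn.exists_ge h.el.isPGroup h1
  obtain ⟨c, hc, h4⟩ := hS.exists_conj_le hD h3
  exact ⟨c, hc, h4.trans (h.le_norm hS.isPGroup hS1 (hS.le.trans h2))⟩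

theorem move1 {C : Subgroup X} (h1 : Y ≤ C) (h2 : C ≤ K) {y g : X} (hy : y ∈ Y) (hg : g ∈ K)
    (h3 : g * y * g⁻¹ ∈ C) : ∃ c ∈ C, c * g * y * (c * g)⁻¹ ∈ Y := by
  obtain ⟨c, hc, h4⟩ := h.move h1 h2
    (Invol.isPGroup_zpowers (Invol.conj_mul_self (h.el y hy) g)) (zpowers_le.2 h3)
  refine ⟨c, hc, h.sc y hy _ (mul_mem (h2 hc) hg) ?_⟩
  have := h4 ⟨_, mem_zpowers _, rfl⟩
  simpa [mul_assoc] using this

theorem fusion {y g : X} (hy : y ∈ Y) (hg : g ∈ K) (h1 : g * y * g⁻¹ ∈ Y) :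
    ∃ n ∈ K ⊓ 𝐍(Y), n * y * n⁻¹ = g * y * g⁻¹ := by
  obtain ⟨c, hc, h2⟩ := h.move (C := K ⊓ 𝐂[g * y * g⁻¹]) (D := g •ᶜ Y)
    (le_inf h.le (h.el.le_cent1 h1)) inf_le_left (h.el.cj g).isPGroup
    (le_inf (by rintro _ ⟨x, hx, rfl⟩; exact mul_mem (mul_mem hg (h.le hx)) (inv_mem hg))
      ((h.el.cj g).le_cent1 (CO.cj_mem hy)))
  rw [← map_conj_mul] at h2
  refine ⟨c * g, ⟨mul_mem hc.1 hg, h.mem_norm (mul_mem hc.1 hg) h2⟩, ?_⟩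
  calc c * g * y * (c * g)⁻¹ = c * (g * y * g⁻¹) * c⁻¹ := by group
    _ = _ := U4.conj_eq_of_mem_cent1 hc.2

theorem mem_of_conj_mem {M : Subgroup X} (hM : M ≤ K) (hN : K ⊓ 𝐍(Y) ≤ M)
    (hC : ∀ z ∈ Y, z ≠ 1 → K ⊓ 𝐂[z] ≤ M) {z g : X} (hz : z ∈ Y) (h1 : z ≠ 1) (hgK : g ∈ K)
    (hg : g * z * g⁻¹ ∈ M) : g ∈ M := by
  obtain ⟨m, hm, h3⟩ := h.move1 ((le_inf h.le le_normalizer).trans hN) hM hz hgK hg
  obtain ⟨n, hn, h4⟩ := h.fusion hz (mul_mem (hM hm) hgK) h3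
  have h5 : n⁻¹ * (m * g) ∈ 𝐂[z] := U4.mem_cent1_of_conj_eq (by
    calc n⁻¹ * (m * g) * z * (n⁻¹ * (m * g))⁻¹ = n⁻¹ * (m * g * z * (m * g)⁻¹) * n := by group
      _ = z := by rw [← h4]; group)
  have h6 := mul_mem (inv_mem hm) (mul_mem (hN hn)
    (hC z hz h1 (mem_inf.2 ⟨mul_mem (inv_mem hn.1) (mul_mem (hM hm) hgK), h5⟩)))
  simpa [mul_assoc] using h6

/-- the dihedral trick -/
theorem one_class {M : Subgroup X} (hM : M ≤ K) (hN : K ⊓ 𝐍(Y) ≤ M)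
    (hC : ∀ z ∈ Y, z ≠ 1 → K ⊓ 𝐂[z] ≤ M) {z w g : X} (hz : z ∈ Y) (hz1 : z ≠ 1) (hw : w ∈ Y)
    (hw1 : w ≠ 1) (hgK : g ∈ K) (hg : g ∉ M) : ∃ s ∈ K, s * w * s⁻¹ = z := by
  have hz2 := h.el z hz
  have hy2 := Invol.conj_mul_self (h.el w hw) g
  set y := g * w * g⁻¹ with hy
  have hyK : y ∈ K := mul_mem (mul_mem hgK (h.le hw)) (inv_mem hgK)
  obtain ⟨k, m, ⟨j, rfl⟩, hkm⟩ := Nat.exists_eq_two_pow_mul_odd (orderOf_pos (z * y)).ne'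
  have hinv := Invol.inverts_mul hz2 hy2
  set c := z * y with hc
  have hcK : c ∈ K := mul_mem (h.le hz) hyK
  have hzi : z⁻¹ = z := Invol.inv_eq hz2
  have hcj := Invol.inverts_of_mem_zpowers hinv (npow_mem_zpowers c j)
  have e1 : z * c ^ (2 * j + 1) = (c ^ j)⁻¹ * y * (c ^ j)⁻¹⁻¹ := by
    have e2 : y = z * c := by rw [hc, ← mul_assoc, hz2, one_mul]
    rw [inv_inv, e2]
    calc z * c ^ (2 * j + 1) = z * c ^ j * z⁻¹ * (z * c) * c ^ j := by group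
      _ = _ := by rw [hcj]
  by_cases hu1 : c ^ (2 * j + 1) = 1
  · refine ⟨(c ^ j)⁻¹ * g, mul_mem (inv_mem (pow_mem hcK j)) hgK, ?_⟩
    rw [hu1, mul_one] at e1
    rw [e1, hy]
    group
  exfalso
  have hy' := Invol.conj_mul_self hy2 (c ^ j)⁻¹
  rw [← e1] at hy'
  have e3 : z * (z * c ^ (2 * j + 1)) = c ^ (2 * j + 1) := by rw [← mul_assoc, hz2, one_mul]
  obtain ⟨Q, hQ1, hQ2⟩ := Invol.exists_sylow_of_isPGroup hz2 hy' (by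
    rw [e3]
    refine IsPGroup.of_card (n := k) ?_
    rw [Nat.card_zpowers, orderOf_pow, hkm, Nat.gcd_mul_left_left,
      Nat.mul_div_cancel _ (by omega)])
  obtain ⟨x, hxK, hx⟩ := h.move (D := (Q : Subgroup X) ⊓ K) h.le le_rfl Q.isPGroup'.to_inf_left
    inf_le_right
  have hx1 : x * z * x⁻¹ ∈ Y := h.sc z hz x hxK (hx ⟨_, ⟨hQ1, h.le hz⟩, rfl⟩)
  have hx2 : x * (z * c ^ (2 * j + 1)) * x⁻¹ ∈ Y := by
    have e4 : x * (z * c ^ (2 * j + 1)) * x⁻¹ = x * (c ^ j)⁻¹ * g * w * (x * (c ^ j)⁻¹ * g)⁻¹ := by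
      rw [e1, hy]; group
    have h1 : x * (z * c ^ (2 * j + 1)) * x⁻¹ ∈ 𝐍(Y) :=
      hx ⟨_, ⟨hQ2, mul_mem (h.le hz) (pow_mem hcK _)⟩, rfl⟩
    rw [e4] at h1 ⊢
    exact h.sc w hw _ (mul_mem (mul_mem hxK (inv_mem (pow_mem hcK j))) hgK) h1
  set u := c ^ (2 * j + 1) with hu
  have hx3 : x * u * x⁻¹ ∈ Y := by
    have := mul_mem hx1 hx2
    rwa [show x * z * x⁻¹ * (x * (z * u) * x⁻¹) = x * (z * (z * u)) * x⁻¹ by group, e3] at this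
  have hu2 : u * u = 1 := by
    have := h.el _ hx3
    rw [show x * u * x⁻¹ * (x * u * x⁻¹) = x * (u * u) * x⁻¹ by group] at this
    simpa using this
  have hui : u⁻¹ = u := Invol.inv_eq hu2
  have hzu : z * u * z⁻¹ = u :=
    (Invol.inverts_of_mem_zpowers hinv (npow_mem_zpowers c _)).trans hui
  have huM : u ∈ M :=
    hC z hz hz1 ⟨pow_mem hcK _, mem_cent1_comm.1 (U4.mem_cent1_of_conj_eq hzu)⟩
  have hxM : x⁻¹ ∈ M := h.mem_of_conj_mem hM hN hC hx3 (U4.conj_ne_one_iff.2 hu1) (inv_mem hxK)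
    (by simpa [mul_assoc] using huM)
  have hyu : y ∈ 𝐂[u] := by
    have e2 : y = z * c := by rw [hc, ← mul_assoc, hz2, one_mul]
    rw [e2]
    exact mul_mem (U4.mem_cent1_of_conj_eq hzu)
      (mem_cent1.2 ((Commute.refl c).pow_right _).eq)
  have hyM : x * y * x⁻¹ ∈ M := hC _ hx3 (U4.conj_ne_one_iff.2 hu1)
    (mem_inf.2 ⟨mul_mem (mul_mem hxK hyK) (inv_mem hxK), by
      rw [cent1_conj]
      exact U4.conj_mem_conj_iff.2 hyu⟩)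
  have hyM' : y ∈ M := by
    have := mul_mem (mul_mem hxM hyM) (inv_mem hxM)
    simpa [mul_assoc] using this
  exact hg (h.mem_of_conj_mem hM hN hC hw hw1 hgK hyM')

theorem not_trans (hU : ∀ y ∈ Y, y ≠ 1 → ∃ n ∈ K ⊓ 𝐍(Y), n * y * n⁻¹ ≠ y) {w : X} (hw : w ∈ Y)
    (hw1 : w ≠ 1) (ht : ∀ z ∈ Y, z ≠ 1 → ∃ s ∈ K, s * w * s⁻¹ = z) : False := by
  have h1 := h.noK _ le_rfl ⊥ bot_le fun y hy hy1 y2 hy2 hy21 => by
    obtain ⟨s, hs, rfl⟩ := ht y hy (by simpa using hy1)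
    obtain ⟨t, ht, rfl⟩ := ht y2 hy2 (by simpa using hy21)
    obtain ⟨n, hn, e⟩ := h.fusion hw hs hy
    obtain ⟨m, hm, e'⟩ := h.fusion hw ht hy2
    refine ⟨m * n⁻¹, mul_mem hm (inv_mem hn), 1, one_mem _, ?_⟩
    rw [← e, ← e']
    group
  rw [relIndex_bot_left] at h1
  obtain ⟨n, hn, hne⟩ := hU w hw hw1
  have h2 := card_le_of_le (V_le hw (CO.norm_mem hn.2 hw))
  rw [(h.el.four hw (CO.norm_mem hn.2 hw) hw1 (U4.conj_ne_one_iff.2 hw1) hne.symm).card_V] at h2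
  omega

theorem three_le (hU : ∀ y ∈ Y, y ≠ 1 → ∃ n ∈ K ⊓ 𝐍(Y), n * y * n⁻¹ ≠ y) {w : X} (hw : w ∈ Y)
    (hw1 : w ≠ 1) : ∃ k, Nat.card Y = 2 ^ k ∧ 3 ≤ k := by
  have := Fact.mk Nat.prime_two
  obtain ⟨k, hk⟩ := h.el.isPGroup.exists_card_eq
  refine ⟨k, hk, ?_⟩
  obtain ⟨n, hn, hne⟩ := hU w hw hw1
  have hw' := CO.norm_mem hn.2 hw
  have hw1' : n * w * n⁻¹ ≠ 1 := U4.conj_ne_one_iff.2 hw1
  have h2 := card_le_of_le (V_le hw hw')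
  rw [(h.el.four hw hw' hw1 hw1' hne.symm).card_V, hk] at h2
  by_contra h3
  have h4 : k = 0 ∨ k = 1 ∨ k = 2 := by omega
  rcases h4 with rfl | rfl | rfl
  · omega
  · omega
  refine h.not_trans hU hw hw1 fun z hz hz1 => ?_
  obtain ⟨m, hm, hme⟩ := hU z hz hz1
  have f := fun {x : X} (hx : x ∈ Y) => CO.four_mem h.el hk hw hw1 hw' hw1' hne hx
  rcases f hz with e | e | e | e
  · exact absurd e hz1
  · exact ⟨1, one_mem _, by simp [e]⟩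
  · exact ⟨n, hn.1, e.symm⟩
  rcases f (CO.norm_mem hm.2 hz) with e' | e' | e' | e'
  · exact absurd e' (U4.conj_ne_one_iff.2 hz1)
  · exact ⟨m⁻¹, inv_mem hm.1, by rw [← e']; group⟩
  · refine ⟨m⁻¹ * n, mul_mem (inv_mem hm.1) hn.1, ?_⟩
    calc m⁻¹ * n * w * (m⁻¹ * n)⁻¹ = m⁻¹ * (n * w * n⁻¹) * m := by group
      _ = z := by rw [← e']; group
  · exact absurd (e'.trans e.symm) hme

omit h in
theorem le_Od' {O L : Subgroup X} (h1 : O ≤ K) (h2 : Odd (Nat.card O)) (h3 : L ≤ K)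
    (h4 : L ≤ 𝐍(O)) (h5 : K ≤ Od K ⊔ L) : O ≤ Od K :=
  le_sup_left.trans (le_Od (sup_le h1 (Od_le K)) (h5.trans (sup_le
    (le_sup_right.trans le_normalizer) (H1.le_normalizer_sup h4 (h3.trans (le_norm_Od K)))))
    (SE.odd_sup (h1.trans (le_norm_Od K)) h2 (odd_Od K)))

theorem bal {y z : X} (hy : y ∈ Y) (hz : z ∈ Y)
    (ih : K ⊓ 𝐂[z] ≤ Od (K ⊓ 𝐂[z]) ⊔ (K ⊓ 𝐂[z] ⊓ 𝐍(Y))) :
    Od (K ⊓ 𝐂[y]) ⊓ 𝐂[z] ≤ Od (K ⊓ 𝐂[z]) := by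
  have hYy : Y ≤ K ⊓ 𝐂[y] := le_inf h.le (h.el.le_cent1 hy)
  have hYz : Y ≤ K ⊓ 𝐂[z] := le_inf h.le (h.el.le_cent1 hz)
  have hD : Od (K ⊓ 𝐂[y]) ⊓ 𝐂[z] ≤ K ⊓ 𝐂[z] :=
    inf_le_inf_right _ ((Od_le _).trans inf_le_left)
  have hDo : Odd (Nat.card (Od (K ⊓ 𝐂[y]) ⊓ 𝐂[z] : Subgroup X)) :=
    (odd_Od _).of_dvd_nat (card_dvd_of_le inf_le_left)
  have hYD : Y ≤ 𝐍(Od (K ⊓ 𝐂[y]) ⊓ 𝐂[z]) := H1.le_normalizer_inf (hYy.trans (le_norm_Od _))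
    ((h.el.le_cent1 hz).trans le_normalizer)
  have h1 : Od (K ⊓ 𝐂(Y)) ≤ Od (K ⊓ 𝐂[z]) :=
    le_Od' ((Od_le _).trans (inf_le_inf_left _ (U4.cent_le_cent1 hz))) (odd_Od _) inf_le_left
      (le_trans (H1.le_normalizer_inf ((inf_le_left.trans inf_le_left).trans le_normalizer)
        (inf_le_right.trans (Cop.normalizer_le_normalizer_centralizer Y))) (norm_le_norm_Od _)) ih
  rw [← Cop.commutator_sup_centralizer hYD (h.el.coprime hDo) (Or.inl h.el.solv)]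
  refine sup_le (commutator_le.2 fun d hd v hv => ?_) (le_trans ?_ h1)
  · have h2 : Odd (orderOf ⁅d, v⁆) := by
      have h3 : ⁅d, v⁆ ∈ Od (K ⊓ 𝐂[y]) ⊓ 𝐂[z] := by
        have := mul_mem hd (CO.norm_mem (hYD hv) (inv_mem hd))
        simpa only [commutatorElement_def, mul_assoc] using this
      exact odd_of_mem_Od h3.1
    obtain ⟨o, ho, n, hn, rfl⟩ := mem_sup_norm (inf_le_left.trans (le_norm_Od _)) (ih (hD hd))
    have h3 : n * v * n⁻¹ ∈ Y := CO.norm_mem hn.2 hv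
    have h4 : n * v * n⁻¹ * v⁻¹ ∈ Y := mul_mem h3 (inv_mem hv)
    have h5 : o * (n * v * n⁻¹ * o⁻¹ * (n * v * n⁻¹)⁻¹) ∈ Od (K ⊓ 𝐂[z]) :=
      mul_mem ho (CO.norm_mem (le_norm_Od _ (hYz h3)) (inv_mem ho))
    have h6 : ⁅o * n, v⁆ = o * (n * v * n⁻¹ * o⁻¹ * (n * v * n⁻¹)⁻¹) * (n * v * n⁻¹ * v⁻¹) := by
      simp only [commutatorElement_def]; group
    refine SE.mem_of_sq_mem h2 ?_
    rw [h6]
    generalize o * (n * v * n⁻¹ * o⁻¹ * (n * v * n⁻¹)⁻¹) = p at h5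
    generalize n * v * n⁻¹ * v⁻¹ = q at h4
    have h7 := mul_mem h5 (CO.norm_mem (le_norm_Od _ (hYz h4)) h5)
    rw [h.el.inv h4] at h7
    simpa only [mul_assoc] using h7
  · refine le_trans ?_ (Od_inf_le (M := K ⊓ 𝐂[y]) (inf_le_inf_left _ (U4.cent_le_cent1 hy)))
    exact le_inf (inf_le_left.trans inf_le_left)
      (le_inf (inf_le_left.trans (hD.trans inf_le_left)) inf_le_right)

/-- the signalizer functor -/
def sf {k : ℕ} (hk : Nat.card Y = 2 ^ k) (h3 : 3 ≤ k)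
    (ih : ∀ z ∈ Y, z ≠ 1 → K ⊓ 𝐂[z] ≤ Od (K ⊓ 𝐂[z]) ⊔ (K ⊓ 𝐂[z] ⊓ 𝐍(Y))) : Sig.SF X where
  r := 2
  k := k
  A := Y
  θ := fun z => Od (K ⊓ 𝐂[z])
  prime := Nat.prime_two
  elem := h.el.elem
  card := hk
  three_le := h3
  le_cent := fun _ _ _ => (Od_le _).trans inf_le_right
  norm := fun _ ha _ => (le_inf h.le (h.el.le_cent1 ha)).trans (le_norm_Od _)
  cop := fun _ _ _ => Nat.coprime_two_right.2 (odd_Od _)
  solv := fun _ _ _ => solvable_Od _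
  bal := fun _ ha _ z hz hz1 => h.bal ha hz (ih z hz hz1)

theorem caseA (hU : ∀ y ∈ Y, y ≠ 1 → ∃ n ∈ K ⊓ 𝐍(Y), n * y * n⁻¹ ≠ y)
    (ih : ∀ z ∈ Y, z ≠ 1 → K ⊓ 𝐂[z] ≤ Od (K ⊓ 𝐂[z]) ⊔ (K ⊓ 𝐂[z] ⊓ 𝐍(Y)))
    {w : X} (hw : w ∈ Y) (hw1 : w ≠ 1) : K ≤ Od K ⊔ (K ⊓ 𝐍(Y)) := by
  obtain ⟨k, hk, h3⟩ := h.three_le hU hw hw1
  obtain ⟨H, hH, hle⟩ := (h.sf hk h3 ih).complete
  let W : Subgroup X := ⨆ z ∈ {z | z ∈ Y ∧ z ≠ 1}, Od (K ⊓ 𝐂[z])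
  have hWH : W ≤ H := iSup₂_le fun z hz => hle z hz
  have hWK : W ≤ K := iSup₂_le fun z _ => (Od_le _).trans inf_le_left
  have hUW : ∀ z ∈ Y, z ≠ 1 → Od (K ⊓ 𝐂[z]) ≤ W := fun z hz h1 =>
    le_iSup₂_of_le (f := fun z (_ : z ∈ {z | z ∈ Y ∧ z ≠ 1}) => Od (K ⊓ 𝐂[z])) z ⟨hz, h1⟩ le_rfl
  have hWo : Odd (Nat.card W) := (Nat.coprime_two_right.1 hH.cop).of_dvd_nat (card_dvd_of_le hWH)
  have hNW : K ⊓ 𝐍(Y) ≤ 𝐍(W) := fun n hn => by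
    have h1 : n •ᶜ W ≤ W := by
      rw [map_le_iff_le_comap]
      refine iSup₂_le fun z hz => ?_
      rw [← map_le_iff_le_comap]
      have e : n •ᶜ Od (K ⊓ 𝐂[z]) = Od (K ⊓ 𝐂[n * z * n⁻¹]) := by
        rw [cent1_conj, ← Od_conj, map_conj_inf, CO.cj_eq (le_normalizer hn.1)]
      exact e.le.trans (hUW _ (CO.norm_mem hn.2 hz.1) (U4.conj_ne_one_iff.2 hz.2))
    exact CO.mem_norm_of_cj_le h1
  by_cases hM : K ≤ W ⊔ (K ⊓ 𝐍(Y))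
  · exact hM.trans (sup_le_sup_right (le_Od hWK (hM.trans (sup_le le_normalizer hNW)) hWo) _)
  exfalso
  obtain ⟨g, hg, hgM⟩ := SetLike.not_le_iff_exists.1 hM
  refine h.not_trans hU hw hw1 fun z hz hz1 => h.one_class (M := W ⊔ (K ⊓ 𝐍(Y)))
    (sup_le hWK inf_le_left) le_sup_right (fun y hy hy1 => (ih y hy hy1).trans
      (sup_le_sup (hUW y hy hy1) (inf_le_inf_right _ inf_le_left))) hz hz1 hw hw1 hg hgM

theorem zstar : K ≤ Od K ⊔ (K ⊓ 𝐂(Y ⊓ 𝐂(K ⊓ 𝐍(Y)))) := fun g hg => by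
  have hzs : ∀ w ∈ Y ⊓ 𝐂(K ⊓ 𝐍(Y)), ⁅g, w⁆ ∈ Od K := by
    intro w hw
    by_cases hw1 : w = 1
    · rw [hw1, commutatorElement_one_right]
      exact one_mem _
    refine RC.zstar_amb (h.le hw.1) (h.el.ord hw.1 hw1) (fun k hk hc => ?_) hg
    obtain ⟨c, hc1, h2⟩ := h.move1 (C := K ⊓ 𝐂[w]) (le_inf h.le (h.el.le_cent1 hw.1)) inf_le_left
      hw.1 hk (mem_inf.2 ⟨mul_mem (mul_mem hk (h.le hw.1)) (inv_mem hk), mem_cent1'.2 hc⟩)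
    obtain ⟨n, hn, e⟩ := h.fusion hw.1 (mul_mem hc1.1 hk) h2
    rw [hw.2 n hn, mul_inv_cancel_right] at e
    calc k * w * k⁻¹ = c⁻¹ * (c * k * w * (c * k)⁻¹) * c⁻¹⁻¹ := by group
      _ = w := by rw [← e]; exact U4.conj_eq_of_mem_cent1 (inv_mem hc1.2)
  obtain ⟨n, hn, c, hc, rfl⟩ := Cop.exists_mul_centralizer_of_commutator_mem
    (A := Y ⊓ 𝐂(K ⊓ 𝐍(Y))) (N := Od K) ((inf_le_left.trans h.le).trans (le_norm_Od K))
    ((h.el.mono inf_le_left).coprime (odd_Od K)) (Or.inr (solvable_Od K)) hzs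
  exact mul_mem_sup hn (mem_inf.2 ⟨(mul_mem_cancel_left (Od_le K hn)).1 hg, hc⟩)

/-- Passage to the quotient by a central subgroup of `Y`. -/
theorem quot {Q : Type*} [Group Q] [Finite Q] (f : K →* Q) (hf : Function.Surjective f)
    {U : Subgroup X} (hU : U ≤ Y) (hC : K ≤ 𝐂(U)) (hker : ∀ x : K, f x = 1 ↔ (x : X) ∈ U) :
    SCK ⊤ ((Y.subgroupOf K).map f) ∧
      ∀ g : K, f g ∈ 𝐍((Y.subgroupOf K).map f) → (g : X) ∈ 𝐍(Y) := by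
  have heq : ∀ x y : K, f x = f y ↔ (x : X)⁻¹ * y ∈ U := fun x y => by
    rw [← inv_mul_eq_one, ← map_inv, ← map_mul, hker]; rfl
  have hmem : ∀ x : K, f x ∈ (Y.subgroupOf K).map f ↔ (x : X) ∈ Y := fun x => by
    constructor
    · rintro ⟨y, hy, e⟩
      have := mul_mem (show (y : X) ∈ Y from hy) (hU ((heq y x).1 e))
      simpa using this
    · exact fun hx => ⟨x, hx, rfl⟩
  have hnorm : ∀ g : K, f g ∈ 𝐍((Y.subgroupOf K).map f) → (g : X) ∈ 𝐍(Y) := fun g hg => by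
    refine mem_normalizer_fintype fun y hy => ?_
    have := CO.norm_mem hg ((hmem ⟨y, h.le hy⟩).2 hy)
    rw [← map_inv, ← map_mul, ← map_mul, hmem] at this
    exact this
  refine ⟨⟨?_, le_top, ?_, ?_⟩, hnorm⟩
  · rintro _ ⟨y, hy, rfl⟩
    rw [← map_mul, show y * y = 1 from Subtype.ext (h.el _ hy), map_one]
  · rintro _ ⟨y, hy, rfl⟩ q - hq
    obtain ⟨g, rfl⟩ := hf q
    rw [← map_inv, ← map_mul, ← map_mul] at hq ⊢
    exact (hmem _).2 (h.sc y hy g g.2 (hnorm _ hq))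
  intro L' hL' Y0' hY0' tr'
  have hL : (L'.comap f).map K.subtype ≤ K ⊓ 𝐍(Y) := by
    rintro _ ⟨l, hl, rfl⟩
    exact ⟨l.2, hnorm l (hL' hl).2⟩
  have hY0 : (Y0'.comap f).map K.subtype ≤ Y := by
    rintro _ ⟨y, hy, rfl⟩
    exact (hmem y).1 (hY0' hy).1
  have hfix : ∀ l : K, f l ∈ L' → ∀ y : K, f y ∈ Y0' → f (l * y * l⁻¹) = f y := by
    intro l hl y hy
    rw [map_mul, map_mul, map_inv, mem_cent.1 (hY0' hy).2 _ hl, mul_inv_cancel_right]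
  have hLY0 : (L'.comap f).map K.subtype ≤ 𝐍((Y0'.comap f).map K.subtype) := by
    rintro _ ⟨l, hl, rfl⟩
    refine mem_normalizer_fintype ?_
    rintro _ ⟨y, hy, rfl⟩
    exact ⟨l * y * l⁻¹, show f _ ∈ Y0' from hfix l hl y hy ▸ hy, rfl⟩
  have hm0 : ∀ y : K, (y : X) ∈ (Y0'.comap f).map K.subtype ↔ f y ∈ Y0' := fun y =>
    mem_map_iff_mem K.subtype_injective
  have h1 := h.noK (pResidualOf 2 ((L'.comap f).map K.subtype))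
    ((H1.pResidualOf_le _).trans hL) ((Y0'.comap f).map K.subtype)
    (le_inf hY0 (CO.lcc (H1.pResidualOf_le_iff.2 ?_)))
    (odd_trans h.el hY0 (hL.trans inf_le_right) hLY0 ?_)
  · rw [← relIndex_comap]
    rwa [← relIndex_map_map_of_injective _ _ K.subtype_injective, subgroupOf_map_subtype,
      inf_eq_left.2 h.le]
  · rintro _ ⟨l, hl, rfl⟩ ho
    refine SE.mem_of_sq_mem (Nat.coprime_two_right.1 ho) (mem_cent.2 ?_)
    rintro _ ⟨y, hy, rfl⟩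
    have h2 : (y : X)⁻¹ * (l * y * (l : X)⁻¹) ∈ U := (heq _ _).1 (hfix l hl y hy).symm
    have h3 := mem_cent.1 (hC l.2) _ h2
    have h4 := h.el _ (hU h2)
    change (y : X) * (l * l) = l * l * y
    generalize (l : X) = l, (y : X) = y at h3 h4
    calc y * (l * l) = y * (y⁻¹ * (l * y * l⁻¹) * (y⁻¹ * (l * y * l⁻¹))) * (l * l) := by
          rw [h4, mul_one]
      _ = l * y * l⁻¹ * (y⁻¹ * (l * y * l⁻¹) * l) * l := by group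
      _ = _ := by rw [h3]; group
  · intro y hy hy0 y2 hy2 hy20
    obtain ⟨k', hk', v', hv', e⟩ := tr' _ ((hmem ⟨y, h.le hy⟩).2 hy)
      (fun e => hy0 ((hm0 ⟨y, h.le hy⟩).2 e)) _ ((hmem ⟨y2, h.le hy2⟩).2 hy2)
      (fun e => hy20 ((hm0 ⟨y2, h.le hy2⟩).2 e))
    obtain ⟨k, rfl⟩ := hf k'
    refine ⟨k, ⟨k, hk', rfl⟩, ((k * ⟨y, h.le hy⟩ * k⁻¹)⁻¹ * ⟨y2, h.le hy2⟩ : K), (hm0 _).2 ?_, ?_⟩
    · rw [map_mul, e, map_inv, map_mul, map_mul, map_inv, inv_mul_cancel_left]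
      exact hv'
    · simp [mul_assoc]

theorem of_quot {Q : Type*} [Group Q] [Finite Q] (f : K →* Q) (hf : Function.Surjective f)
    {U : Subgroup X} (hU : U ≤ Y) (hC : K ≤ 𝐂(U)) (hker : ∀ x : K, f x = 1 ↔ (x : X) ∈ U)
    {Y' : Subgroup Q} (hn : ∀ g : K, f g ∈ 𝐍(Y') → (g : X) ∈ 𝐍(Y))
    (ih : (⊤ : Subgroup Q) ≤ Od ⊤ ⊔ (⊤ ⊓ 𝐍(Y'))) : K ≤ Od K ⊔ (K ⊓ 𝐍(Y)) := fun g hg => by
  obtain ⟨o', ho', n', hn', e⟩ := mem_sup_norm (inf_le_left.trans (le_norm_Od _))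
    (ih (mem_top (f ⟨g, hg⟩)))
  obtain ⟨n, rfl⟩ := hf n'
  have hnN : (n : X) ∈ K ⊓ 𝐍(Y) := ⟨n.2, hn n hn'.2⟩
  set o : K := ⟨g, hg⟩ * n⁻¹ with ho
  have h1 : f o = o' := by rw [ho, map_mul, map_inv, ← e, mul_inv_cancel_right]
  obtain ⟨j, hj⟩ := odd_of_mem_Od ho'
  have h2 : ((o ^ (2 * j + 1) : K) : X) ∈ U := by
    rw [← hker, map_pow, h1, ← hj, pow_orderOf_eq_one]
  set v : K := o ^ (2 * j + 1) with hv
  have hv2 : v * v = 1 := Subtype.ext (h.el _ (hU h2))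
  have hc : Commute o v := (Commute.refl o).pow_right _
  have h3 : (o * v) ^ (2 * j + 1) = 1 := by
    rw [hc.mul_pow, ← hv, pow_succ, pow_mul, sq, hv2, one_pow, one_mul, hv2]
  have hW : ((Od (⊤ : Subgroup Q)).comap f).Normal := Normal.comap inferInstance f
  have h4 : o * v ∈ (Od (⊤ : Subgroup Q)).comap f := by
    rw [mem_comap, map_mul, (hker v).2 h2, mul_one, h1]
    exact ho'
  have h5 : zpowers (o * v) ≤ Od ((Od (⊤ : Subgroup Q)).comap f) := by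
    refine HI.le_Od_of_cent (zpowers_le.2 h4) (fun k hk => Odd.of_dvd_nat ⟨j, rfl⟩
      ((orderOf_dvd_of_mem_zpowers hk).trans (orderOf_dvd_of_pow_eq_one h3))) fun k _ y hy hy2 => ?_
    have h6 : f y = 1 := Invol.eq_one_of_odd_of_mem (hy2.map f) ⟨y, mem_zpowers y, rfl⟩
      (odd_of_mem_Od hy)
    exact Subtype.ext (mem_cent.1 (hC k.2) y ((hker y).1 h6))
  have h6 : ((o * v : K) : X) ∈ Od K := mem_Od_top.1
    (Od_le_Od le_top le_normalizer_of_normal (h5 (mem_zpowers _)))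
  have h7 : g = ((o * v : K) : X) * ((v * n : K) : X) := by
    rw [← coe_mul, mul_assoc, ← mul_assoc v, hv2, one_mul, ho, inv_mul_cancel_right]
  rw [h7]
  exact mul_mem_sup h6 (mul_mem (show (v : X) ∈ K ⊓ 𝐍(Y) from
    ⟨v.2, le_normalizer (hU h2)⟩) hnN)

end

theorem fac_aux (n : ℕ) : ∀ {X : Type u} [Group X] [Finite X] {K Y : Subgroup X},
    Nat.card K = n → SCK K Y → K ≤ Od K ⊔ (K ⊓ 𝐍(Y)) := by
  induction n using Nat.strong_induction_on with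
  | _ n ih =>
  intro X _ _ K Y hn h
  by_cases h0 : Y = ⊥
  · refine le_trans (le_inf le_rfl ?_) le_sup_right
    rw [h0]
    exact le_normalizer_of_normal
  obtain ⟨w, hw, hw1⟩ := U4.exists_ne_one h0
  have sub : ∀ K' : Subgroup X, Y ≤ K' → K' < K → K' ≤ Od K' ⊔ (K' ⊓ 𝐍(Y)) := fun K' h1 h2 =>
    ih _ (hn ▸ card_lt_card_of_lt h2) rfl (h.mono h1 h2.le)
  by_cases hU : Y ⊓ 𝐂(K ⊓ 𝐍(Y)) = ⊥
  · refine h.caseA (fun y hy hy1 => ?_) (fun z hz hz1 => sub _ (le_inf h.le (h.el.le_cent1 hz))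
      (lt_of_le_of_ne inf_le_left fun e => hz1 ?_)) hw hw1
    · by_contra! hc
      apply hy1
      rw [← mem_bot, ← hU]
      exact ⟨hy, fun m hm => mul_inv_eq_iff_eq_mul.1 (hc m hm)⟩
    rw [← mem_bot, ← hU]
    exact ⟨hz, fun m hm => mem_cent1.1 ((e.ge.trans inf_le_right) hm.1)⟩
  set U := Y ⊓ 𝐂(K ⊓ 𝐍(Y)) with hUd
  by_cases hC : K ≤ 𝐂(U)
  · have hN : (U.subgroupOf K).Normal := (normal_subgroupOf_iff_le_normalizer
      (inf_le_left.trans h.le)).2 (hC.trans (U4.cent_le_norm U))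
    have hker : ∀ x : K, QuotientGroup.mk' (U.subgroupOf K) x = 1 ↔ (x : X) ∈ U := fun x => by
      rw [QuotientGroup.mk'_apply, QuotientGroup.eq_one_iff, mem_subgroupOf]
    obtain ⟨h1, h2⟩ := h.quot (QuotientGroup.mk' (U.subgroupOf K))
      (QuotientGroup.mk'_surjective _) inf_le_left hC hker
    refine h.of_quot _ (QuotientGroup.mk'_surjective _) inf_le_left hC hker h2
      (ih _ ?_ rfl h1)
    rw [card_top, ← hn, card_eq_card_quotient_mul_card_subgroup (U.subgroupOf K),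
      Nat.card_congr (subgroupOfEquivOfLe (inf_le_left.trans h.le)).toEquiv]
    exact lt_mul_of_one_lt_right Nat.card_pos (one_lt_card_iff_ne_bot _ |>.2 hU)
  · have h1 := sub (K ⊓ 𝐂(U)) (le_inf h.le (h.el.le_cent' le_rfl inf_le_left))
      (lt_of_le_of_ne inf_le_left fun e => hC (e.ge.trans inf_le_right))
    have h2 : Od (K ⊓ 𝐂(U)) ≤ Od K := le_Od' ((Od_le _).trans inf_le_left) (odd_Od _) inf_le_left
      (le_norm_Od _) h.zstar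
    exact h.zstar.trans (sup_le le_sup_left (h1.trans
      (sup_le_sup h2 (inf_le_inf_right _ inf_le_left))))

/-- (SC) -/
theorem fac {X : Type*} [Group X] [Finite X] {K Y : Subgroup X}
    (h : SCK K Y) : K ≤ Od K ⊔ (K ⊓ 𝐍(Y)) := fac_aux _ rfl h

end SCK

end CfsgLib.CP
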