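import Cfsg.Agent.Lib.CP.B0

set_option autoImplicit false
set_option linter.unusedSectionVars false
set_option linter.unusedVariables false

namespace CfsgLib.CP

open Subgroup Cfsg CfsgLib.FT CfsgLib.FT.BGN CfsgLib.GW CfsgLib.Wal
open CfsgLib.FT.U4 (mem_cent1 mem_cent1' mem_cent mem_cent1_comm cent1_conj conj_mem_conj_iff
  orderOf_conj conj_le_iff le_conj_iff conj_inj conj_eq_of_mem_cent1 mem_cent1_of_conj_eq)
open scoped commutatorElement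

variable {X : Type*} [Group X] [Finite X] {G T : Subgroup X} [PD T] {a : X}

variable {W H A0 : Subgroup X} {u d z0 : X}

theorem cj_inf_cent {s : X} (hs : s ∈ 𝐍(T)) (W : Subgroup X) :
    T ⊓ 𝐂(s •ᶜ W) = s •ᶜ (T ⊓ 𝐂(W)) := by
  rw [map_conj_inf, centralizer_map_conj, cj_eq hs]

theorem cj_inf_norm {s : X} (hs : s ∈ 𝐍(T)) (W : Subgroup X) :
    T ⊓ 𝐍(s •ᶜ W) = s •ᶜ (T ⊓ 𝐍(W)) := by
  rw [map_conj_inf, normalizer_map_conj, cj_eq hs]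

theorem cj_inf_cent1 {s : X} (hs : s ∈ 𝐍(T)) (u : X) :
    T ⊓ 𝐂[s * u * s⁻¹] = s •ᶜ (T ⊓ 𝐂[u]) := by
  rw [map_conj_inf, cent1_conj, cj_eq hs]

theorem cj_cent1 {A : Subgroup X} {x : X} (h : A ≤ 𝐂[x]) (g : X) : g •ᶜ A ≤ 𝐂[g * x * g⁻¹] := by
  rw [cent1_conj]; exact map_mono h

theorem VxD.cj (h : VxD T W u H A0 d z0) {s : X} (hs : s ∈ 𝐍(T)) :
    VxD T (s •ᶜ W) (s * u * s⁻¹) (s •ᶜ H) (s •ᶜ A0) (s * d * s⁻¹) (s * z0 * s⁻¹) where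
  WT := by have := map_mono (f := (MulAut.conj s).toMonoidHom) h.WT; rwa [cj_eq hs] at this
  elW := h.elW.cj s
  cardW := by rw [CfsgLib.card_map_conj, h.cardW]
  uW := cj_mem h.uW
  u1 := U4.conj_ne_one_iff.2 h.u1
  Nu := by rw [cj_inf_norm hs]; exact cj_cent1 h.Nu s
  HE := by rw [cj_inf_cent hs]; exact cj_norm h.HE s
  HW := cj_norm h.HW s
  NH := by rw [cj_inf_norm hs]; exact map_mono h.NH
  two := fun D h1 h2 h3 => by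
    rw [centralizer_map_conj] at h3
    have := le_conj_iff.2 (h.two _ (h1.map _) (le_conj_iff.1 h2) (le_conj_iff.1 h3))
    rwa [cj_eq hs] at this
  dH := cj_mem h.dH
  du := by rw [cent1_conj, conj_mem_conj_iff]; exact h.du
  AN := by rw [cj_inf_norm hs]; exact map_mono h.AN
  elA := h.elA.cj s
  cardA := by rw [CfsgLib.card_map_conj]; exact h.cardA
  AW := by rw [centralizer_map_conj, U4.conj_le_conj_iff]; exact h.AW
  zZ := norm_mem (norm_le_norm_Zt T hs) h.zZ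
  Hz := by rw [_root_.conj_mul]; exact cj_cent1 h.Hz s
  max := fun D hD => by rw [cj_inf_cent hs, WB_cj, CfsgLib.card_map_conj]; exact h.max D hD
  mx := by
    obtain ⟨X0, h1, h2, h3⟩ := h.mx
    refine ⟨s •ᶜ X0, h1.cj s, ?_, ?_⟩
    · rw [cj_inf_cent hs]; exact map_mono h2
    · rw [centralizer_map_conj, ← map_conj_inf]; exact map_mono h3

theorem Vx.cj (h : Vx T W u) {s : X} (hs : s ∈ 𝐍(T)) : Vx T (s •ᶜ W) (s * u * s⁻¹) := by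
  obtain ⟨H, A0, d, z0, h⟩ := h
  exact ⟨_, _, _, _, h.cj hs⟩

theorem LC.cj (h : LC T W u) {s : X} (hs : s ∈ 𝐍(T)) : LC T (s •ᶜ W) (s * u * s⁻¹) := by
  intro n hn hu hc
  rw [cent1_conj, mem_map_conj_iff] at hu
  rw [normalizer_map_conj, mem_map_conj_iff]
  refine h _ (conj_mem_of_mem_normalizer' hs hn) hu ?_
  rw [centralizer_map_conj, le_conj_iff, ← map_conj_mul, ← map_conj_mul] at hc
  exact hc

theorem four_eq_V (hW : El W) (h4 : Nat.card W = 4) (hu : u ∈ W) (h1 : u ≠ 1) {v : X} (hv : v ∈ W)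
    (hv1 : v ≠ 1) (hvu : v ≠ u) : W = V u v :=
  (eq_of_le_of_card_ge (V_le hu hv) (by rw [h4, (hW.four hu hv h1 hv1 hvu.symm).card_V])).symm

/-- The four elements of `W`. -/
theorem four_mem (hW : El W) (h4 : Nat.card W = 4) (hu : u ∈ W) (h1 : u ≠ 1) {v : X} (hv : v ∈ W)
    (hv1 : v ≠ 1) (hvu : v ≠ u) {w : X} (hw : w ∈ W) : w = 1 ∨ w = u ∨ w = v ∨ w = v * u := by
  rw [hW.comm hv hu]
  rw [four_eq_V hW h4 hu h1 hv hv1 hvu] at hw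
  exact (hW.four hu hv h1 hv1 hvu.symm).mem_V.1 hw

theorem four_exists (h4 : Nat.card W = 4) (u : X) : ∃ v ∈ W, v ≠ 1 ∧ v ≠ u := by
  classical
  by_contra hn
  push Not at hn
  have h1 : (W : Set X) ⊆ {1, u} := fun x hx => by
    by_cases h : x = 1
    · exact Or.inl h
    · exact Or.inr (hn x hx h)
  have h2 := Set.ncard_le_ncard h1
  have h3 : ({1, u} : Set X).ncard ≤ 2 := (Set.ncard_insert_le _ _).trans (by simp)
  rw [← Nat.card_coe_set_eq] at h2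
  change Nat.card W ≤ _ at h2
  omega

theorem cent_four (hW : El W) (h4 : Nat.card W = 4) (hu : u ∈ W) (h1 : u ≠ 1) {v : X} (hv : v ∈ W)
    (hv1 : v ≠ 1) (hvu : v ≠ u) : 𝐂(W) = 𝐂[u] ⊓ 𝐂[v] := by
  rw [four_eq_V hW h4 hu h1 hv hv1 hvu, cent_V]

/-- An element normalizing `W` and fixing `c ∈ W#` fixes `v ∈ W` or sends it to `v c`. -/
theorem four_conj (hW : El W) (h4 : Nat.card W = 4) {c : X} (hc : c ∈ W) (h1 : c ≠ 1) {n : X}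
    (hn : n ∈ 𝐍(W)) (hnc : n ∈ 𝐂[c]) {v : X} (hv : v ∈ W) :
    n * v * n⁻¹ = v ∨ n * v * n⁻¹ = v * c := by
  by_cases hv1 : v = 1
  · left; simp [hv1]
  by_cases hvc : v = c
  · left; rw [hvc]; exact conj_eq_of_mem_cent1 hnc
  rcases four_mem hW h4 hc h1 hv hv1 hvc (norm_mem hn hv) with h | h | h | h
  · exact absurd h (U4.conj_ne_one_iff.2 hv1)
  · rw [← conj_eq_of_mem_cent1 hnc] at h
    exact absurd (by simpa using h) hvc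
  · exact Or.inl h
  · exact Or.inr h

/-- ... and if it does not centralize `W`, its fixed points on `W` are `1, c`. -/
theorem four_conj' (hW : El W) (h4 : Nat.card W = 4) {c : X} (hc : c ∈ W) (h1 : c ≠ 1) {n : X}
    (hn : n ∈ 𝐍(W)) (hnc : n ∈ 𝐂[c]) (hnW : n ∉ 𝐂(W)) {v : X} (hv : v ∈ W) (hv1 : v ≠ 1)
    (hvc : v ≠ c) : n * v * n⁻¹ = v * c := by
  refine (four_conj hW h4 hc h1 hn hnc hv).resolve_left fun h => hnW ?_
  rw [cent_four hW h4 hc h1 hv hv1 hvc]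
  exact ⟨hnc, mem_cent1_of_conj_eq h⟩

theorem four_not_cent (hW : El W) (h4 : Nat.card W = 4) {c : X} (hc : c ∈ W) (h1 : c ≠ 1) {n : X}
    (hnc : n ∈ 𝐂[c]) (hnW : n ∉ 𝐂(W)) {v : X} (hv : v ∈ W) (hv1 : v ≠ 1)
    (hvc : v ≠ c) : n ∉ 𝐂[v] := fun h => hnW (by
  rw [cent_four hW h4 hc h1 hv hv1 hvc]; exact ⟨hnc, h⟩)

theorem four_mul_mem (hW : El W) (h4 : Nat.card W = 4) {c : X} (hc : c ∈ W) (h1 : c ≠ 1)
    {n m : X} (hn : n ∈ 𝐍(W)) (hnc : n ∈ 𝐂[c]) (hnW : n ∉ 𝐂(W)) (hm : m ∈ 𝐍(W))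
    (hmc : m ∈ 𝐂[c]) (hmW : m ∉ 𝐂(W)) : n * m ∈ 𝐂(W) := by
  obtain ⟨v, hv, hv1, hvc⟩ := four_exists h4 c
  rw [cent_four hW h4 hc h1 hv hv1 hvc]
  refine ⟨mul_mem hnc hmc, mem_cent1_of_conj_eq ?_⟩
  have e1 := four_conj' hW h4 hc h1 hn hnc hnW hv hv1 hvc
  have e2 := four_conj' hW h4 hc h1 hm hmc hmW hv hv1 hvc
  calc n * m * v * (n * m)⁻¹ = n * (m * v * m⁻¹) * n⁻¹ := by group
    _ = (n * v * n⁻¹) * (n * c * n⁻¹) := by rw [e2]; group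
    _ = v := by rw [e1, conj_eq_of_mem_cent1 hnc, mul_assoc, hW c hc, mul_one]

/-- A `2`-group normalizing a four-group fixes an involution of it. -/
theorem four_fix (hW : El W) (h4 : Nat.card W = 4) {P : Subgroup X} (hP : IsPGroup 2 P)
    (hN : P ≤ 𝐍(W)) : ∃ c ∈ W, c ≠ 1 ∧ P ≤ 𝐂[c] := by
  have h1 : IsPGroup 2 (P ⊔ W : Subgroup X) := hP.to_sup_of_normal_right' hW.isPGroup hN
  have hne : W ≠ ⊥ := fun e => by rw [e, card_bot] at h4; omega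
  obtain ⟨c, hc, hc1, hc2⟩ := U4.inf_cent_ne_bot_iff.1 (inf_centralizer_ne_bot_of_isNilpotent
    h1.isNilpotent le_sup_right (sup_le hN le_normalizer) hne)
  exact ⟨c, hc, hc1, fun x hx => mem_cent1.2 (mem_cent.1 hc2 x (mem_sup_left hx))⟩

theorem VxD.Zt_le (h : VxD T W u H A0 d z0) : Zt T ≤ T ⊓ 𝐂(W) :=
  le_inf (CP.Zt_le T) ((Zt_le_cent T).trans (cent_anti h.WT))

theorem VxD.exists_a (h : VxD T W u H A0 d z0) : ∃ x ∈ A0, x ∉ 𝐂(W) := by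
  by_contra hn
  push Not at hn
  exact h.AW hn

theorem card_eq_two_mul {A C : Subgroup X} (hA : El A) (hn : ¬ A ≤ C)
    (h : ∀ x ∈ A, ∀ y ∈ A, x ∉ C → y ∉ C → x * y ∈ C) :
    Nat.card A = Nat.card (A ⊓ C : Subgroup X) * 2 := by
  obtain ⟨x, hx, hxC⟩ : ∃ x ∈ A, x ∉ C := by
    by_contra hc; push Not at hc; exact hn hc
  have h2 : C.relIndex A = 2 := by
    refine relIndex_eq_two_iff.2 ⟨x, hx, fun b hb => ?_⟩
    by_cases hb' : b ∈ C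
    · exact Or.inr ⟨hb', fun h' => hxC (by simpa using mul_mem (inv_mem hb') h')⟩
    · exact Or.inl ⟨h b hb x hx hb' hxC, hb'⟩
  rw [← card_inf_mul_relIndex C A, h2, inf_comm]

/-- Elements of `H` moving `u` move the superpoint `Y`. -/
theorem VxD.ne_pt (hT : IsSylowIn 2 T ⊤) (h : VxD T W u H A0 d z0) {g : X} (hg : g ∈ H)
    (hgu : g ∉ 𝐂[u]) : g ∉ 𝐍(Yt T) := by
  intro e
  obtain ⟨x, hx, hxW⟩ := h.exists_a
  obtain ⟨X0, hX, hXE, hAX⟩ := h.mx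
  have h0 : z0 ∈ Yt T := Zt_le_Yt T h.zZ
  have h1 : g * z0 * g⁻¹ ∈ Yt T := norm_mem e h0
  have h2 : g * u * g⁻¹ * u = (g * z0 * g⁻¹)⁻¹ * z0 := by
    have := conj_eq_of_mem_cent1 (h.Hz hg)
    calc g * u * g⁻¹ * u = (g * z0 * g⁻¹)⁻¹ * (g * (z0 * u) * g⁻¹) * u := by group
      _ = (g * z0 * g⁻¹)⁻¹ * z0 * (u * u) := by rw [this]; group
      _ = _ := by rw [h.elW u h.uW, mul_one]
  have hxT := (h.AN hx).1
  have hxu := h.Nu (h.AN hx)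
  have hcW : g * u * g⁻¹ * u ∈ W := mul_mem (norm_mem (h.HW hg) h.uW) h.uW
  have hc1 : g * u * g⁻¹ * u ≠ 1 := fun e' => hgu (mem_cent1_of_conj_eq
    ((eq_inv_of_mul_eq_one_left e').trans (h.elW.inv h.uW)))
  have hcu : g * u * g⁻¹ * u ≠ u := fun e' => h.u1 (by simpa using e')
  have hcU : g * u * g⁻¹ * u ∈ Yt T ⊓ 𝐂(T ⊓ 𝐂(W)) :=
    ⟨h2 ▸ (Yt T).mul_mem ((Yt T).inv_mem h1) h0, lcc inf_le_right hcW⟩
  have hEN : T ⊓ 𝐂(W) ≤ 𝐍(Yt T) := inf_le_left.trans (le_norm_Yt T)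
  refine four_not_cent h.elW h.cardW h.uW h.u1 hxu hxW hcW hc1 hcu (mem_cent1_comm.1
    (cent_of_small_one hEN (le_norm_Yt T hxT) ?_ hcU))
  set U := Yt T ⊓ 𝐂(T ⊓ 𝐂(W)) with hU
  have hUel : El U := (Yt_el T).mono inf_le_left
  have hA1 : El (A0 ⊓ 𝐂(W)) := h.elA.mono inf_le_left
  have hA1E : A0 ⊓ 𝐂(W) ≤ T ⊓ 𝐂(W) := inf_le_inf_right _ (h.AN.trans inf_le_left)
  have hUA : U ≤ 𝐂(A0 ⊓ 𝐂(W)) := inf_le_right.trans (cent_anti hA1E)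
  have hUX : U ≤ X0 := (hX.le_Om hT hUel (inf_le_right.trans (cent_anti hXE))).trans (Om_le X0)
  have k1 := (hX.bad.mono (sup_le hAX hUX)).card_le (hA1.sup hUel hUA)
  have k2 := card_eq_two_mul h.elA h.AW fun y hy y' hy' h3 h4 =>
    four_mul_mem h.elW h.cardW h.uW h.u1 (h.AN hy).2 (h.Nu (h.AN hy)) h3 (h.AN hy').2
      (h.Nu (h.AN hy')) h4
  have k3 := card_sup_mul_card_inf (H := A0 ⊓ 𝐂(W)) (N := U) ((lcc hUA).trans (cent_le_norm U))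
  have k4 : Nat.card ((A0 ⊓ 𝐂(W)) ⊓ U : Subgroup X) ≤ Nat.card (𝐂[x] ⊓ U : Subgroup X) :=
    card_le_of_le (inf_le_inf_right _ (inf_le_left.trans (h.elA.le_cent1 hx)))
  have k5 := card_inf_mul_relIndex 𝐂[x] U
  have k6 := h.cardA
  have p1 : 0 < Nat.card (A0 ⊓ 𝐂(W) : Subgroup X) := Nat.card_pos
  have p2 : 0 < Nat.card (𝐂[x] ⊓ U : Subgroup X) := Nat.card_pos
  have k7 : Nat.card (A0 ⊓ 𝐂(W) : Subgroup X) * (Nat.card (𝐂[x] ⊓ U : Subgroup X) *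
      (𝐂[x]).relIndex U) ≤ Nat.card (A0 ⊓ 𝐂(W) : Subgroup X) *
        (Nat.card (𝐂[x] ⊓ U : Subgroup X) * 2) := by
    rw [k5, ← k3]
    calc _ ≤ (Nat.card (A0 ⊓ 𝐂(W) : Subgroup X) * 2) * Nat.card (𝐂[x] ⊓ U : Subgroup X) :=
          Nat.mul_le_mul (by omega) k4
      _ = _ := by ring
  have k8 := Nat.le_of_mul_le_mul_left (Nat.le_of_mul_le_mul_left k7 p1) p2
  omega

theorem VxD.bad (hT : IsSylowIn 2 T ⊤) (h : VxD T W u H A0 d z0) : Bad T (T ⊓ 𝐂(W)) := by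
  have h1 : T ⊓ 𝐂(W) ≤ 𝐂(Zt T) := inf_le_left.trans (le_cent_Zt T)
  have h2 := cj_cent h1 d
  rw [cj_eq (h.HE h.dH)] at h2
  exact ⟨hT.isPGroup.to_le inf_le_left, Zt T, d •ᶜ Zt T, pt_Zt T, (pt_Zt T).cj d,
    sp_cj_Zt_ne (h.ne_pt hT h.dH h.du), h.Zt_le.trans h2, h1, h2⟩

theorem VxD.maxW (hT : IsSylowIn 2 T ⊤) (h : VxD T W u H A0 d z0) :
    MaxW T (WB T (T ⊓ 𝐂(W))) :=
  ⟨WB_idem _ _, (h.bad hT).mono (WB_le _ _), h.max⟩

theorem VxD.W_le_Om (hT : IsSylowIn 2 T ⊤) (h : VxD T W u H A0 d z0) :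
    W ≤ Om (WB T (T ⊓ 𝐂(W))) :=
  (h.maxW hT).le_Om hT h.elW (lcc ((WB_le _ _).trans inf_le_right))

theorem VxD.H_le (h : VxD T W u H A0 d z0) : H ≤ 𝐍(WB T (T ⊓ 𝐂(W))) :=
  h.HE.trans (norm_le_norm_WB _ _)

/-- (v2) -/
theorem VxD.bb (hT : IsSylowIn 2 T ⊤) (h : VxD T W u H A0 d z0) {A : Subgroup X} (hA : El A)
    (hc : KK T ≤ Nat.card A) (hH : A ≤ H) (hn : ¬ A ≤ 𝐂(W)) :
    BB T ((A ⊓ 𝐂(W)) ⊔ W) ∧ (A ⊓ 𝐂(W)) ⊔ W ≤ T ⊓ 𝐂(W) ∧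
      ∀ x ∈ A, ∀ y ∈ A, x ∉ 𝐂(W) → y ∉ 𝐂(W) → x * y ∈ 𝐂(W) := by
  obtain ⟨c, hcW, hc1, hAc⟩ := four_fix h.elW h.cardW hA.isPGroup (hH.trans h.HW)
  have h3 : ∀ x ∈ A, ∀ y ∈ A, x ∉ 𝐂(W) → y ∉ 𝐂(W) → x * y ∈ 𝐂(W) := fun x hx y hy h1 h2 =>
    four_mul_mem h.elW h.cardW hcW hc1 (h.HW (hH hx)) (hAc hx) h1 (h.HW (hH hy)) (hAc hy) h2
  have hA1 : El (A ⊓ 𝐂(W)) := hA.mono inf_le_left
  have h2 : (A ⊓ 𝐂(W)) ⊔ W ≤ T ⊓ 𝐂(W) :=
    sup_le (le_inf (h.two _ hA1.isPGroup (inf_le_left.trans hH) inf_le_right) inf_le_right)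
      (le_inf h.WT h.elW.le_cent)
  refine ⟨BB.of_le (hA1.sup h.elW (lcc inf_le_right)) ((h.bad hT).mono h2) (hc.trans ?_), h2, h3⟩
  have h4 := card_eq_two_mul hA hn h3
  have h5 := card_sup_mul_card_inf (H := A ⊓ 𝐂(W)) (N := W) (inf_le_right.trans (cent_le_norm W))
  have h6 : Nat.card ((A ⊓ 𝐂(W)) ⊓ W : Subgroup X) ≤ 2 := by
    have h7 : Nat.card ((A ⊓ 𝐂(W)) ⊓ W : Subgroup X) ∣ 2 ^ 2 := by
      have := card_dvd_of_le (inf_le_right : (A ⊓ 𝐂(W)) ⊓ W ≤ W)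
      rwa [h.cardW] at this
    obtain ⟨i, hi, h8⟩ := (Nat.dvd_prime_pow Nat.prime_two).1 h7
    by_contra h9
    have h10 : i = 2 := by
      rw [h8] at h9
      interval_cases i <;> simp_all
    have h11 := eq_of_le_of_card_ge (inf_le_right : (A ⊓ 𝐂(W)) ⊓ W ≤ W) (by rw [h8, h10, h.cardW]; norm_num)
    exact hn (hA.le_cent' le_rfl (h11.ge.trans (inf_le_left.trans inf_le_left)))
  rw [h.cardW] at h5
  rw [h4]
  nlinarith [h5, h6]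

/-- There is an element of `d A0 d⁻¹` not commuting with `u`. -/
theorem VxD.exists_e (h : VxD T W u H A0 d z0) : ∃ e ∈ d •ᶜ A0, e ∉ 𝐂[u] := by
  obtain ⟨x, hx, hxW⟩ := h.exists_a
  refine ⟨_, cj_mem hx, fun hc => ?_⟩
  refine four_not_cent h.elW h.cardW h.uW h.u1 (h.Nu (h.AN hx)) hxW
    (norm_mem (inv_mem (h.HW h.dH)) h.uW) (U4.conj_ne_one_iff.2 h.u1)
    (fun e => h.du (by simpa using inv_mem (mem_cent1_of_conj_eq e))) ?_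
  rw [cent1_conj, mem_map_conj_iff, inv_inv]
  exact hc

theorem exists_last {g : X} (h1 : g ≠ 1) {m : ℕ} (hm : g ^ 2 ^ m = 1) :
    ∃ k, g ^ 2 ^ k ≠ 1 ∧ g ^ 2 ^ (k + 1) = 1 := by
  induction m with
  | zero => exact absurd (by simpa using hm) h1
  | succ m ih =>
    by_cases h : g ^ 2 ^ m = 1
    · exact ih h
    · exact ⟨m, h, hm⟩

/-- (β3) -/
theorem Vx.beta (hT : IsSylowIn 2 T ⊤) (h : Vx T W u) (lc : LC T W u) {v y : X} (hv : v ∈ W)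
    (hyT : y ∈ T) (hyu : y ∈ 𝐂[u]) (hy : y * y = 1) (hvy : y ∉ 𝐂[v]) :
    ∃ k : ℕ, ((v * y) ^ 2) ^ 2 ^ k = u := by
  obtain ⟨H, A0, d, z0, h⟩ := h
  have hv2 := h.elW v hv
  have hv1 : v ≠ 1 := by rintro rfl; exact hvy (by simp [mem_cent1])
  have hvu : v ≠ u := by rintro rfl; exact hvy hyu
  have hxT : v * y ∈ T := mul_mem (h.WT hv) hyT
  have hxu : v * y ∈ 𝐂[u] := mul_mem (h.elW.le_cent1 h.uW hv) hyu
  obtain ⟨m, hm⟩ := hT.isPGroup ⟨_, hxT⟩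
  have hm' : (v * y) ^ 2 ^ m = 1 := by simpa using congrArg Subtype.val hm
  have hne : (v * y) ^ 2 ≠ 1 := fun e => hvy (mem_cent1.2 (by
    have e1 : v * y = (v * y)⁻¹ := eq_inv_of_mul_eq_one_left (by rw [← sq, e])
    rw [e1, mul_inv_rev, Invol.inv_eq hy, Invol.inv_eq hv2]))
  obtain ⟨k, hk1, hk2⟩ := exists_last hne (m := m) (by rw [← pow_mul, mul_comm, pow_mul, hm', one_pow])
  refine ⟨k, ?_⟩
  set n := (v * y) ^ 2 ^ k with hn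
  have hnn : n * n = ((v * y) ^ 2) ^ 2 ^ k := by rw [hn, ← pow_add, ← pow_mul]; congr 1; ring
  have hι : n * n * (n * n) = 1 := by rw [hnn, ← pow_add, ← hk2]; congr 1; ring
  have hinv : v * n * v⁻¹ = n⁻¹ :=
    Invol.inverts_of_mem_zpowers (Invol.inverts_mul hv2 hy) (pow_mem (mem_zpowers _) _)
  have hc : n * v * n⁻¹ = n * n * v := by
    calc n * v * n⁻¹ = n * (v * n * v⁻¹)⁻¹ * v := by group
      _ = _ := by rw [hinv, inv_inv]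
  have hnu : n ∈ 𝐂[u] := pow_mem hxu _
  have hιv : n * n ∈ 𝐂[v] := mem_cent1_comm.1 (mem_cent1_of_conj_eq (by
    rw [← _root_.conj_mul, hinv, ← mul_inv_rev, Invol.inv_eq hι]))
  have hN : n ∈ 𝐍(W) := by
    refine lc n (pow_mem hxT _) hnu ?_
    rw [cent_four h.elW h.cardW h.uW h.u1 hv hv1 hvu]
    conv_lhs => rw [four_eq_V h.elW h.cardW h.uW h.u1 hv hv1 hvu]
    rw [← V_conj, conj_eq_of_mem_cent1 hnu, hc]
    exact V_le ⟨U4.self_mem_cent1 u, h.elW.le_cent1 hv h.uW⟩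
      ⟨mul_mem (mul_mem hnu hnu) (h.elW.le_cent1 h.uW hv), mul_mem hιv (U4.self_mem_cent1 v)⟩
  rw [← hnn]
  rcases four_conj h.elW h.cardW h.uW h.u1 hN hnu hv with e | e
  · rw [hc] at e
    exact absurd (hnn ▸ (by simpa using e)) hk1
  · rw [hc, h.elW.comm hv h.uW] at e
    exact mul_right_cancel e

theorem eq_of_pow_two_pow {g x y : X} {k j : ℕ} (hx : g ^ 2 ^ k = x) (hy : g ^ 2 ^ j = y)
    (hx2 : x * x = 1) (hy2 : y * y = 1) (hx1 : x ≠ 1) (hy1 : y ≠ 1) : x = y := by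
  have key : ∀ {x y : X} {k j : ℕ}, g ^ 2 ^ k = x → g ^ 2 ^ j = y → x * x = 1 → y ≠ 1 →
      ¬ k < j := by
    intro x y k j hx hy hx2 hy1 hlt
    obtain ⟨i, rfl⟩ := Nat.exists_eq_add_of_lt hlt
    apply hy1
    rw [← hy, show 2 ^ (k + i + 1) = 2 ^ k * 2 * 2 ^ i by ring, pow_mul, pow_mul, hx, sq, hx2,
      one_pow]
  have h1 := key hx hy hx2 hy1
  have h2 := key hy hx hy2 hx1
  have : k = j := by omega
  rw [← hx, ← hy, this]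

/-- (Comm) -/
theorem Vx.comm (hT : IsSylowIn 2 T ⊤) {W' : Subgroup X} {u' : X} (h : Vx T W u) (lc : LC T W u)
    (h' : Vx T W' u') (lc' : LC T W' u') (hne : u ≠ u') (h1 : W ≤ 𝐂[u']) (h2 : W' ≤ 𝐂[u]) :
    W' ≤ 𝐂(W) := by
  intro w' hw'
  rw [mem_cent]
  intro w hw
  by_contra hc
  obtain ⟨_, _, _, _, g⟩ := id h
  obtain ⟨_, _, _, _, g'⟩ := id h'
  obtain ⟨k, hk⟩ := h.beta hT lc hw (g'.WT hw') (h2 hw') (g'.elW w' hw')
    (fun e => hc (mem_cent1'.1 e))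
  obtain ⟨j, hj⟩ := h'.beta hT lc' hw' (g.WT hw) (h1 hw) (g.elW w hw)
    (fun e => hc (mem_cent1.1 e))
  have e : w' * w = (w * w')⁻¹ := by rw [mul_inv_rev, g.elW.inv hw, g'.elW.inv hw']
  rw [e, inv_pow, inv_pow, inv_eq_iff_eq_inv, g'.elW.inv g'.uW] at hj
  exact hne (eq_of_pow_two_pow hk hj (g.elW u g.uW) (g'.elW u' g'.uW) g.u1 g'.u1)

end CfsgLib.CP
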